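import Mathlib.LinearAlgebra.Matrix.ToLin
import Mathlib.LinearAlgebra.Dimension.RankNullity
import Mathlib.LinearAlgebra.FreeModule.PID
import Mathlib.LinearAlgebra.FreeModule.Finite.Basic
import Mathlib.RingTheory.Polynomial.Basic
import Mathlib.RingTheory.PrincipalIdealDomain
import Mathlib.Algebra.Polynomial.RingDivision
import Mathlib.Algebra.Ring.GeomSum
import Mathlib.Algebra.CharP.Lemmas
import Mathlib.LinearAlgebra.Projection
import Mathlib.Algebra.Polynomial.Expand
import Mathlib.LinearAlgebra.FiniteDimensional.Lemmas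
import Mathlib.LinearAlgebra.Basis.VectorSpace
import Mathlib.Tactic.LinearCombination

/-!
# Lattices over a cyclic group of prime order with an unramified coefficient ring

`U` is the range of an idempotent commuting with `X`; the two cohomology spaces are the
subquotients `K₀ / B₀` and `K₁ / B₁` of the reduction.
-/

set_option autoImplicit false

namespace CfsgLib.DefectOne

section LinearAlgebra

variable {k W : Type*} [Field k] [AddCommGroup W] [Module k W] [FiniteDimensional k W]

theorem finrank_map_add_inf_ker {W' : Type*} [AddCommGroup W'] [Module k W']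
    (M : Submodule k W) (A : W →ₗ[k] W') :
    Module.finrank k (M.map A) + Module.finrank k (M ⊓ A.ker : Submodule k W) =
      Module.finrank k M := by
  rw [← LinearMap.finrank_range_add_finrank_ker (A.domRestrict M)]
  congr 1
  · rw [LinearMap.range_domRestrict]
  · rw [LinearMap.ker_domRestrict]
    refine (LinearEquiv.finrank_eq (Submodule.comapSubtypeEquivOfLe
      (inf_le_left : M ⊓ A.ker ≤ M))).symm.trans ?_
    rw [Submodule.comap_inf, Submodule.comap_subtype_self, top_inf_eq]

/-- A map of a pair `B ≤ K` is a sum of rank-one maps vanishing on `B`, modulo `B`. -/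
theorem exists_rankOne_sum {B K : Submodule k W} (hBK : B ≤ K) (f : W →ₗ[k] W)
    (hfK : ∀ y ∈ K, f y ∈ K) (hfB : ∀ y ∈ B, f y ∈ B) :
    ∃ (m : ℕ) (v : Fin m → W) (φ : Fin m → Module.Dual k W), (∀ l, v l ∈ K) ∧
      (∀ l, ∀ y ∈ B, φ l y = 0) ∧ ∀ y ∈ K, f y - ∑ l, φ l y • v l ∈ B := by
  obtain ⟨D, hD⟩ := Submodule.exists_isCompl (Submodule.comap K.subtype B)
  set D' := D.map K.subtype with hD'
  have hD'K : D' ≤ K := Submodule.map_subtype_le _ _
  have hdisj : Disjoint D' B := by
    rw [Submodule.disjoint_def]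
    rintro y ⟨z, hz, rfl⟩ hy
    exact congrArg Subtype.val (Submodule.disjoint_def.1 hD.disjoint z hy hz)
  obtain ⟨C, hDC, hC⟩ := hdisj.exists_isCompl
  set b := Module.finBasis k D'
  obtain ⟨P, hP⟩ := LinearMap.exists_extend (p := C)
    (LinearMap.id : C →ₗ[k] C)
  refine ⟨_, fun l => (b l : W), fun l => (b.coord l).comp
    ((LinearMap.exists_extend (p := D') (LinearMap.id : D' →ₗ[k] D')).choose.comp
      ((C.subtype.comp (Submodule.projectionOnto C B hC)).comp f)),
    fun l => hD'K (b l).2, fun l y hy => ?_, fun y hy => ?_⟩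
  · simp [Submodule.projectionOnto_apply_of_mem_right hC (hfB y hy)]
  · set E := (LinearMap.exists_extend (p := D') (LinearMap.id : D' →ₗ[k] D')).choose
    have hE : E.comp D'.subtype = LinearMap.id :=
      (LinearMap.exists_extend (p := D') (LinearMap.id : D' →ₗ[k] D')).choose_spec
    obtain ⟨c, hc, d, hd, hcd⟩ := Submodule.mem_sup.1
      ((hD.sup_eq_top) ▸ Submodule.mem_top : (⟨f y, hfK y hy⟩ : K) ∈
        Submodule.comap K.subtype B ⊔ D)
    have hcd' : (c : W) + (d : W) = f y := congrArg Subtype.val hcd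
    have hdD : (d : W) ∈ D' := Submodule.mem_map_of_mem hd
    have hproj : (Submodule.projectionOnto C B hC (f y) : W) = d := by
      rw [← hcd', map_add, Submodule.projectionOnto_apply_of_mem_right hC (by exact hc), zero_add,
        Submodule.projectionOnto_apply_left hC ⟨d, hDC hdD⟩]
    have hEd : E (d : W) = ⟨d, hdD⟩ := LinearMap.congr_fun hE ⟨d, hdD⟩
    have hsum : ∑ l, b.coord l (⟨d, hdD⟩ : D') • (b l : W) = d := by
      have := congrArg Subtype.val (b.sum_repr (⟨d, hdD⟩ : D'))
      simp only [AddSubmonoidClass.coe_finsetSum, SetLike.val_smul] at this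
      exact this
    simp only [LinearMap.comp_apply, Submodule.subtype_apply, hproj, hEd, hsum]
    rw [← hcd', add_sub_cancel_right]
    exact hc

end LinearAlgebra

variable {R k : Type*} [CommRing R] [Field k] (π : R →+* k) [RingHomSurjective π]
variable {n : Type*} [Fintype n] [DecidableEq n]

/-- Reduction of vectors. -/
def red : (n → R) →ₛₗ[π] (n → k) where
  toFun v i := π (v i)
  map_add' u v := funext fun i => map_add π _ _
  map_smul' r v := funext fun i => map_mul π _ _

theorem red_apply (v : n → R) (i : n) : red π v i = π (v i) := rfl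

theorem red_mulVec (A : Matrix n n R) (v : n → R) :
    red π (A.mulVec v) = (π.mapMatrix A).mulVec (red π v) :=
  funext fun i => RingHom.map_mulVec π A v i

theorem red_surjective : Function.Surjective (red π (n := n)) := fun v =>
  ⟨fun i => (RingHomSurjective.is_surjective (σ := π) (v i)).choose, funext fun i =>
    (RingHomSurjective.is_surjective (σ := π) (v i)).choose_spec⟩

theorem exists_dual_lift (φ : Module.Dual k (n → k)) :
    ∃ φ' : Module.Dual R (n → R), ∀ v, π (φ' v) = φ (red π v) := by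
  obtain ⟨c, hc⟩ := red_surjective π (n := n) (fun i => φ (Pi.single i 1))
  refine ⟨∑ i, c i • LinearMap.proj i, fun v => ?_⟩
  conv_rhs => rw [pi_eq_sum_univ' (red π v)]
  simp only [LinearMap.sum_apply, LinearMap.smul_apply, LinearMap.proj_apply, smul_eq_mul,
    map_sum, map_mul, map_smul]
  refine Finset.sum_congr rfl fun i _ => ?_
  rw [← congrFun hc i, red_apply, red_apply, mul_comm]

variable {p : ℕ}

/-- A saturated submodule has the rank of its reduction. -/
theorem finrank_map_red [IsDomain R] [IsPrincipalIdealRing R] [Fact p.Prime] [CharP k p]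
    (hker : ∀ x, π x = 0 → (p : R) ∣ x) (hp0 : (p : R) ≠ 0) (U : Submodule R (n → R))
    (hpure : ∀ v, (p : R) • v ∈ U → v ∈ U) :
    Module.finrank k (U.map (red π)) = Module.finrank R U := by
  set b := Module.Free.chooseBasis R U
  have hspan : U.map (red π) = Submodule.span k (Set.range fun i => red π (b i : n → R)) := by
    refine le_antisymm ?_ (Submodule.span_le.2 ?_)
    · rintro _ ⟨u, hu, rfl⟩
      have h := congrArg Subtype.val (b.sum_repr ⟨u, hu⟩)
      simp only [AddSubmonoidClass.coe_finsetSum, SetLike.val_smul] at h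
      rw [← h, map_sum]
      exact Submodule.sum_mem _ fun i _ => by
        rw [LinearMap.map_smulₛₗ]
        exact Submodule.smul_mem _ _ (Submodule.subset_span ⟨i, rfl⟩)
    · rintro _ ⟨i, rfl⟩
      exact Submodule.mem_map_of_mem (b i).2
  have hli : LinearIndependent k fun i => red π (b i : n → R) := by
    rw [Fintype.linearIndependent_iff]
    intro g hg i
    choose c hc using fun i => RingHomSurjective.is_surjective (σ := π) (g i)
    set u : U := ∑ j, c j • b j with hu
    have h0 : red π (u : n → R) = 0 := by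
      rw [hu]
      simp only [AddSubmonoidClass.coe_finsetSum, SetLike.val_smul, map_sum,
        LinearMap.map_smulₛₗ, hc, hg]
    choose w hw using fun j => hker _ (congrFun h0 j)
    have hwU : (p : R) • w ∈ U := by
      have : (p : R) • w = (u : n → R) := funext fun j => (hw j).symm
      exact this ▸ u.2
    have heq : u = (p : R) • (⟨w, hpure w hwU⟩ : U) := Subtype.ext (funext fun j => hw j)
    have h2 := congrArg (fun z => b.repr z i) heq
    simp [hu, Finsupp.single_apply] at h2
    rw [← hc i, h2]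
    have hz : (⟨(p : R) • w, hwU⟩ : U) = (p : R) • ⟨w, hpure w hwU⟩ := rfl
    rw [hz, map_smul, Finsupp.smul_apply, smul_eq_mul, map_mul, map_natCast, CharP.cast_eq_zero,
      zero_mul]
  rw [hspan, finrank_span_eq_card hli, Module.finrank_eq_card_basis b]

omit [RingHomSurjective π] in
theorem exists_geom_identity [Fact p.Prime] [CharP k p] [IsDomain R]
    (hker : ∀ x, π x = 0 → (p : R) ∣ x) (hp0 : (p : R) ≠ 0) :
    (∑ i ∈ Finset.range p, (Polynomial.X : Polynomial k) ^ i =
        (Polynomial.X - 1) ^ (p - 1)) ∧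
    ∃ A : Polynomial R, ∑ i ∈ Finset.range p, (Polynomial.X : Polynomial R) ^ i =
      (Polynomial.X - 1) ^ (p - 1) + (p : Polynomial R) * (1 + (Polynomial.X - 1) * A) := by
  have hp := (Fact.out : p.Prime)
  have hk : ∑ i ∈ Finset.range p, (Polynomial.X : Polynomial k) ^ i =
      (Polynomial.X - 1) ^ (p - 1) := by
    refine mul_right_cancel₀ (b := (Polynomial.X - 1 : Polynomial k))
      (by simpa using Polynomial.X_sub_C_ne_zero (1 : k)) ?_
    rw [geom_sum_mul, ← pow_succ, Nat.sub_add_cancel hp.one_le, sub_pow_char, one_pow]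
  refine ⟨hk, ?_⟩
  obtain ⟨Q, hQ⟩ : Polynomial.C (p : R) ∣
      ∑ i ∈ Finset.range p, (Polynomial.X : Polynomial R) ^ i - (Polynomial.X - 1) ^ (p - 1) := by
    rw [Polynomial.C_dvd_iff_dvd_coeff]
    intro i
    refine hker _ ?_
    rw [← Polynomial.coeff_map]
    simp [Polynomial.map_sum, hk]
  have h1 := congrArg (Polynomial.eval 1) hQ
  simp [Polynomial.eval_finsetSum, zero_pow (Nat.sub_ne_zero_of_lt hp.one_lt)] at h1
  have hQ1 : Polynomial.eval 1 Q = 1 := mul_left_cancel₀ hp0 (by rw [← h1, mul_one])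
  obtain ⟨A, hA⟩ : Polynomial.X - Polynomial.C 1 ∣ Q - 1 := by
    rw [Polynomial.dvd_iff_isRoot]; simp [hQ1]
  refine ⟨A, ?_⟩
  rw [map_one] at hA
  rw [map_natCast] at hQ
  linear_combination hQ + (p : Polynomial R) * hA

/-- The sum of the powers of `X`. -/
def geom (p : ℕ) (X : Matrix n n R) : Matrix n n R := ∑ i ∈ Finset.range p, X ^ i

/-- The range of an idempotent. -/
def rangeE (E : Matrix n n R) : Submodule R (n → R) := E.mulVecLin.range

/-- The fixed vectors. -/
def fixed (E X : Matrix n n R) : Submodule R (n → R) := rangeE E ⊓ (X - 1).mulVecLin.ker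

/-- The vectors killed by the norm. -/
def normKer (p : ℕ) (E X : Matrix n n R) : Submodule R (n → R) :=
  rangeE E ⊓ (geom p X).mulVecLin.ker

/-- Reduction of the fixed vectors. -/
def K₀ (E X : Matrix n n R) : Submodule k (n → k) := (fixed E X).map (red π)

/-- Reduction of the norms. -/
def B₀ (p : ℕ) (E X : Matrix n n R) : Submodule k (n → k) :=
  ((rangeE E).map (geom p X).mulVecLin).map (red π)

/-- Reduction of the kernel of the norm. -/
def K₁ (p : ℕ) (E X : Matrix n n R) : Submodule k (n → k) := (normKer p E X).map (red π)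

/-- Reduction of the commutators. -/
def B₁ (E X : Matrix n n R) : Submodule k (n → k) :=
  ((rangeE E).map (X - 1).mulVecLin).map (red π)

variable {E X : Matrix n n R}

theorem mem_rangeE (hE : E * E = E) {v : n → R} : v ∈ rangeE E ↔ E.mulVec v = v := by
  constructor
  · rintro ⟨u, rfl⟩
    simp [Matrix.mulVec_mulVec, hE]
  · exact fun h => ⟨v, h⟩

theorem mulVec_mem_rangeE {A : Matrix n n R} (hA : Commute A E) {v : n → R}
    (hv : v ∈ rangeE E) : A.mulVec v ∈ rangeE E := by
  obtain ⟨u, rfl⟩ := hv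
  exact ⟨A.mulVec u, by simp [Matrix.mulVec_mulVec, hA.eq]⟩

theorem commute_geom {A : Matrix n n R} (hA : Commute A X) : Commute A (geom p X) :=
  Commute.sum_right _ _ _ fun i _ => hA.pow_right i

theorem sub_one_mul_geom (hX : X ^ p = 1) : (X - 1) * geom p X = 0 := by
  rw [geom, mul_geom_sum, hX, sub_self]

theorem geom_mul_sub_one (hX : X ^ p = 1) : geom p X * (X - 1) = 0 := by
  rw [geom, geom_sum_mul, hX, sub_self]

theorem commute_sub_one (hc : Commute E X) : Commute (X - 1) E :=
  hc.symm.sub_left (Commute.one_left E)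

theorem B₀_le (hE : E * E = E) (hc : Commute E X) (hX : X ^ p = 1) :
    B₀ π p E X ≤ K₀ π E X := by
  refine Submodule.map_mono ?_
  rintro _ ⟨u, hu, rfl⟩
  refine ⟨mulVec_mem_rangeE (commute_geom hc).symm hu, ?_⟩
  show (X - 1).mulVec ((geom p X).mulVec u) = 0
  rw [Matrix.mulVec_mulVec, sub_one_mul_geom hX, Matrix.zero_mulVec]

theorem B₁_le (hE : E * E = E) (hc : Commute E X) (hX : X ^ p = 1) :
    B₁ π E X ≤ K₁ π p E X := by
  refine Submodule.map_mono ?_
  rintro _ ⟨u, hu, rfl⟩
  refine ⟨mulVec_mem_rangeE (commute_sub_one hc) hu, ?_⟩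
  show (geom p X).mulVec ((X - 1).mulVec u) = 0
  rw [Matrix.mulVec_mulVec, geom_mul_sub_one hX, Matrix.zero_mulVec]

variable [IsDomain R]

theorem natCast_smul_cancel (hp0 : (p : R) ≠ 0) {u v : n → R} (h : (p : R) • u = (p : R) • v) :
    u = v :=
  funext fun i => mul_left_cancel₀ hp0 (congrFun h i)

theorem fixed_pure (hE : E * E = E) (hp0 : (p : R) ≠ 0) (v : n → R)
    (hv : (p : R) • v ∈ fixed E X) : v ∈ fixed E X := by
  obtain ⟨h1, h2⟩ := hv
  refine ⟨(mem_rangeE hE).2 (natCast_smul_cancel hp0 ?_), natCast_smul_cancel hp0 ?_⟩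
  · have := (mem_rangeE hE).1 h1
    rwa [Matrix.mulVec_smul] at this
  · have : (X - 1).mulVecLin ((p : R) • v) = 0 := h2
    rw [map_smul] at this
    simpa using this

theorem normKer_pure (hE : E * E = E) (hp0 : (p : R) ≠ 0) (v : n → R)
    (hv : (p : R) • v ∈ normKer p E X) : v ∈ normKer p E X := by
  obtain ⟨h1, h2⟩ := hv
  refine ⟨(mem_rangeE hE).2 (natCast_smul_cancel hp0 ?_), natCast_smul_cancel hp0 ?_⟩
  · have := (mem_rangeE hE).1 h1
    rwa [Matrix.mulVec_smul] at this
  · have : (geom p X).mulVecLin ((p : R) • v) = 0 := h2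
    rw [map_smul] at this
    simpa using this

theorem geom_fixed {u : n → R} (hu : u ∈ fixed E X) :
    (geom p X).mulVec u = (p : R) • u := by
  have h : X.mulVec u = u := by
    have : (X - 1).mulVecLin u = 0 := hu.2
    simpa [Matrix.sub_mulVec, sub_eq_zero] using this
  have hpow : ∀ i : ℕ, (X ^ i).mulVec u = u := by
    intro i
    induction i with
    | zero => simp
    | succ i ih => rw [pow_succ, ← Matrix.mulVec_mulVec, h, ih]
  simp [geom, Matrix.sum_mulVec, hpow, ← Nat.cast_smul_eq_nsmul R]

variable [Fact p.Prime] [CharP k p]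

/-- The Euler characteristic of the two subquotients. -/
theorem euler_formula (hker : ∀ x, π x = 0 → (p : R) ∣ x) (hp0 : (p : R) ≠ 0) (hE : E * E = E)
    (hc : Commute E X) (hX : X ^ p = 1) :
    ∃ c : ℕ, Module.finrank k (K₁ π p E X) = (p - 1) * c ∧
      Module.finrank k (B₁ π E X) + c =
        Module.finrank k (K₁ π p E X) + Module.finrank k (B₀ π p E X) := by
  have hp := (Fact.out : p.Prime)
  obtain ⟨hgk, A, hA⟩ := exists_geom_identity π hker hp0
  set d : Module.End k (n → k) := Matrix.toLinAlgEquiv' (π.mapMatrix (X - 1)) with hd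
  have hdred : ∀ v, red π ((X - 1).mulVec v) = d (red π v) := fun v => by
    rw [red_mulVec, hd, Matrix.toLinAlgEquiv'_apply]
  have hgeomred : ∀ v, red π ((geom p X).mulVec v) = (d ^ (p - 1)) (red π v) := fun v => by
    rw [red_mulVec, hd, ← map_pow, Matrix.toLinAlgEquiv'_apply]
    congr 2
    have h := congrArg (Polynomial.aeval (π.mapMatrix X)) hgk
    simp only [map_sum, map_pow, map_sub, Polynomial.aeval_X, map_one] at h
    rw [geom, map_sum, map_sub, map_one]
    simpa only [map_pow] using h
  set U := (rangeE E).map (red π)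
  set K := K₁ π p E X with hK
  have hB₁ : B₁ π E X = U.map d := by
    apply le_antisymm
    · rintro _ ⟨_, ⟨u, hu, rfl⟩, rfl⟩
      exact ⟨red π u, ⟨u, hu, rfl⟩, (hdred u).symm⟩
    · rintro _ ⟨_, ⟨u, hu, rfl⟩, rfl⟩
      exact ⟨_, ⟨u, hu, rfl⟩, hdred u⟩
  have hB₀ : B₀ π p E X = U.map (d ^ (p - 1)) := by
    apply le_antisymm
    · rintro _ ⟨_, ⟨u, hu, rfl⟩, rfl⟩
      exact ⟨red π u, ⟨u, hu, rfl⟩, (hgeomred u).symm⟩
    · rintro _ ⟨_, ⟨u, hu, rfl⟩, rfl⟩
      exact ⟨_, ⟨u, hu, rfl⟩, hgeomred u⟩
  have hKd : ∀ (j : ℕ) (y : n → k), y ∈ K → (d ^ j) y ∈ K := by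
    intro j
    induction j with
    | zero => simp
    | succ j ih =>
      rintro y ⟨u, hu, rfl⟩
      rw [pow_succ, Module.End.mul_apply, ← hdred]
      refine ih _ ⟨_, ⟨mulVec_mem_rangeE (commute_sub_one hc) hu.1, ?_⟩, rfl⟩
      have hcg : Commute (geom p X) (X - 1) :=
        (commute_geom ((Commute.refl X).sub_left (Commute.one_left X))).symm
      have h0 : (geom p X).mulVec u = 0 := hu.2
      show (geom p X).mulVec ((X - 1).mulVec u) = 0
      rw [Matrix.mulVec_mulVec, hcg.eq, ← Matrix.mulVec_mulVec, h0, Matrix.mulVec_zero]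
  have hKzero : ∀ y ∈ K, (d ^ (p - 1)) y = 0 := by
    rintro y ⟨u, hu, rfl⟩
    have h0 : (geom p X).mulVec u = 0 := hu.2
    rw [← hgeomred, h0, map_zero]
  have hKU : K ≤ U := Submodule.map_mono inf_le_left
  have hker1 : ∀ y ∈ K, d y = 0 → y ∈ K.map (d ^ (p - 2)) := by
    rintro y ⟨u, hu, rfl⟩ hy
    rw [← hdred] at hy
    choose z hz using fun i => hker _ (congrFun hy i)
    have hz' : (X - 1).mulVec u = (p : R) • z := funext fun i => hz i
    have hzK : z ∈ normKer p E X := by
      refine normKer_pure hE hp0 z ?_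
      rw [← hz']
      refine ⟨mulVec_mem_rangeE (commute_sub_one hc) hu.1, ?_⟩
      show (geom p X).mulVec ((X - 1).mulVec u) = 0
      rw [Matrix.mulVec_mulVec, geom_mul_sub_one hX, Matrix.zero_mulVec]
    set Y := X - 1 with hY
    have hid : geom p X = Y ^ (p - 1) + (p : R) • (1 + Y * Polynomial.aeval X A) := by
      have h := congrArg (Polynomial.aeval X) hA
      simp only [map_sum, map_add, map_mul, map_pow, map_sub, map_one, map_natCast,
        Polynomial.aeval_X] at h
      rw [geom, h, hY, Nat.cast_smul_eq_nsmul, nsmul_eq_mul]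
    have h0 : (geom p X).mulVec u = 0 := hu.2
    have hQ : (1 + Y * Polynomial.aeval X A).mulVec u = -((Y ^ (p - 2)).mulVec z) := by
      refine natCast_smul_cancel hp0 ?_
      rw [hid, Matrix.add_mulVec, Matrix.smul_mulVec, add_eq_zero_iff_neg_eq] at h0
      rw [← h0, smul_neg, ← Matrix.mulVec_smul, ← hz', Matrix.mulVec_mulVec, ← pow_succ,
        show p - 2 + 1 = p - 1 by have := hp.two_le; omega]
    set a : Module.End k (n → k) :=
      Matrix.toLinAlgEquiv' (π.mapMatrix (Polynomial.aeval X A)) with ha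
    have hda : Commute d a := by
      refine ((Commute.map ?_ π.mapMatrix)).map Matrix.toLinAlgEquiv'
      have : Commute (Polynomial.aeval X (Polynomial.X - 1 : Polynomial R))
          (Polynomial.aeval X A) := (Commute.all _ A).map _
      simpa [hY] using this
    have hred : (1 + d * a) (red π u) = (d ^ (p - 2)) (red π (-z)) := by
      have h1 := congrArg (red π) hQ
      rw [red_mulVec, map_add, map_one, map_mul, ← Matrix.toLinAlgEquiv'_apply, map_add, map_one,
        map_mul, map_neg, red_mulVec, map_pow, ← Matrix.toLinAlgEquiv'_apply, map_pow] at h1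
      rw [map_neg, map_neg]
      exact h1
    have haK : ∀ (i : ℕ) w, w ∈ K → ((-a) ^ i) w ∈ K := by
      intro i
      induction i with
      | zero => simp
      | succ i ih =>
        rintro w ⟨v, hv, rfl⟩
        rw [pow_succ, Module.End.mul_apply, LinearMap.neg_apply, map_neg]
        refine neg_mem (ih _ ?_)
        rw [ha, Matrix.toLinAlgEquiv'_apply, ← red_mulVec]
        have hAX : Commute X (Polynomial.aeval X A) := by
          have : Commute (Polynomial.aeval X (Polynomial.X : Polynomial R))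
              (Polynomial.aeval X A) := (Commute.all _ A).map _
          simpa using this
        have hAE : Commute (Polynomial.aeval X A) E := by
          clear * - hc
          induction A using Polynomial.induction_on' with
          | add f g hf hg => rw [map_add]; exact hf.add_left hg
          | monomial m r =>
            rw [Polynomial.aeval_monomial]
            exact Commute.mul_left (Algebra.commutes r E) (hc.symm.pow_left m)
        refine ⟨_, ⟨mulVec_mem_rangeE hAE hv.1, ?_⟩, rfl⟩
        have h0' : (geom p X).mulVec v = 0 := hv.2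
        show (geom p X).mulVec ((Polynomial.aeval X A).mulVec v) = 0
        rw [Matrix.mulVec_mulVec, ← (commute_geom (p := p) hAX.symm).eq, ← Matrix.mulVec_mulVec,
          h0', Matrix.mulVec_zero]
    have hdK0 : (d ^ p) (red π u) = 0 := by
      rw [show p = 1 + (p - 1) by have := hp.one_le; omega, pow_add, Module.End.mul_apply,
        hKzero _ ⟨u, hu, rfl⟩, map_zero]
    have hgeo : (∑ i ∈ Finset.range p, (-(d * a)) ^ i) * (1 + d * a) = 1 - (-(d * a)) ^ p := by
      rw [← geom_sum_mul_neg, sub_neg_eq_add]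
    have hu' : red π u = (∑ i ∈ Finset.range p, (-(d * a)) ^ i) ((d ^ (p - 2)) (red π (-z))) := by
      rw [← hred, ← Module.End.mul_apply, hgeo, LinearMap.sub_apply, Module.End.one_apply,
        show -(d * a) = (-a) * d from ((neg_mul a d).trans (congrArg Neg.neg hda.eq.symm)).symm,
        (Commute.neg_left hda.symm).mul_pow, Module.End.mul_apply, hdK0, map_zero, sub_zero]
    rw [hu', LinearMap.sum_apply]
    refine Submodule.sum_mem _ fun i _ => ⟨((-(d * a)) ^ i) (red π (-z)), ?_, ?_⟩
    · rw [show -(d * a) = d * (-a) from (mul_neg d a).symm, (Commute.neg_right hda).mul_pow,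
        Module.End.mul_apply]
      exact hKd i _ (haK i _ ⟨-z, neg_mem hzK, rfl⟩)
    · rw [← Module.End.mul_apply, ← Module.End.mul_apply,
        (((Commute.refl d).mul_right hda).neg_right.pow_right i |>.pow_left (p - 2)).eq]
  set c := Module.finrank k (K.map (d ^ (p - 2))) with hcdef
  have hstep : ∀ j, j + 1 ≤ p - 1 →
      Module.finrank k (K.map (d ^ j)) = Module.finrank k (K.map (d ^ (j + 1))) + c := by
    intro j hj
    rw [← finrank_map_add_inf_ker (K.map (d ^ j)) d, ← Submodule.map_comp]
    congr 1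
    · rw [pow_succ' d j]; rfl
    · rw [hcdef]
      refine congrArg (fun N : Submodule k (n → k) => Module.finrank k N) ?_
      refine le_antisymm ?_ ?_
      · rintro _ ⟨⟨w, hw, rfl⟩, hw'⟩
        exact hker1 _ (hKd j w hw) hw'
      · rintro _ ⟨w, hw, rfl⟩
        refine ⟨⟨(d ^ (p - 2 - j)) w, hKd _ w hw, ?_⟩, ?_⟩
        · rw [← Module.End.mul_apply, ← pow_add, show j + (p - 2 - j) = p - 2 by omega]
        · show d ((d ^ (p - 2)) w) = 0
          rw [← Module.End.mul_apply, ← pow_succ',
            show p - 2 + 1 = p - 1 by have := hp.two_le; omega, hKzero w hw]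
  have htop : Module.finrank k (K.map (d ^ (p - 1))) = 0 := by
    rw [Submodule.finrank_eq_zero, eq_bot_iff]
    rintro _ ⟨w, hw, rfl⟩
    exact (Submodule.mem_bot k).2 (hKzero w hw)
  have hlin : ∀ i, i ≤ p - 1 →
      Module.finrank k (K.map (d ^ (p - 1 - i))) = i * c := by
    intro i hi
    induction i with
    | zero => simpa using htop
    | succ i ih =>
      have h := hstep (p - 1 - (i + 1)) (by omega)
      rw [show p - 1 - (i + 1) + 1 = p - 1 - i by omega, ih (by omega)] at h
      rw [h]; ring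
  have hKc : Module.finrank k K = (p - 1) * c := by
    have h := hlin (p - 1) le_rfl
    rwa [Nat.sub_self, pow_zero, Module.End.one_eq_id, Submodule.map_id] at h
  refine ⟨c, hKc, ?_⟩
  · have hdK : Module.finrank k (K.map d) + c = Module.finrank k K := by
      have h := hlin (p - 2) (by omega)
      rw [show p - 1 - (p - 2) = 1 by have := hp.two_le; omega, pow_one] at h
      rw [h, hKc]
      have := hp.two_le
      rw [show p - 1 = p - 2 + 1 by omega]; ring
    set Z := U ⊓ (d ^ (p - 1) : Module.End k (n → k)).ker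
    have hZ : Z.map d = K.map d := by
      refine le_antisymm ?_ (Submodule.map_mono fun y hy => ⟨hKU hy, hKzero y hy⟩)
      rintro _ ⟨_, ⟨⟨u, hu, rfl⟩, hu'⟩, rfl⟩
      have h0 : red π ((geom p X).mulVec u) = 0 := by rw [hgeomred]; exact hu'
      choose z hz using fun i => hker _ (congrFun h0 i)
      have hz' : (geom p X).mulVec u = (p : R) • z := funext fun i => hz i
      have hzF : z ∈ fixed E X := fixed_pure hE hp0 z (by
        rw [← hz']
        exact ⟨mulVec_mem_rangeE (commute_geom hc).symm hu, by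
          show (X - 1).mulVec ((geom p X).mulVec u) = 0
          rw [Matrix.mulVec_mulVec, sub_one_mul_geom hX, Matrix.zero_mulVec]⟩)
      refine ⟨red π (u - z), ⟨u - z, ⟨sub_mem hu hzF.1, ?_⟩, rfl⟩, ?_⟩
      · show (geom p X).mulVec (u - z) = 0
        rw [Matrix.mulVec_sub, hz', geom_fixed hzF, sub_self]
      · have hzd : (X - 1).mulVec z = 0 := hzF.2
        rw [← hdred, ← hdred, Matrix.mulVec_sub, hzd, sub_zero]
    have h1 := finrank_map_add_inf_ker U d
    have h2 := finrank_map_add_inf_ker Z d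
    have h3 := finrank_map_add_inf_ker U (d ^ (p - 1))
    have h4 : Z ⊓ (d : Module.End k (n → k)).ker = U ⊓ (d : Module.End k (n → k)).ker := by
      refine le_antisymm (inf_le_inf_right _ inf_le_left) fun y hy => ⟨⟨hy.1, ?_⟩, hy.2⟩
      show (d ^ (p - 1)) y = 0
      rw [show p - 1 = p - 2 + 1 by have := hp.two_le; omega, pow_succ, Module.End.mul_apply,
        show d y = 0 from hy.2, map_zero]
    rw [h4, hZ] at h2
    rw [← hB₁] at h1
    rw [← hB₀, show U ⊓ (d ^ (p - 1) : Module.End k (n → k)).ker = Z from rfl] at h3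
    omega

omit [Fact p.Prime] [CharP k p] in
/-- Rank-one maps of the first subquotient lift to equivariant matrices. -/
theorem exists_lift₀ (hker : ∀ x, π x = 0 → (p : R) ∣ x) (hp0 : (p : R) ≠ 0) (hE : E * E = E)
    (hc : Commute E X) (hX : X ^ p = 1) {v : n → R} (hv : v ∈ fixed E X)
    (φ : Module.Dual k (n → k)) (hφ : ∀ y ∈ B₀ π p E X, φ y = 0) :
    ∃ q : Matrix n n R, Commute q X ∧
      ∀ w ∈ fixed E X, red π (q.mulVec w) = φ (red π w) • red π v := by
  obtain ⟨φ', hφ'⟩ := exists_dual_lift π φ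
  have hdiv : ∀ u, (p : R) ∣ φ' ((geom p X * E).mulVec u) := fun u => hker _ (by
    rw [hφ', ← Matrix.mulVec_mulVec]
    exact hφ _ ⟨_, ⟨_, ⟨u, rfl⟩, rfl⟩, rfl⟩)
  choose r hr using hdiv
  have hradd : ∀ a b, r (a + b) = r a + r b := fun a b => mul_left_cancel₀ hp0 (by
    rw [mul_add, ← hr, ← hr, ← hr, Matrix.mulVec_add, map_add])
  have hrsmul : ∀ (a : R) b, r (a • b) = a * r b := fun a b => mul_left_cancel₀ hp0 (by
    rw [mul_left_comm, ← hr, ← hr, Matrix.mulVec_smul, map_smul, smul_eq_mul])
  let ψ : Module.Dual R (n → R) := { toFun := r, map_add' := hradd, map_smul' := hrsmul }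
  set q : Matrix n n R := LinearMap.toMatrix' (ψ.smulRight v)
  have hq : ∀ w, q.mulVec w = r w • v := fun w => by
    rw [← Matrix.toLin'_apply, Matrix.toLin'_toMatrix']; rfl
  refine ⟨q, ?_, fun w hw => ?_⟩
  · refine Matrix.toLin'.injective (LinearMap.ext fun w => ?_)
    have hv' : X.mulVec v = v := by
      have : (X - 1).mulVecLin v = 0 := hv.2
      simpa [Matrix.sub_mulVec, sub_eq_zero] using this
    have hrX : r (X.mulVec w) = r w := mul_left_cancel₀ hp0 (by
      rw [← hr, ← hr, Matrix.mulVec_mulVec]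
      congr 2
      have h1 : geom p X * X = geom p X := by
        have := geom_mul_sub_one hX
        rwa [mul_sub, mul_one, sub_eq_zero] at this
      rw [mul_assoc, hc.eq, ← mul_assoc, h1])
    simp only [Matrix.toLin'_apply, ← Matrix.mulVec_mulVec, hq, Matrix.mulVec_smul, hv', hrX]
  · rw [hq, LinearMap.map_smulₛₗ]
    congr 1
    rw [← hφ']
    congr 1
    refine mul_left_cancel₀ hp0 ?_
    rw [← hr, ← Matrix.mulVec_mulVec, (mem_rangeE hE).1 hw.1, geom_fixed hw, map_smul, smul_eq_mul]

omit [CharP k p] in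
/-- Rank-one maps of the second subquotient lift to equivariant matrices. -/
theorem exists_lift₁ (hπp : π (p : R) = 0) (hker : ∀ x, π x = 0 → (p : R) ∣ x)
    (hp0 : (p : R) ≠ 0) (hE : E * E = E) (hc : Commute E X) (hX : X ^ p = 1) {v : n → R}
    (hv : v ∈ normKer p E X) (φ : Module.Dual k (n → k)) (hφ : ∀ y ∈ B₁ π E X, φ y = 0) :
    ∃ q : Matrix n n R, Commute q X ∧
      ∀ w ∈ normKer p E X, red π (q.mulVec w) - φ (red π w) • red π v ∈ B₁ π E X := by
  have hp := (Fact.out : p.Prime)
  obtain ⟨φ', hφ'⟩ := exists_dual_lift π φ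
  have hdiv : ∀ u, (p : R) ∣ φ' (((X - 1) * E).mulVec u) := fun u => hker _ (by
    rw [hφ', ← Matrix.mulVec_mulVec]
    exact hφ _ ⟨_, ⟨_, ⟨u, rfl⟩, rfl⟩, rfl⟩)
  choose g hg using hdiv
  have hgadd : ∀ a b, g (a + b) = g a + g b := fun a b => mul_left_cancel₀ hp0 (by
    rw [mul_add, ← hg, ← hg, ← hg, Matrix.mulVec_add, map_add])
  have hgsmul : ∀ (a : R) b, g (a • b) = a * g b := fun a b => mul_left_cancel₀ hp0 (by
    rw [mul_left_comm, ← hg, ← hg, Matrix.mulVec_smul, map_smul, smul_eq_mul])
  let ψ : Module.Dual R (n → R) := { toFun := g, map_add' := hgadd, map_smul' := hgsmul }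
  -- `T i` has `(X - 1) * T i = X ^ (p - i) - X`, with sign
  let T : ℕ → Matrix n n R := fun i => ∑ j ∈ Finset.range (p - i), X ^ j - 1
  have hT : ∀ i, (X - 1) * T i = X ^ (p - i) - X := fun i => by
    show (X - 1) * (∑ j ∈ Finset.range (p - i), X ^ j - 1) = _
    rw [mul_sub, mul_geom_sum, mul_one, sub_sub_sub_cancel_right]
  let q : Matrix n n R := ∑ i ∈ Finset.range p,
    LinearMap.toMatrix' ((ψ.comp (T i).mulVecLin).smulRight ((X ^ i).mulVec (-v)))
  have hq : ∀ w, q.mulVec w =
      ∑ i ∈ Finset.range p, g ((T i).mulVec w) • (X ^ i).mulVec (-v) := fun w => by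
    simp only [q, Matrix.sum_mulVec]
    refine Finset.sum_congr rfl fun i _ => ?_
    rw [← Matrix.toLin'_apply, Matrix.toLin'_toMatrix']; rfl
  have hgv : ∀ i w, (p : R) * g ((T i).mulVec w) =
      φ' ((X ^ (p - i)).mulVec (E.mulVec w)) - φ' (X.mulVec (E.mulVec w)) := fun i w => by
    have hTE : E * T i = T i * E :=
      ((Commute.sum_right _ _ _ fun j _ => hc.pow_right j).sub_right (Commute.one_right E)).eq
    rw [← hg, ← map_sub, ← Matrix.sub_mulVec, Matrix.mulVec_mulVec, Matrix.mulVec_mulVec, ← hT,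
      mul_assoc (X - 1) E, hTE, mul_assoc]
  have hv0 : (geom p X).mulVec (-v) = 0 := by
    have : (geom p X).mulVec v = 0 := hv.2
    rw [Matrix.mulVec_neg, this, neg_zero]
  refine ⟨q, ?_, fun w hw => ?_⟩
  · refine Matrix.toLin'.injective (LinearMap.ext fun w => natCast_smul_cancel hp0 ?_)
    simp only [Matrix.toLin'_apply, ← Matrix.mulVec_mulVec, hq, Matrix.mulVec_sum,
      Matrix.mulVec_smul, Finset.smul_sum, smul_smul, hgv]
    set y := E.mulVec w
    have hyX : E.mulVec (X.mulVec w) = X.mulVec y := by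
      simp only [y, Matrix.mulVec_mulVec, hc.eq]
    simp only [hyX, sub_smul, Finset.sum_sub_distrib, ← Finset.smul_sum]
    have hz : ∑ i ∈ Finset.range p, (X ^ i).mulVec (-v) = 0 := by
      rw [← Matrix.sum_mulVec]; exact hv0
    have hz' : ∑ i ∈ Finset.range p, X.mulVec ((X ^ i).mulVec (-v)) = 0 := by
      rw [← Matrix.mulVec_sum, hz, Matrix.mulVec_zero]
    rw [hz, hz', smul_zero, smul_zero, sub_zero, sub_zero]
    obtain ⟨m, hm⟩ : ∃ m, p = m + 1 := ⟨p - 1, by have := hp.one_le; omega⟩
    simp only [Matrix.mulVec_mulVec, ← pow_succ', ← pow_succ]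
    have hmul : ∀ (a : ℕ), (X ^ a) * X = X ^ (a + 1) := fun a => (pow_succ X a).symm
    simp only [← mul_assoc, hmul, hm]
    rw [Finset.sum_range_succ', Finset.sum_range_succ]
    congr 1
    · refine Finset.sum_congr rfl fun i hi => ?_
      have hi' := Finset.mem_range.1 hi
      rw [show m + 1 - (i + 1) + 1 = m + 1 - i by omega]
    · rw [show m + 1 - 0 + 1 = m + 1 + 1 by omega, show m + 1 - m = 1 by omega, ← hm,
        pow_succ X p, hX, one_mul, pow_zero, pow_one]
  · rw [hq, map_sum]
    have hmod : ∀ i, red π ((X ^ i).mulVec (-v)) - red π (-v) ∈ B₁ π E X := fun i => by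
      rw [← map_sub]
      refine ⟨_, ⟨(∑ j ∈ Finset.range i, X ^ j).mulVec (-v), ?_, ?_⟩, rfl⟩
      · exact mulVec_mem_rangeE (Commute.sum_left _ _ _ fun j _ => hc.symm.pow_left j)
          (neg_mem hv.1)
      · show (X - 1).mulVec ((∑ j ∈ Finset.range i, X ^ j).mulVec (-v)) = _
        rw [Matrix.mulVec_mulVec, mul_geom_sum, Matrix.sub_mulVec, Matrix.one_mulVec]
    have hsum : π (∑ i ∈ Finset.range p, g ((T i).mulVec w)) = -φ (red π w) := by
      have hy : E.mulVec w = w := (mem_rangeE hE).1 hw.1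
      have h1 : (p : R) * ∑ i ∈ Finset.range p, g ((T i).mulVec w) =
          (p : R) * (-φ' (X.mulVec w)) := by
        rw [Finset.mul_sum]
        simp only [hgv, hy, Finset.sum_sub_distrib, Finset.sum_const, Finset.card_range,
          nsmul_eq_mul]
        rw [← map_sum, ← Matrix.sum_mulVec]
        have h2 : ∑ i ∈ Finset.range p, X ^ (p - i) = geom p X := by
          obtain ⟨m, hm⟩ : ∃ m, p = m + 1 := ⟨p - 1, by have := hp.one_le; omega⟩
          rw [geom, ← Finset.sum_range_reflect (fun i => X ^ i) p]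
          rw [hm, Finset.sum_range_succ', Finset.sum_range_succ]
          congr 1
          · refine Finset.sum_congr rfl fun i hi => ?_
            congr 1; have := Finset.mem_range.1 hi; omega
          · rw [show m + 1 - 1 - m = 0 by omega, pow_zero, Nat.sub_zero, ← hm, hX]
        have h3 : (geom p X).mulVec w = 0 := hw.2
        rw [h2, h3, map_zero]; ring
      rw [mul_left_cancel₀ hp0 h1, map_neg, hφ', ← sub_eq_zero, sub_neg_eq_add, neg_add_eq_zero,
        ← sub_eq_zero, ← map_sub, ← map_sub]
      refine hφ _ ?_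
      exact ⟨_, ⟨w, hw.1, by simp [Matrix.sub_mulVec]⟩, rfl⟩
    have hrw : φ (red π w) • red π v =
        ∑ i ∈ Finset.range p, π (g ((T i).mulVec w)) • red π (-v) := by
      rw [← Finset.sum_smul, ← map_sum, hsum, map_neg, neg_smul_neg]
    rw [hrw, ← Finset.sum_sub_distrib]
    refine Submodule.sum_mem _ fun i _ => ?_
    rw [LinearMap.map_smulₛₗ, ← smul_sub]
    exact Submodule.smul_mem _ _ (hmod i)

end CfsgLib.DefectOne
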