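import Mathlib.RepresentationTheory.Maschke
import Mathlib.RingTheory.SimpleModule.Basic
import Mathlib.RingTheory.SimpleModule.IsAlgClosed
import Mathlib.LinearAlgebra.Trace
import Mathlib.LinearAlgebra.Eigenspace.Triangularizable
import Mathlib.FieldTheory.IsAlgClosed.Basic
import Mathlib.Algebra.Algebra.Bilinear

/-!
# Modules over a primitive central idempotent of a semisimple group algebra
-/

set_option autoImplicit false

namespace CfsgLib.DefectOne

open MonoidAlgebra (of)

variable {k V : Type*} [Field k] [IsAlgClosed k] [Group V] [Finite V]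
  [NeZero (Nat.card V : k)]

instance finite_groupAlgebra : Module.Finite k (MonoidAlgebra k V) :=
  Module.Finite.of_basis (MonoidAlgebra.basis V k)

variable (ε : (MonoidAlgebra k V))

/-- `ε` is an idempotent spanning its part of the centre. -/
def IsPrimitiveCentral : Prop :=
  ε * ε = ε ∧ (∀ a : (MonoidAlgebra k V), a * ε = ε * a) ∧
    ∀ z : (MonoidAlgebra k V), (∀ a : (MonoidAlgebra k V), a * z = z * a) → ∃ ω : k, z * ε = ω • ε

variable {M : Type*} [AddCommGroup M] [Module (MonoidAlgebra k V) M]

/-- (MonoidAlgebra k V) simple module is a left ideal generated by an idempotent. -/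
theorem exists_idempotent_of_simple [IsSimpleModule (MonoidAlgebra k V) M] :
    ∃ (u : (MonoidAlgebra k V)) (I : Submodule (MonoidAlgebra k V) (MonoidAlgebra k V)), u ∈ I ∧ (∀ a ∈ I, a * u = a) ∧ Nonempty (I ≃ₗ[(MonoidAlgebra k V)] M) := by
  haveI := IsSimpleModule.nontrivial (MonoidAlgebra k V) M
  obtain ⟨m, hm⟩ := exists_ne (0 : M)
  have hsurj : Function.Surjective (LinearMap.toSpanSingleton (MonoidAlgebra k V) M m) :=
    IsSimpleModule.toSpanSingleton_surjective (MonoidAlgebra k V) hm
  set K := LinearMap.ker (LinearMap.toSpanSingleton (MonoidAlgebra k V) M m)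
  obtain ⟨I, hI⟩ := exists_isCompl K
  have e : I ≃ₗ[(MonoidAlgebra k V)] M :=
    (Submodule.quotientEquivOfIsCompl K I hI).symm.trans
      (LinearMap.quotKerEquivOfSurjective _ hsurj)
  obtain ⟨a, ha, u, hu, hau⟩ := Submodule.mem_sup.1
    (hI.sup_eq_top ▸ Submodule.mem_top : (1 : (MonoidAlgebra k V)) ∈ K ⊔ I)
  refine ⟨u, I, hu, fun b hb => ?_, ⟨e⟩⟩
  have h1 : b * a ∈ K := K.smul_mem b ha
  have h2 : b * a = b - b * u := by rw [eq_sub_iff_add_eq, ← mul_add, hau, mul_one]
  have h3 : b * a ∈ I := h2 ▸ I.sub_mem hb (I.smul_mem b hu)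
  have h4 := Submodule.disjoint_def.1 hI.disjoint _ h1 h3
  rw [h2, sub_eq_zero] at h4
  exact h4.symm

variable [Module k M] [IsScalarTower k (MonoidAlgebra k V) M] [FiniteDimensional k M]

/-- The only endomorphisms of a simple module are the scalars. -/
theorem exists_scalar_endo [IsSimpleModule (MonoidAlgebra k V) M] (f : M →ₗ[(MonoidAlgebra k V)] M) : ∃ c : k, ∀ m, f m = c • m := by
  haveI := IsSimpleModule.nontrivial (MonoidAlgebra k V) M
  obtain ⟨m, hm⟩ := exists_ne (0 : M)
  obtain ⟨c, hc⟩ := Module.End.exists_eigenvalue (f.restrictScalars k)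
  obtain ⟨v, hv, hv0⟩ := hc.exists_hasEigenvector
  rw [Module.End.mem_eigenspace_iff] at hv
  let g : M →ₗ[(MonoidAlgebra k V)] M :=
    { toFun := fun y => f y - c • y
      map_add' := fun y z => by rw [map_add, smul_add, add_sub_add_comm]
      map_smul' := fun a y => by
        simp only [map_smul, smul_sub, RingHom.id_apply]
        rw [smul_comm a c y] }
  have hg : g = 0 := by
    rcases LinearMap.bijective_or_eq_zero g with h | h
    · exact absurd (h.1 ((sub_eq_zero.2 hv).trans (map_zero g).symm)) hv0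
    · exact h
  exact ⟨c, fun y => sub_eq_zero.1 (LinearMap.congr_fun hg y)⟩

variable {N : Type*} [AddCommGroup N] [Module (MonoidAlgebra k V) N] [Module k N] [IsScalarTower k (MonoidAlgebra k V) N]
  [FiniteDimensional k N]

variable {ε}

theorem smul_comm_central {z : (MonoidAlgebra k V)} (hz : ∀ a : (MonoidAlgebra k V), a * z = z * a) (a : (MonoidAlgebra k V)) (m : M) :
    z • a • m = a • z • m := by
  rw [← mul_smul, ← mul_smul, hz a]

/-- Two simple modules on which `ε` is the identity are isomorphic. -/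
theorem nonempty_equiv_of_simple (hε : IsPrimitiveCentral ε) [IsSimpleModule (MonoidAlgebra k V) M]
    [IsSimpleModule (MonoidAlgebra k V) N] (hM : ∀ m : M, ε • m = m) (hN : ∀ y : N, ε • y = y) :
    Nonempty (M ≃ₗ[(MonoidAlgebra k V)] N) := by
  classical
  haveI := Fintype.ofFinite V
  haveI := IsSimpleModule.nontrivial (MonoidAlgebra k V) M
  haveI := IsSimpleModule.nontrivial (MonoidAlgebra k V) N
  by_contra hne
  have hzero : ∀ f : M →ₗ[(MonoidAlgebra k V)] N, f = 0 := fun f =>
    (LinearMap.bijective_or_eq_zero f).resolve_left fun h =>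
      hne ⟨LinearEquiv.ofBijective f h⟩
  obtain ⟨u, I, hu, hru, ⟨e⟩⟩ := exists_idempotent_of_simple (k := k) (V := V) (M := M)
  have huN : ∀ y : N, u • y = 0 := by
    intro y
    have h1 := LinearMap.congr_fun (hzero (((LinearMap.toSpanSingleton (MonoidAlgebra k V) N (u • y)).comp
      I.subtype).comp e.symm.toLinearMap)) (e ⟨u, hu⟩)
    simp [← mul_smul, hru u hu] at h1
    exact h1
  set m₀ := e ⟨u, hu⟩
  have hm₀ : m₀ ≠ 0 := fun h => by
    have h2 : (⟨u, hu⟩ : I) = 0 := e.injective (h.trans (map_zero e).symm)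
    have hu0 : u = 0 := congrArg Subtype.val h2
    obtain ⟨m, hm⟩ := exists_ne (0 : M)
    obtain ⟨⟨b, hb⟩, rfl⟩ := e.surjective m
    refine hm ?_
    have : (⟨b, hb⟩ : I) = 0 := Subtype.ext (by
      show b = 0
      rw [← hru b hb, hu0, mul_zero])
    rw [this, map_zero]
  have hum₀ : u • m₀ = m₀ := by
    rw [← map_smul]; exact congrArg e (Subtype.ext (hru u hu))
  -- the image of `u` is a line
  have hline : ∀ m : M, ∃ c : k, u • m = c • m₀ := by
    intro m
    let g : M →ₗ[(MonoidAlgebra k V)] M :=
      ((LinearMap.toSpanSingleton (MonoidAlgebra k V) M (u • m)).comp I.subtype).comp e.symm.toLinearMap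
    obtain ⟨c, hc⟩ := exists_scalar_endo g
    refine ⟨c, ?_⟩
    have := hc m₀
    simp [g, m₀, ← mul_smul, hru u hu] at this
    exact this
  choose l hl using hline
  have hinj : Function.Injective fun c : k => c • m₀ := smul_left_injective k hm₀
  let L : M →ₗ[k] k :=
    { toFun := l
      map_add' := fun a b => hinj (by
        show l (a + b) • m₀ = (l a + l b) • m₀
        rw [add_smul, ← hl, ← hl, ← hl, smul_add])
      map_smul' := fun c a => hinj (by
        show l (c • a) • m₀ = (c * l a) • m₀
        rw [mul_smul, ← hl, ← hl, smul_comm]) }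
  have htr : LinearMap.trace k M (Algebra.lsmul k k M u) = 1 := by
    have h1 : Algebra.lsmul k k M u = L.smulRight m₀ := LinearMap.ext hl
    rw [h1, LinearMap.trace_smulRight]
    exact hinj (by show l m₀ • m₀ = (1 : k) • m₀; rw [← hl, hum₀, one_smul])
  -- the average of `u` is central
  set z : (MonoidAlgebra k V) := ∑ v : V, of k V v * u * of k V v⁻¹ with hz
  have hzc : ∀ a : (MonoidAlgebra k V), a * z = z * a := by
    intro a
    induction a using MonoidAlgebra.induction_on with
    | of w =>
      rw [hz, Finset.mul_sum, Finset.sum_mul]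
      refine Fintype.sum_equiv (Equiv.mulLeft w) _ _ fun v => ?_
      simp only [Equiv.coe_mulLeft, map_mul, mul_inv_rev, mul_assoc]
      rw [← map_mul, inv_mul_cancel, map_one, mul_one]
    | add f g hf hg => rw [add_mul, mul_add, hf, hg]
    | smul r f hf => rw [smul_mul_assoc, mul_smul_comm, hf]
  obtain ⟨ω, hω⟩ := hε.2.2 z hzc
  have hzM : ∀ m : M, z • m = ω • m := fun m => by
    conv_lhs => rw [← hM m, ← mul_smul, hω, smul_assoc, hM]
  have hzN : ∀ y : N, z • y = ω • y := fun y => by
    conv_lhs => rw [← hN y, ← mul_smul, hω, smul_assoc, hN]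
  obtain ⟨y, hy⟩ := exists_ne (0 : N)
  have hω0 : ω = 0 := by
    have h1 : z • y = 0 := by
      rw [hz, Finset.sum_smul]
      exact Finset.sum_eq_zero fun v _ => by rw [mul_smul, mul_smul, huN, smul_zero]
    rw [hzN] at h1
    exact (smul_eq_zero.1 h1).resolve_right hy
  have hz0 : Algebra.lsmul k k M z = 0 := LinearMap.ext fun m => by
    show z • m = 0
    rw [hzM, hω0, zero_smul]
  have h := congrArg (LinearMap.trace k M) hz0
  rw [hz, map_sum, map_sum, map_zero] at h
  have hterm : ∀ v : V, LinearMap.trace k M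
      (Algebra.lsmul k k M (of k V v * u * of k V v⁻¹)) = 1 := by
    intro v
    rw [map_mul, LinearMap.trace_mul_comm, ← map_mul, ← mul_assoc, ← map_mul, inv_mul_cancel,
      map_one, one_mul, htr]
  rw [Finset.sum_congr rfl fun v _ => hterm v, Finset.sum_const, Finset.card_univ, nsmul_eq_mul,
    mul_one] at h
  exact NeZero.ne (Nat.card V : k) (by rw [Nat.card_eq_fintype_card]; exact h)

/-- The dimension of the simple module is the square root of that of `A ε`. -/
theorem finrank_sq_of_simple (hε : IsPrimitiveCentral ε) [IsSimpleModule (MonoidAlgebra k V) M]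
    (hM : ∀ m : M, ε • m = m) :
    Module.finrank k M ^ 2 = Module.finrank k (LinearMap.mulRight k ε).range := by
  classical
  set B := (LinearMap.mulRight k ε).range
  let T : B →ₗ[k] Module.End k M := (Algebra.lsmul k k M).toLinearMap.comp B.subtype
  have hsurj : Function.Surjective T := by
    intro f
    let F : Module.End (Module.End (MonoidAlgebra k V) M) M :=
      { toFun := f
        map_add' := map_add f
        map_smul' := fun g m => by
          obtain ⟨c, hc⟩ := exists_scalar_endo (k := k) g
          show f (g m) = g (f m)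
          rw [hc, hc, map_smul] }
    set b := Module.finBasis k M
    obtain ⟨r, hr⟩ := jacobson_density F (Finset.univ.image b)
    refine ⟨⟨r * ε, r, rfl⟩, b.ext fun i => ?_⟩
    show (r * ε) • b i = f (b i)
    rw [mul_smul, hM]
    exact (hr (b i) (Finset.mem_image_of_mem _ (Finset.mem_univ i))).symm
  have hinj : Function.Injective T := by
    rw [← LinearMap.ker_eq_bot, eq_bot_iff]
    rintro ⟨_, a, rfl⟩ ha
    have ha' : ∀ m : M, (a * ε) • m = 0 := fun m => LinearMap.congr_fun ha m
    refine (Submodule.mem_bot k).2 (Subtype.ext ?_)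
    show a * ε = 0
    let Ann : Submodule (MonoidAlgebra k V) (MonoidAlgebra k V) :=
      { carrier := {c | (a * ε) * c = 0 ∧ ∀ d : (MonoidAlgebra k V), (a * ε) * (d * c) = 0}
        add_mem' := fun {x y} hx hy => ⟨by rw [mul_add, hx.1, hy.1, add_zero],
          fun d => by rw [mul_add, mul_add, hx.2, hy.2, add_zero]⟩
        zero_mem' := ⟨mul_zero _, fun d => by rw [mul_zero, mul_zero]⟩
        smul_mem' := fun r x hx => ⟨hx.2 r, fun d => by
          rw [smul_eq_mul, ← mul_assoc d]; exact hx.2 (d * r)⟩ }
    have htop : (⊤ : Submodule (MonoidAlgebra k V) (MonoidAlgebra k V)) ≤ Ann := by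
      rw [← IsSemisimpleModule.sSup_simples_eq_top (MonoidAlgebra k V) (MonoidAlgebra k V)]
      refine sSup_le fun J hJ => ?_
      haveI : IsSimpleModule (MonoidAlgebra k V) J := hJ
      have key : ∀ x : J, (a * ε) • x = 0 := by
        by_cases h : ∀ x : J, ε • x = 0
        · intro x; rw [mul_smul, h, smul_zero]
        · push_neg at h
          let g : J →ₗ[(MonoidAlgebra k V)] J :=
            { toFun := fun x => ε • x
              map_add' := fun x y => smul_add _ x y
              map_smul' := fun c x => smul_comm_central hε.2.1 c x }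
          have hg : Function.Bijective g :=
            (LinearMap.bijective_or_eq_zero g).resolve_right fun hg => by
              obtain ⟨x, hx⟩ := h
              exact hx (LinearMap.congr_fun hg x)
          have hJ' : ∀ x : J, ε • x = x := fun x => hg.1 (by
            show ε • ε • x = ε • x
            rw [← mul_smul, hε.1])
          haveI : FiniteDimensional k J :=
            Module.Finite.of_injective (J.subtype.restrictScalars k) Subtype.val_injective
          obtain ⟨e⟩ := nonempty_equiv_of_simple (k := k) (M := J) (N := M) hε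
            (fun x => hJ' x) hM
          intro x
          exact e.injective (by rw [map_smul, ha', map_zero])
      intro x hx
      exact ⟨congrArg Subtype.val (key ⟨x, hx⟩),
        fun d => congrArg Subtype.val (key ⟨d * x, J.smul_mem d hx⟩)⟩
    have := (htop (Submodule.mem_top : (1 : (MonoidAlgebra k V)) ∈ ⊤)).1
    rwa [mul_one] at this
  rw [(LinearEquiv.ofBijective T ⟨hinj, hsurj⟩).finrank_eq, Module.finrank_linearMap, sq]

omit [IsAlgClosed k] [FiniteDimensional k M] in
theorem semilinear_map_mem (σ : (MonoidAlgebra k V) ≃ₐ[k] (MonoidAlgebra k V)) (Φ : M ≃ₗ[k] M)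
    (hΦ : ∀ (a : (MonoidAlgebra k V)) m, Φ (a • m) = σ a • Φ m) (S : Submodule (MonoidAlgebra k V) M) :
    ∃ S' : Submodule (MonoidAlgebra k V) M, ∀ m, m ∈ S' ↔ Φ.symm m ∈ S := by
  refine ⟨{ carrier := {m | Φ.symm m ∈ S}
            add_mem' := fun {x y} hx hy => ?_
            zero_mem' := ?_
            smul_mem' := fun a x hx => ?_ }, fun m => Iff.rfl⟩
  · show Φ.symm (x + y) ∈ S
    rw [map_add]; exact S.add_mem hx hy
  · show Φ.symm 0 ∈ S
    rw [map_zero]; exact S.zero_mem
  · show Φ.symm (a • x) ∈ S
    have : Φ.symm (a • x) = σ.symm a • Φ.symm x := Φ.injective (by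
      rw [Φ.apply_symm_apply, hΦ, σ.apply_symm_apply, Φ.apply_symm_apply])
    rw [this]
    exact S.smul_mem _ hx

/-- (MonoidAlgebra k V) module over `A ε` with a semilinear operator whose joint endomorphisms are all invertible or
nilpotent is simple. -/
theorem isSimple_of_semilinear (hε : IsPrimitiveCentral ε) [Nontrivial M]
    (hM : ∀ m : M, ε • m = m) (σ : (MonoidAlgebra k V) ≃ₐ[k] (MonoidAlgebra k V)) (Φ : M ≃ₗ[k] M)
    (hΦ : ∀ (a : (MonoidAlgebra k V)) m, Φ (a • m) = σ a • Φ m) {e : ℕ} (he : (e : k) ≠ 0) (w : (MonoidAlgebra k V))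
    (hw : ∀ m, ((Φ : Module.End k M) ^ e) m = w • m)
    (hloc : ∀ q : Module.End k M, (∀ (a : (MonoidAlgebra k V)) m, q (a • m) = a • q m) →
      (∀ m, q (Φ m) = Φ (q m)) → IsUnit q ∨ IsNilpotent q) :
    IsSimpleModule (MonoidAlgebra k V) M := by
  classical
  obtain ⟨S, hS⟩ := IsSemisimpleModule.exists_simple_submodule (MonoidAlgebra k V) M
  haveI := hS
  obtain ⟨S', hS'⟩ := semilinear_map_mem σ Φ hΦ S
  haveI : FiniteDimensional k S :=
    Module.Finite.of_injective (S.subtype.restrictScalars k) Subtype.val_injective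
  haveI : FiniteDimensional k S' :=
    Module.Finite.of_injective (S'.subtype.restrictScalars k) Subtype.val_injective
  have hsimple : IsSimpleModule (MonoidAlgebra k V) S' := by
    rw [isSimpleModule_iff_isAtom]
    refine ⟨fun h => ?_, fun T hT => ?_⟩
    · haveI : Nontrivial S := IsSimpleModule.nontrivial (MonoidAlgebra k V) S
      obtain ⟨⟨y, hy⟩, hy0⟩ := exists_ne (0 : S)
      refine hy0 (Subtype.ext ?_)
      have h1 : Φ y ∈ S' := (hS' _).2 (by rw [Φ.symm_apply_apply]; exact hy)
      rw [h, Submodule.mem_bot] at h1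
      exact Φ.injective (h1.trans (map_zero Φ).symm)
    · obtain ⟨T', hT'⟩ := semilinear_map_mem σ.symm Φ.symm (fun a m => Φ.injective (by
        rw [Φ.apply_symm_apply, hΦ, σ.apply_symm_apply, Φ.apply_symm_apply])) T
      have hlt : T' < S := by
        refine lt_of_le_of_ne (fun m hm => ?_) fun h => hT.ne (le_antisymm hT.le fun m hm => ?_)
        · have h1 := (hS' _).1 (hT.le ((hT' m).1 hm))
          rwa [LinearEquiv.symm_symm, Φ.symm_apply_apply] at h1
        · have h2 : Φ.symm m ∈ T' := by rw [h]; exact (hS' m).1 hm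
          have h3 := (hT' _).1 h2
          rwa [LinearEquiv.symm_symm, Φ.apply_symm_apply] at h3
      have h1 := (isSimpleModule_iff_isAtom.1 hS).2 T' hlt
      rw [eq_bot_iff]
      intro m hm
      have h2 : Φ.symm m ∈ T' := (hT' _).2 (by
        rw [LinearEquiv.symm_symm, Φ.apply_symm_apply]; exact hm)
      rw [h1, Submodule.mem_bot] at h2
      exact (Submodule.mem_bot (MonoidAlgebra k V)).2 (Φ.symm.injective (h2.trans (map_zero _).symm))
  obtain ⟨u⟩ := nonempty_equiv_of_simple (k := k) hε (M := S) (N := S')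
    (fun m => Subtype.ext (hM m)) (fun m => Subtype.ext (hM m))
  -- the semilinear bijection of `S`
  let θ : S → S := fun y => u.symm ⟨Φ y, (hS' _).2 (by rw [Φ.symm_apply_apply]; exact y.2)⟩
  let θ' : S → S := fun y => ⟨Φ.symm (u y), (hS' _).1 (u y).2⟩
  have hθθ' : ∀ y, θ (θ' y) = y := fun y => by simp [θ, θ']
  have hθsmul : ∀ (a : (MonoidAlgebra k V)) y, θ (a • y) = σ a • θ y := fun a y => by
    simp only [θ]
    rw [← map_smul]
    exact congrArg _ (Subtype.ext (hΦ a y))
  have hθ'smul : ∀ (a : (MonoidAlgebra k V)) y, θ' (a • y) = σ.symm a • θ' y := fun a y => Subtype.ext (Φ.injective (by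
    simp [θ', hΦ]))
  let Z : (S →ₗ[(MonoidAlgebra k V)] M) →ₗ[k] (S →ₗ[(MonoidAlgebra k V)] M) :=
    { toFun := fun f =>
        { toFun := fun y => Φ (f (θ' y))
          map_add' := fun x y => by
            rw [← map_add, ← map_add]
            exact congrArg Φ (congrArg f (Subtype.ext (by simp [θ'])))
          map_smul' := fun a y => by
            simp [hθ'smul, hΦ] }
      map_add' := fun f g => LinearMap.ext fun y => by simp
      map_smul' := fun c f => LinearMap.ext fun y => by simp }
  haveI : Nontrivial (S →ₗ[(MonoidAlgebra k V)] M) := ⟨⟨S.subtype, 0, fun h => by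
    haveI : Nontrivial S := IsSimpleModule.nontrivial (MonoidAlgebra k V) S
    obtain ⟨y, hy⟩ := exists_ne (0 : S)
    exact hy (Subtype.ext (LinearMap.congr_fun h y))⟩⟩
  haveI : FiniteDimensional k (S →ₗ[(MonoidAlgebra k V)] M) :=
    Module.Finite.of_injective (LinearMap.restrictScalarsₗ k (MonoidAlgebra k V) S M k)
      (LinearMap.restrictScalars_injective k)
  obtain ⟨c, hc⟩ := Module.End.exists_eigenvalue Z
  obtain ⟨f, hf, hf0⟩ := hc.exists_hasEigenvector
  rw [Module.End.mem_eigenspace_iff] at hf
  have hc0 : c ≠ 0 := fun h0 => hf0 (LinearMap.ext fun y => by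
    have h1 := LinearMap.congr_fun hf (θ y)
    simp [Z, h0] at h1
    have h2 : θ' (θ y) = y := Subtype.ext (by simp [θ, θ'])
    rwa [h2] at h1)
  have hinjf : Function.Injective f :=
    (LinearMap.injective_or_eq_zero f).resolve_right hf0
  set W := LinearMap.range f
  haveI hWs : IsSimpleModule (MonoidAlgebra k V) W :=
    IsSimpleModule.congr (LinearEquiv.ofInjective f hinjf).symm
  have hWΦ : ∀ m ∈ W, Φ m ∈ W := by
    rintro _ ⟨y, rfl⟩
    have h1 : Φ (f (θ' (θ y))) = c • f (θ y) := LinearMap.congr_fun hf (θ y)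
    have h2 : θ' (θ y) = y := Subtype.ext (by simp [θ, θ'])
    rw [h2] at h1
    rw [h1, ← algebraMap_smul (MonoidAlgebra k V) c (f (θ y)), ← map_smul]
    exact ⟨_, rfl⟩
  have hWΦ' : ∀ m ∈ W, Φ.symm m ∈ W := by
    rintro _ ⟨y, rfl⟩
    refine ⟨c⁻¹ • θ' y, Φ.injective ?_⟩
    have h1 : Φ (f (θ' y)) = c • f y := LinearMap.congr_fun hf y
    rw [f.map_smul_of_tower, map_smul, h1, inv_smul_smul₀ hc0, Φ.apply_symm_apply]
  obtain ⟨C, hC⟩ := exists_isCompl W
  set p₀ : M →ₗ[(MonoidAlgebra k V)] M := W.subtype.comp (Submodule.projectionOnto W C hC) with hp₀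
  set P : Module.End k M := p₀.restrictScalars k
  set F : Module.End k M := (Φ : Module.End k M)
  set F' : Module.End k M := (Φ.symm : Module.End k M)
  have hFF' : F * F' = 1 := LinearMap.ext fun m => Φ.apply_symm_apply m
  have hF'F : F' * F = 1 := LinearMap.ext fun m => Φ.symm_apply_apply m
  have hFF'pow : ∀ i, F ^ i * F' ^ i = 1 := by
    intro i
    induction i with
    | zero => simp
    | succ i ih => rw [pow_succ, pow_succ', mul_assoc, ← mul_assoc F, hFF', one_mul, ih]
  set q : Module.End k M := (e : k)⁻¹ • ∑ i ∈ Finset.range e, F ^ i * P * F' ^ i with hq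
  have hrot : F ^ e * P * F' ^ e = P := by
    have h1 : F ^ e * P = P * F ^ e := LinearMap.ext fun m => by
      simp [F, P, Module.End.mul_apply, hw, map_smul]
    rw [h1, mul_assoc, hFF'pow, mul_one]
  have hqF : ∀ m, q (Φ m) = Φ (q m) := by
    intro m
    have h1 : F * q * F' = q := by
      rw [hq, mul_smul_comm, smul_mul_assoc, Finset.mul_sum, Finset.sum_mul]
      congr 1
      have h2 : ∀ i, F * (F ^ i * P * F' ^ i) * F' = F ^ (i + 1) * P * F' ^ (i + 1) := fun i => by
        rw [pow_succ' F, pow_succ F']; simp only [mul_assoc]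
      simp only [h2]
      rcases Nat.eq_zero_or_pos e with h0 | h0
      · simp [h0]
      · obtain ⟨d, rfl⟩ := Nat.exists_eq_succ_of_ne_zero h0.ne'
        rw [Finset.sum_range_succ, Finset.sum_range_succ' (fun i => F ^ i * P * F' ^ i),
          Nat.succ_eq_add_one] at *
        rw [hrot, pow_zero, pow_zero, one_mul, mul_one]
    have h3 : q * F = F * q := by
      conv_lhs => rw [← h1, mul_assoc (F * q), hF'F, mul_one]
    exact LinearMap.congr_fun h3 m
  have hpowsmul : ∀ i (a : (MonoidAlgebra k V)) m, (F ^ i) (a • m) = (σ : (MonoidAlgebra k V) → (MonoidAlgebra k V))^[i] a • (F ^ i) m := by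
    intro i
    induction i with
    | zero => simp
    | succ i ih =>
      intro a m
      rw [pow_succ', Module.End.mul_apply, ih, Function.iterate_succ_apply']
      exact hΦ _ _
  have hqA : ∀ (a : (MonoidAlgebra k V)) m, q (a • m) = a • q m := by
    intro a m
    simp only [hq, LinearMap.smul_apply, LinearMap.sum_apply, Module.End.mul_apply, Finset.smul_sum,
      smul_comm a ((e : k)⁻¹)]
    refine Finset.sum_congr rfl fun i _ => congrArg _ ?_
    obtain ⟨b, hb⟩ : ∃ b, (σ : (MonoidAlgebra k V) → (MonoidAlgebra k V))^[i] b = a := (σ.bijective.iterate i).2 a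
    have h1 : (F' ^ i) (a • m) = b • (F' ^ i) m := by
      have h2 : (F' ^ i) ((F ^ i) (b • (F' ^ i) m)) = b • (F' ^ i) m := by
        rw [← Module.End.mul_apply (F' ^ i), ← (Commute.mul_pow (show Commute F' F by
          rw [Commute, SemiconjBy, hFF', hF'F]) i), hF'F, one_pow, Module.End.one_apply]
      rw [hpowsmul, hb, ← Module.End.mul_apply (F ^ i), hFF'pow, Module.End.one_apply] at h2
      exact h2
    rw [h1]
    simp [P, map_smul, hpowsmul, hb]
  have hpowW : ∀ i, ∀ y ∈ W, (F ^ i) y ∈ W := by
    intro i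
    induction i with
    | zero => simp
    | succ i ih =>
      intro y hy
      rw [pow_succ, Module.End.mul_apply]
      exact ih _ (hWΦ y hy)
  have hqW : ∀ m, q m ∈ W := by
    intro m
    simp only [hq, LinearMap.smul_apply, LinearMap.sum_apply, Module.End.mul_apply]
    rw [← algebraMap_smul (MonoidAlgebra k V) ((e : k)⁻¹)]
    refine W.smul_mem _ (Submodule.sum_mem _ fun i _ => ?_)
    exact hpowW i _ (SetLike.coe_mem _)
  have hqid : ∀ m ∈ W, q m = m := by
    intro m hm
    simp only [hq, LinearMap.smul_apply, LinearMap.sum_apply, Module.End.mul_apply]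
    have h1 : ∀ i, (F ^ i) (P ((F' ^ i) m)) = m := by
      intro i
      have h2 : (F' ^ i) m ∈ W := by
        clear hq hqA hqF hqW
        induction i with
        | zero => simpa using hm
        | succ i ih =>
          rw [pow_succ', Module.End.mul_apply]
          exact hWΦ' _ ih
      have h3 : P ((F' ^ i) m) = (F' ^ i) m := by
        show (Submodule.projectionOnto W C hC ((F' ^ i) m) : M) = _
        rw [Submodule.projectionOnto_apply_left hC ⟨_, h2⟩]
      rw [h3, ← Module.End.mul_apply, hFF'pow, Module.End.one_apply]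
    simp only [h1, Finset.sum_const, Finset.card_range, ← Nat.cast_smul_eq_nsmul k, smul_smul]
    rw [inv_mul_cancel₀ he, one_smul]
  have hidem : q * q = q := LinearMap.ext fun m => hqid _ (hqW m)
  have hq1 : q = 1 := by
    rcases hloc q hqA hqF with hU | ⟨N, hN⟩
    · exact hU.mul_left_cancel (hidem.trans (mul_one q).symm)
    · exfalso
      have hqN : ∀ i : ℕ, q ^ (i + 1) = q := fun i => (show IsIdempotentElem q from hidem).pow_succ_eq i
      have hq0 : q = 0 := by rw [← hqN N, pow_succ, hN, zero_mul]
      haveI : Nontrivial W := IsSimpleModule.nontrivial (MonoidAlgebra k V) W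
      obtain ⟨⟨y, hy⟩, hy0⟩ := exists_ne (0 : W)
      refine hy0 (Subtype.ext ?_)
      show y = 0
      have h5 := hqid y hy
      rw [hq0] at h5
      exact h5.symm
  have htop : W = ⊤ := by
    rw [eq_top_iff]
    intro m _
    have := hqW m
    rwa [hq1] at this
  exact IsSimpleModule.congr (LinearEquiv.ofTop W htop).symm

end CfsgLib.DefectOne
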