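import Cfsg.Agent.Lib.DefectOne.WittEmbed
import Cfsg.Agent.Lib.DefectOne.RepAlg
import Cfsg.Agent.Lib.DefectOne.Lattice
import Cfsg.Agent.Lib.CharTools.Basic
import Cfsg.Agent.Lib.Char.Integral
import Cfsg.Agent.Lib.Char.Conj
import Cfsg.Agent.S0923
import Mathlib.LinearAlgebra.Trace

/-!
# The central idempotent of a character of a group of order prime to `p`, in the coefficient ring
-/

set_option autoImplicit false

namespace CfsgLib.DefectOne

open Cfsg
open scoped ComplexConjugate

universe u

variable (p : ℕ) [Fact p.Prime]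

instance ringHomSurjective_res : RingHomSurjective (res p) := ⟨res_surjective p⟩

theorem natCast_p_ne_zero : (p : WR p) ≠ 0 :=
  Nat.cast_ne_zero.2 (Fact.out : p.Prime).ne_zero

theorem dvd_of_res_eq_zero : ∀ x : WR p, res p x = 0 → (p : WR p) ∣ x :=
  fun _ h => (res_eq_zero p).1 h

theorem res_natCast_p : res p (p : WR p) = 0 := by rw [map_natCast, CharP.cast_eq_zero]

theorem isUnit_natCast_of_not_dvd {m : ℕ} (hm : ¬ p ∣ m) : IsUnit (m : WR p) := by
  refine isUnit_of_res_ne_zero p ?_
  rw [map_natCast, Ne, CharP.cast_eq_zero_iff (kbar p) p]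
  exact hm

variable {p}

/-- The rank of a matrix `A` with `A * A = m • A` is read off its trace. -/
theorem trace_eq_mul_finrank {R : Type*} [CommRing R] [IsDomain R] [IsPrincipalIdealRing R]
    {n : Type*} [Fintype n] [DecidableEq n] (A : Matrix n n R) (m : R) (hA : A * A = m • A) :
    A.trace = m * (Module.finrank R A.mulVecLin.range : R) := by
  rw [← Matrix.trace_toLin'_eq A]
  set L := A.mulVecLin
  have hL : Matrix.toLin' A = L := rfl
  rw [hL]
  have h1 : L = L.range.subtype.comp L.rangeRestrict := LinearMap.ext fun _ => rfl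
  have h2 : L.rangeRestrict.comp L.range.subtype = m • LinearMap.id := by
    refine LinearMap.ext fun y => Subtype.ext ?_
    obtain ⟨_, u, rfl⟩ := y
    show A.mulVec (A.mulVec u) = m • A.mulVec u
    rw [Matrix.mulVec_mulVec, hA, Matrix.smul_mulVec]
  conv_lhs => rw [h1]
  rw [LinearMap.trace_comp_comm', h2, map_smul, LinearMap.trace_id, smul_eq_mul]

variable {V : Type u} [Group V] [Finite V]

/-- The values of the coefficients of the idempotent of `φ`. -/
noncomputable def coefC (φ : IrrCharacter V) (v : V) : ℂ :=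
  (φ : V → ℂ) 1 * conj ((φ : V → ℂ) v) / Nat.card V

theorem blockCoeff_singleton (φ : IrrCharacter V) (v : V) :
    blockCoeff {φ} v = coefC φ v := by
  unfold blockCoeff coefC
  simp only [Set.mem_singleton_iff, finsum_cond_eq_left]
  ring

/-- The idempotent of `φ` fixes the translates of `φ` and kills those of the other characters. -/
theorem sum_coefC_mul [Fintype V] [DecidableEq (IrrCharacter V)] (φ ψ : IrrCharacter V) (y : V) :
    ∑ u, coefC φ u * (ψ : V → ℂ) (u * y) = if ψ = φ then (ψ : V → ℂ) y else 0 := by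
  classical
  have h := Cfsg.Agent.S0923.sum_blockCoeff_mul_irr {φ} ψ y
  simp only [blockCoeff_singleton, Set.mem_singleton_iff] at h
  rw [h]

theorem coefC_conv [Fintype V] [DecidableEq (IrrCharacter V)] (φ ψ : IrrCharacter V) (y : V) :
    ∑ u, coefC φ u * coefC ψ (u⁻¹ * y) = if ψ = φ then coefC φ y else 0 := by
  have h : ∀ u : V, coefC ψ (u⁻¹ * y) =
      (ψ : V → ℂ) 1 / Nat.card V * (ψ : V → ℂ) (u * y⁻¹) := fun u => by
    have hc : conj ((ψ : V → ℂ) (u⁻¹ * y)) = (ψ : V → ℂ) (u * y⁻¹) := by
      rw [← CfsgLib.Char.IsIrrCharacter.apply_inv ψ.2, mul_inv_rev, inv_inv,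
        CfsgLib.Char.IsClassFunction.mul_comm' (CfsgLib.Char.IsIrrCharacter.isClassFunction ψ.2)]
    rw [coefC, hc]; ring
  simp only [h, mul_left_comm (coefC φ _)]
  rw [← Finset.mul_sum, sum_coefC_mul]
  split_ifs with he
  · subst he
    rw [coefC, ← CfsgLib.Char.IsIrrCharacter.apply_inv ψ.2]; ring
  · rw [mul_zero]

theorem coefC_conj (φ : IrrCharacter V) (u v : V) : coefC φ (u * v * u⁻¹) = coefC φ v := by
  rw [coefC, coefC, CfsgLib.Char.IsIrrCharacter.isClassFunction φ.2 v u]

variable (hV : ¬ p ∣ Nat.card V)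

include hV

theorem not_dvd_degree (φ : IrrCharacter V) : ¬ p ∣ charDegree (φ : V → ℂ) :=
  fun h => hV (h.trans (CharTools.degree_dvd_card φ))

theorem coefC_mem_range (φ : IrrCharacter V) (v : V) : coefC φ v ∈ (emb p).range := by
  obtain ⟨n, ρ, -, hρ⟩ := φ.2
  have hval : ∀ w, (φ : V → ℂ) w ∈ (emb p).range := fun w => by
    obtain ⟨μ, hμ, -, -, hpow⟩ := CfsgLib.Char.exists_eigenvalues ρ w
    have h1 := hpow 1
    simp only [pow_one] at h1
    rw [← hρ, h1]
    refine Subring.sum_mem _ fun i _ => mem_range_emb_of_pow p ?_ (hμ i)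
    exact fun hd => hV (hd.trans (orderOf_dvd_natCard w))
  rw [coefC, ← CfsgLib.Char.IsIrrCharacter.apply_inv φ.2]
  obtain ⟨u, hu⟩ := isUnit_natCast_of_not_dvd p hV
  have hinv : ((Nat.card V : ℂ))⁻¹ = emb p (↑u⁻¹ : WR p) := by
    refine inv_eq_of_mul_eq_one_right ?_
    rw [← map_natCast (emb p), ← map_mul, ← hu, Units.mul_inv, map_one]
  rw [div_eq_mul_inv, hinv]
  exact Subring.mul_mem _ (Subring.mul_mem _ (hval 1) (hval _)) ⟨_, rfl⟩

/-- The coefficients in the coefficient ring. -/
noncomputable def coefR (φ : IrrCharacter V) (v : V) : WR p :=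
  (RingHom.mem_range.1 (coefC_mem_range hV φ v)).choose

theorem emb_coefR (φ : IrrCharacter V) (v : V) : emb p (coefR hV φ v) = coefC φ v :=
  (RingHom.mem_range.1 (coefC_mem_range hV φ v)).choose_spec

theorem coefR_conv [Fintype V] [DecidableEq (IrrCharacter V)] (φ ψ : IrrCharacter V) (y : V) :
    ∑ u, coefR hV φ u * coefR hV ψ (u⁻¹ * y) = if ψ = φ then coefR hV φ y else 0 := by
  refine emb_injective p ?_
  simp only [map_sum, map_mul, emb_coefR, coefC_conv, apply_ite (emb p), map_zero]

/-- The idempotent in the group algebra. -/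
noncomputable def idem (φ : IrrCharacter V) : MonoidAlgebra (WR p) V :=
  haveI := Fintype.ofFinite V
  ∑ v, MonoidAlgebra.single v (coefR hV φ v)

theorem coeff_idem (φ : IrrCharacter V) (v : V) : (idem hV φ).coeff v = coefR hV φ v := by
  classical
  simp [idem, Finsupp.single_apply]

theorem idem_mul [DecidableEq (IrrCharacter V)] (φ ψ : IrrCharacter V) :
    idem hV φ * idem hV ψ = if ψ = φ then idem hV φ else 0 := by
  classical
  haveI := Fintype.ofFinite V
  refine MonoidAlgebra.ext (Finsupp.ext fun y => ?_)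
  rw [CfsgLib.Blocks.coeff_mul_group]
  simp only [coeff_idem, coefR_conv]
  split_ifs
  · rw [coeff_idem]
  · simp

/-- The idempotent in the residue algebra. -/
noncomputable def idemK (φ : IrrCharacter V) : MonoidAlgebra (kbar p) V :=
  MonoidAlgebra.mapRingHom V (res p) (idem hV φ)

theorem coeff_idemK (φ : IrrCharacter V) (v : V) :
    (idemK hV φ).coeff v = res p (coefR hV φ v) := by
  rw [idemK, CfsgLib.Blocks.coeff_map, coeff_idem]

theorem coefR_conj (φ : IrrCharacter V) (u v : V) :
    coefR hV φ (u * v * u⁻¹) = coefR hV φ v :=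
  emb_injective p (by rw [emb_coefR, emb_coefR, coefC_conj])

theorem isPrimitiveCentral_idemK (φ : IrrCharacter V) :
    IsPrimitiveCentral (idemK hV φ) := by
  classical
  haveI := Fintype.ofFinite V
  refine ⟨?_, fun a => ?_, fun z hz => ?_⟩
  · rw [idemK, ← map_mul, idem_mul, if_pos rfl]
  · induction a using MonoidAlgebra.induction_on with
    | of w =>
      refine MonoidAlgebra.ext (Finsupp.ext fun y => ?_)
      rw [MonoidAlgebra.of_apply, CfsgLib.Blocks.coeff_single_mul_group,
        CfsgLib.Blocks.coeff_mul_single_group, one_mul, mul_one, coeff_idemK, coeff_idemK]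
      congr 1
      conv_rhs => rw [← coefR_conj hV φ w⁻¹]
      congr 1; group
    | add f g hf hg => rw [add_mul, mul_add, hf, hg]
    | smul r f hf => rw [smul_mul_assoc, mul_smul_comm, hf]
  · -- lift the class function
    have hzc : ∀ w v : V, z.coeff (w * v * w⁻¹) = z.coeff v := fun w v => by
      have h := congrArg (fun a : MonoidAlgebra (kbar p) V => a.coeff (w * v))
        (hz (MonoidAlgebra.single w 1))
      simp only [CfsgLib.Blocks.coeff_single_mul_group, CfsgLib.Blocks.coeff_mul_single_group,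
        one_mul, mul_one, inv_mul_cancel_left] at h
      exact h.symm
    set f : V → WR p := fun v => Function.surjInv (res_surjective p) (z.coeff v) with hfdef
    have hf : ∀ w v, f (w * v * w⁻¹) = f v := fun w v => by simp only [hfdef, hzc]
    set zR : MonoidAlgebra (WR p) V := ∑ v, MonoidAlgebra.single v (f v)
    have hzR : ∀ v, zR.coeff v = f v := fun v => by simp [zR, Finsupp.single_apply]
    have hmap : MonoidAlgebra.mapRingHom V (res p) zR = z :=
      MonoidAlgebra.ext (Finsupp.ext fun v => by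
        rw [CfsgLib.Blocks.coeff_map, hzR, hfdef]
        exact Function.surjInv_eq (res_surjective p) _)
    obtain ⟨n, ρ, hρ, hρφ⟩ := φ.2
    haveI := hρ
    obtain ⟨c, hc, -⟩ := CfsgLib.Char.exists_scalar_sum_smul ρ (fun v => emb p (f v))
      (fun g h => congrArg (emb p) (hf h g))
    have hval : ∀ y, emb p ((zR * idem hV φ).coeff y) = c * coefC φ y := by
      intro y
      rw [CfsgLib.Blocks.coeff_mul_group, map_sum]
      simp only [map_mul, hzR, coeff_idem, emb_coefR]
      have h2 := congrArg (fun T => LinearMap.trace ℂ (Fin n → ℂ) (T * ρ y⁻¹)) hc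
      simp only [Finset.sum_mul, map_sum, smul_mul_assoc, one_mul, map_smul, ← map_mul,
        smul_eq_mul] at h2
      have h3 : ∀ v, LinearMap.trace ℂ (Fin n → ℂ) (ρ (v * y⁻¹)) = (φ : V → ℂ) (v * y⁻¹) :=
        fun v => congrFun hρφ _
      have h4 : LinearMap.trace ℂ (Fin n → ℂ) (ρ y⁻¹) = (φ : V → ℂ) y⁻¹ := congrFun hρφ _
      simp only [h3, h4] at h2
      have h5 : ∀ u : V, coefC φ (u⁻¹ * y) =
          (φ : V → ℂ) 1 / Nat.card V * (φ : V → ℂ) (u * y⁻¹) := fun u => by
        rw [coefC, ← CfsgLib.Char.IsIrrCharacter.apply_inv φ.2, mul_inv_rev, inv_inv,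
          CfsgLib.Char.IsClassFunction.mul_comm' (CfsgLib.Char.IsIrrCharacter.isClassFunction φ.2)]
        ring
      simp only [h5, mul_left_comm (emb p (f _))]
      rw [← Finset.mul_sum, h2, coefC, ← CfsgLib.Char.IsIrrCharacter.apply_inv φ.2]
      ring
    obtain ⟨u, hu⟩ := isUnit_natCast_of_not_dvd p
      (m := charDegree (φ : V → ℂ) ^ 2)
      (fun hd => not_dvd_degree hV φ ((Fact.out : p.Prime).dvd_of_dvd_pow hd))
    set ω : WR p := (zR * idem hV φ).coeff 1 * (Nat.card V : WR p) * (↑u⁻¹ : WR p)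
    have hω : emb p ω = c := by
      have hu' : emb p (↑u⁻¹ : WR p) * ((φ : V → ℂ) 1 * (φ : V → ℂ) 1) = 1 := by
        rw [← CharTools.irr_degree_cast φ, ← Nat.cast_mul, ← map_natCast (emb p), ← map_mul,
          ← sq, ← hu, Units.inv_mul, map_one]
      have hconj : conj ((φ : V → ℂ) 1) = (φ : V → ℂ) 1 := by
        rw [← CharTools.irr_degree_cast φ, map_natCast]
      simp only [ω, map_mul, hval, map_natCast, coefC, hconj]
      have hne : (Nat.card V : ℂ) ≠ 0 := Nat.cast_ne_zero.2 Nat.card_pos.ne'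
      calc c * ((φ : V → ℂ) 1 * (φ : V → ℂ) 1 / Nat.card V) * (Nat.card V : ℂ) *
            emb p (↑u⁻¹ : WR p)
          = c * (emb p (↑u⁻¹ : WR p) * ((φ : V → ℂ) 1 * (φ : V → ℂ) 1)) := by field_simp
        _ = c := by rw [hu', mul_one]
    refine ⟨res p ω, MonoidAlgebra.ext (Finsupp.ext fun y => ?_)⟩
    rw [← hmap, idemK, ← map_mul, CfsgLib.Blocks.coeff_map]
    have hy : (zR * idem hV φ).coeff y = ω * coefR hV φ y :=
      emb_injective p (by rw [hval, map_mul, hω, emb_coefR])
    rw [hy, map_mul]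
    simp [CfsgLib.Blocks.coeff_map, coeff_idem]

/-- The matrix of right multiplication by the idempotent. -/
noncomputable def regMatrix (φ : IrrCharacter V) : Matrix V V (WR p) :=
  Matrix.of fun a b => coefR hV φ (b⁻¹ * a)

/-- The part of the residue algebra has dimension `φ(1) ^ 2`. -/
theorem finrank_range_idemK (φ : IrrCharacter V) :
    Module.finrank (kbar p) (LinearMap.mulRight (kbar p) (idemK hV φ)).range =
      charDegree (φ : V → ℂ) ^ 2 := by
  classical
  haveI := Fintype.ofFinite V
  set E := regMatrix hV φ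
  have hE : E * E = E := by
    refine Matrix.ext fun a b => ?_
    simp only [E, regMatrix, Matrix.mul_apply, Matrix.of_apply]
    refine (Finset.sum_congr rfl fun j _ => mul_comm _ _).trans ?_
    have h := coefR_conv hV φ φ (b⁻¹ * a)
    rw [if_pos rfl] at h
    rw [← h]
    exact Fintype.sum_equiv (Equiv.mulLeft b⁻¹) _ _ fun j => by
      simp [mul_assoc]
  have hrank : Module.finrank (WR p) E.mulVecLin.range = charDegree (φ : V → ℂ) ^ 2 := by
    have htr := trace_eq_mul_finrank E 1 (by rw [hE, one_smul])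
    rw [one_mul] at htr
    have h2 := congrArg (emb p) htr
    rw [map_natCast] at h2
    simp only [Matrix.trace, Matrix.diag, E, regMatrix, Matrix.of_apply, inv_mul_cancel,
      Finset.sum_const, Finset.card_univ, map_nsmul, emb_coefR, coefC] at h2
    rw [← CharTools.irr_degree_cast φ, map_natCast, nsmul_eq_mul, Nat.card_eq_fintype_card,
      mul_div_cancel₀ _ (Nat.cast_ne_zero.2 Fintype.card_ne_zero), ← Nat.cast_mul] at h2
    rw [sq]
    exact_mod_cast h2.symm
  have hpure : ∀ v, (p : WR p) • v ∈ E.mulVecLin.range → v ∈ E.mulVecLin.range := fun v hv => by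
    refine (mem_rangeE hE).2 (natCast_smul_cancel (natCast_p_ne_zero p) ?_)
    have h3 := (mem_rangeE hE).1 hv
    rwa [Matrix.mulVec_smul] at h3
  rw [← hrank, ← finrank_map_red (res p) (p := p) (dvd_of_res_eq_zero p) (natCast_p_ne_zero p)
    E.mulVecLin.range hpure]
  let L : MonoidAlgebra (kbar p) V ≃ₗ[kbar p] (V → kbar p) :=
    (MonoidAlgebra.coeffLinearEquiv (kbar p)).trans
      (Finsupp.linearEquivFunOnFinite (kbar p) (kbar p) V)
  have hL : ∀ a v, L a v = a.coeff v := fun a v => rfl
  rw [← LinearEquiv.finrank_map_eq L (LinearMap.mulRight (kbar p) (idemK hV φ)).range]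
  have hsub : ((LinearMap.mulRight (kbar p) (idemK hV φ)).range).map
      (L : MonoidAlgebra (kbar p) V →ₗ[kbar p] (V → kbar p)) = E.mulVecLin.range.map (red (res p)) := by
    refine le_antisymm ?_ ?_
    · rintro _ ⟨_, ⟨a, rfl⟩, rfl⟩
      obtain ⟨u, hu⟩ := red_surjective (res p) (L a)
      refine ⟨E.mulVec u, ⟨u, rfl⟩, funext fun v => ?_⟩
      show red (res p) (E.mulVec u) v = (a * idemK hV φ).coeff v
      rw [red_mulVec, hu, CfsgLib.Blocks.coeff_mul_group]
      simp only [Matrix.mulVec, dotProduct, E, regMatrix, coeff_idemK, hL]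
      exact Finset.sum_congr rfl fun b _ => mul_comm _ _
    · rintro _ ⟨_, ⟨u, rfl⟩, rfl⟩
      refine ⟨_, ⟨L.symm (red (res p) u), rfl⟩, funext fun v => ?_⟩
      show (L.symm (red (res p) u) * idemK hV φ).coeff v = red (res p) (E.mulVec u) v
      rw [red_mulVec, CfsgLib.Blocks.coeff_mul_group]
      simp only [Matrix.mulVec, dotProduct, E, regMatrix, coeff_idemK]
      refine Finset.sum_congr rfl fun b _ => ?_
      rw [show (L.symm (red (res p) u)).coeff b = red (res p) u b from by
        rw [← hL, L.apply_symm_apply]]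
      exact mul_comm _ _
  rw [hsub]

end CfsgLib.DefectOne
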