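import Mathlib.LinearAlgebra.Quotient.Basic
import Mathlib.LinearAlgebra.FiniteDimensional.Lemmas
import Mathlib.LinearAlgebra.Dimension.RankNullity
import Mathlib.RingTheory.Nilpotent.Basic

/-!
# Endomorphisms of a subquotient
-/

set_option autoImplicit false

namespace CfsgLib.DefectOne

variable {k W : Type*} [Field k] [AddCommGroup W] [Module k W]

/-- The subquotient `K / B`. -/
abbrev Subq (B K : Submodule k W) : Type _ := K ⧸ B.comap K.subtype

variable {B K : Submodule k W}

/-- The endomorphisms preserving `B` and `K`. -/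
def preserving (B K : Submodule k W) : Subalgebra k (Module.End k W) where
  carrier := {f | (∀ y ∈ K, f y ∈ K) ∧ ∀ y ∈ B, f y ∈ B}
  mul_mem' {f g} hf hg := ⟨fun y hy => hf.1 _ (hg.1 y hy), fun y hy => hf.2 _ (hg.2 y hy)⟩
  add_mem' {f g} hf hg :=
    ⟨fun y hy => K.add_mem (hf.1 y hy) (hg.1 y hy), fun y hy => B.add_mem (hf.2 y hy) (hg.2 y hy)⟩
  algebraMap_mem' r := ⟨fun y hy => by
      rw [Module.algebraMap_end_apply]; exact K.smul_mem r hy, fun y hy => by
      rw [Module.algebraMap_end_apply]; exact B.smul_mem r hy⟩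

/-- The induced endomorphism. -/
def subqMap (B K : Submodule k W) : preserving B K →ₐ[k] Module.End k (Subq B K) where
  toFun f := Submodule.mapQ _ _ ((f : Module.End k W).restrict f.2.1)
    fun y hy => f.2.2 (y : W) hy
  map_one' := Submodule.linearMap_qext _ (LinearMap.ext fun _ => rfl)
  map_mul' f g := Submodule.linearMap_qext _ (LinearMap.ext fun _ => rfl)
  map_zero' := Submodule.linearMap_qext _ (LinearMap.ext fun _ => rfl)
  map_add' f g := Submodule.linearMap_qext _ (LinearMap.ext fun _ => rfl)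
  commutes' r := Submodule.linearMap_qext _ (LinearMap.ext fun _ => rfl)

theorem subqMap_mk (f : preserving B K) (y : K) :
    subqMap B K f (Submodule.Quotient.mk y) =
      Submodule.Quotient.mk ⟨(f : Module.End k W) y, f.2.1 y y.2⟩ := rfl

theorem subq_mk_eq {y z : K} :
    (Submodule.Quotient.mk y : Subq B K) = Submodule.Quotient.mk z ↔ (y : W) - z ∈ B := by
  rw [Submodule.Quotient.eq, Submodule.mem_comap]
  rfl

theorem finrank_subq_add [FiniteDimensional k W] (hBK : B ≤ K) :
    Module.finrank k (Subq B K) + Module.finrank k B = Module.finrank k K := by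
  rw [← LinearEquiv.finrank_eq (Submodule.comapSubtypeEquivOfLe hBK)]
  exact Submodule.finrank_quotient_add_finrank _

/-- An endomorphism of the subquotient lifts. -/
theorem exists_subqMap_eq (hBK : B ≤ K) (q : Module.End k (Subq B K)) :
    ∃ f : preserving B K, subqMap B K f = q := by
  obtain ⟨s, hs⟩ := LinearMap.exists_rightInverse_of_surjective (B.comap K.subtype).mkQ
    (LinearMap.range_eq_top.2 (Submodule.mkQ_surjective _))
  obtain ⟨P, hP⟩ := LinearMap.exists_extend (p := K) (LinearMap.id : K →ₗ[k] K)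
  refine ⟨⟨K.subtype.comp (s.comp (q.comp ((B.comap K.subtype).mkQ.comp P))),
    fun y _ => SetLike.coe_mem _, fun y hy => ?_⟩, ?_⟩
  · have h1 : P y = ⟨y, hBK hy⟩ := LinearMap.congr_fun hP ⟨y, hBK hy⟩
    have h2 : (B.comap K.subtype).mkQ (⟨y, hBK hy⟩ : K) = 0 :=
      (Submodule.Quotient.mk_eq_zero _).2 hy
    simp [h1]
    rw [show (Submodule.Quotient.mk (⟨y, hBK hy⟩ : K) : Subq B K) = 0 from h2, map_zero, map_zero]
    exact B.zero_mem
  · refine Submodule.linearMap_qext _ (LinearMap.ext fun y => ?_)
    have h1 : P (y : W) = y := LinearMap.congr_fun hP y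
    show Submodule.Quotient.mk (s (q (Submodule.Quotient.mk (P (y : W))))) = q (Submodule.Quotient.mk y)
    rw [h1]
    exact LinearMap.congr_fun hs _

theorem isUnit_or_isNilpotent_subqMap [FiniteDimensional k W] (f : preserving B K)
    (hf : IsUnit (f : Module.End k W) ∨ IsNilpotent (f : Module.End k W)) :
    IsUnit (subqMap B K f) ∨ IsNilpotent (subqMap B K f) := by
  rcases hf with hf | ⟨N, hN⟩
  · left
    have hinj : Function.Injective (f : Module.End k W) :=
      ((Module.End.isUnit_iff _).1 hf).1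
    have hsurjK : ∀ z ∈ K, ∃ y ∈ K, (f : Module.End k W) y = z := by
      intro z hz
      have hsurj : Function.Surjective ((f : Module.End k W).restrict f.2.1) :=
        LinearMap.injective_iff_surjective.1 fun a b hab => Subtype.ext (hinj (congrArg Subtype.val hab))
      obtain ⟨⟨y, hy⟩, hyz⟩ := hsurj ⟨z, hz⟩
      exact ⟨y, hy, congrArg Subtype.val hyz⟩
    have hs : Function.Surjective (subqMap B K f) := by
      intro z
      obtain ⟨⟨z, hz⟩, rfl⟩ := Submodule.Quotient.mk_surjective _ z
      obtain ⟨y, hy, rfl⟩ := hsurjK z hz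
      exact ⟨Submodule.Quotient.mk ⟨y, hy⟩, rfl⟩
    exact (Module.End.isUnit_iff _).2 ⟨LinearMap.injective_iff_surjective.2 hs, hs⟩
  · right
    refine ⟨N, ?_⟩
    rw [← map_pow, show f ^ N = 0 from Subtype.ext (by rw [SubmonoidClass.coe_pow, hN]; rfl),
      map_zero]

end CfsgLib.DefectOne
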