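import Cfsg.Agent.Lib.DefectOne.Group
import Cfsg.Agent.Lib.DefectOne.Idem
import Cfsg.Agent.Lib.DefectOne.Subquot

/-!
# The idempotent matrices and the stabilizer of a character of the regular part
-/

set_option autoImplicit false

namespace CfsgLib.DefectOne

open Cfsg

universe u

section Pair

variable {p : ℕ} [Fact p.Prime]
variable {G : Type u} [Group G] [Finite G] {x : G} (hx : HypOne p x)
variable {n : Type} [Fintype n] [DecidableEq n] (ρ : G →* Matrix n n (WR p))

/-- The reduction of a matrix acting on reduced vectors. -/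
noncomputable def redEnd (A : Matrix n n (WR p)) : Module.End (kbar p) (n → kbar p) :=
  Matrix.toLinAlgEquiv' ((res p).mapMatrix A)

theorem redEnd_mul (A A' : Matrix n n (WR p)) : redEnd (A * A') = redEnd A * redEnd A' := by
  simp [redEnd, map_mul]

theorem redEnd_one : redEnd (1 : Matrix n n (WR p)) = 1 := by simp [redEnd]

theorem redEnd_red (A : Matrix n n (WR p)) (v : n → WR p) :
    redEnd A (red (res p) v) = red (res p) (A.mulVec v) := by
  rw [red_mulVec, redEnd, Matrix.toLinAlgEquiv'_apply]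

theorem redEnd_sum {ι : Type*} (s : Finset ι) (F : ι → Matrix n n (WR p)) :
    redEnd (∑ i ∈ s, F i) = ∑ i ∈ s, redEnd (F i) := by
  simp [redEnd, map_sum]

theorem redEnd_pow (A : Matrix n n (WR p)) (i : ℕ) : redEnd (A ^ i) = redEnd A ^ i := by
  simp [redEnd, map_pow]

theorem redEnd_smul (r : WR p) (A : Matrix n n (WR p)) :
    redEnd (r • A) = res p r • redEnd A := by
  have h : (res p).mapMatrix (r • A) = res p r • (res p).mapMatrix A :=
    Matrix.ext fun i j => map_mul (res p) _ _
  rw [redEnd, redEnd, h, map_smul]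

include hx in
theorem not_dvd_card_regPart' : ¬ p ∣ Nat.card (regPart p x) := hx.not_dvd_card_regPart

/-- The idempotent matrix of `φ` in the representation `ρ`. -/
noncomputable def idemMat (φ : IrrCharacter (regPart p x)) : Matrix n n (WR p) :=
  MonoidAlgebra.lift (WR p) (Matrix n n (WR p)) (regPart p x) (ρ.comp (regPart p x).subtype)
    (idem hx.not_dvd_card_regPart φ)

theorem idemMat_eq [Fintype (regPart p x)] (φ : IrrCharacter (regPart p x)) :
    idemMat hx ρ φ =
      ∑ v : regPart p x, coefR hx.not_dvd_card_regPart φ v • ρ (v : G) := by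
  rw [idemMat]
  simp only [idem, map_sum, MonoidAlgebra.lift_single, MonoidHom.comp_apply, Subgroup.coe_subtype]
  refine Finset.sum_congr (by ext; simp) fun v _ => rfl

theorem idemMat_mul [DecidableEq (IrrCharacter (regPart p x))]
    (φ ψ : IrrCharacter (regPart p x)) :
    idemMat hx ρ φ * idemMat hx ρ ψ = if ψ = φ then idemMat hx ρ φ else 0 := by
  rw [idemMat, idemMat, ← map_mul, idem_mul]
  split_ifs <;> simp

/-- Conjugation by a normalizing element. -/
def conjEquiv {g : G} (hg : g ∈ norm₁ x) : regPart p x ≃* regPart p x where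
  toFun v := ⟨g * v * g⁻¹, hx.regPart_conj hg v.2⟩
  invFun v := ⟨g⁻¹ * v * g, by simpa using hx.regPart_conj (inv_mem hg) v.2⟩
  left_inv v := Subtype.ext (by simp [mul_assoc])
  right_inv v := Subtype.ext (by simp [mul_assoc])
  map_mul' v w := Subtype.ext (by simp [mul_assoc])

/-- The conjugate character. -/
def conjChar {g : G} (hg : g ∈ norm₁ x) (φ : IrrCharacter (regPart p x)) :
    IrrCharacter (regPart p x) :=
  ⟨fun v => (φ : regPart p x → ℂ) (conjEquiv hx hg v),
    CfsgLib.Char.IsIrrCharacter.comp_mulEquiv φ.2 (conjEquiv hx hg)⟩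

theorem conjChar_apply {g : G} (hg : g ∈ norm₁ x) (φ : IrrCharacter (regPart p x))
    (v : regPart p x) :
    (conjChar hx hg φ : regPart p x → ℂ) v =
      (φ : regPart p x → ℂ) ⟨g * v * g⁻¹, hx.regPart_conj hg v.2⟩ := rfl

theorem mul_idemMat {g : G} (hg : g ∈ norm₁ x) (φ : IrrCharacter (regPart p x)) :
    ρ g * idemMat hx ρ (conjChar hx hg φ) = idemMat hx ρ φ * ρ g := by
  haveI := Fintype.ofFinite (regPart p x)
  rw [idemMat_eq, idemMat_eq, Finset.mul_sum, Finset.sum_mul]
  refine Fintype.sum_equiv (conjEquiv hx hg).toEquiv _ _ fun v => ?_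
  rw [mul_smul_comm, smul_mul_assoc, ← map_mul, ← map_mul]
  have hc : coefR hx.not_dvd_card_regPart (conjChar hx hg φ) v =
      coefR hx.not_dvd_card_regPart φ (conjEquiv hx hg v) := by
    refine emb_injective p ?_
    rw [emb_coefR, emb_coefR, coefC, coefC]
    simp only [conjChar]
    rw [map_one]
  show _ • ρ (g * (v : G)) = coefR hx.not_dvd_card_regPart φ (conjEquiv hx hg v) •
    ρ (((conjEquiv hx hg v : regPart p x) : G) * g)
  rw [hc]
  congr 2
  show g * (v : G) = g * (v : G) * g⁻¹ * g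
  group

/-- The elements of the normalizer fixing `φ`. -/
def stab (φ : IrrCharacter (regPart p x)) : Subgroup G where
  carrier := {g | ∃ hg : g ∈ norm₁ x, conjChar hx hg φ = φ}
  one_mem' := ⟨one_mem _, Subtype.ext (funext fun v => by simp [conjChar_apply])⟩
  mul_mem' {a b} := fun ⟨ha, hae⟩ ⟨hb, hbe⟩ => ⟨mul_mem ha hb, Subtype.ext (funext fun v => by
    have h1 := congrFun (congrArg Subtype.val hbe) v
    rw [conjChar_apply] at h1 ⊢
    have h2 := congrFun (congrArg Subtype.val hae) ⟨b * v * b⁻¹, hx.regPart_conj hb v.2⟩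
    rw [conjChar_apply] at h2
    refine Eq.trans (congrArg _ (Subtype.ext ?_)) (h2.trans h1)
    show a * b * (v : G) * (a * b)⁻¹ = a * (b * (v : G) * b⁻¹) * a⁻¹
    group)⟩
  inv_mem' {a} := fun ⟨ha, hae⟩ => ⟨inv_mem ha, Subtype.ext (funext fun v => by
    rw [conjChar_apply]
    have h := congrFun (congrArg Subtype.val hae) ⟨a⁻¹ * v * a⁻¹⁻¹,
      hx.regPart_conj (inv_mem ha) v.2⟩
    rw [conjChar_apply] at h
    refine Eq.trans h.symm (congrArg _ (Subtype.ext ?_))
    show a * (a⁻¹ * (v : G) * a⁻¹⁻¹) * a⁻¹ = (v : G)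
    group)⟩

include hx in
theorem cent_le_norm : cent x ≤ norm₁ x := by
  intro g hg
  refine hx.mem_norm_iff.2 ⟨1, hx.prime.not_dvd_one, ?_⟩
  rw [(mem_cent_iff.1 hg).eq, mul_inv_cancel_right, pow_one]

theorem cent_le_stab (φ : IrrCharacter (regPart p x)) : cent x ≤ stab hx φ := by
  intro g hg
  refine ⟨cent_le_norm hx hg, Subtype.ext (funext fun v => ?_)⟩
  rw [conjChar_apply]
  obtain ⟨i, -, w, rfl⟩ := hx.exists_decomp hg
  have h : (⟨x ^ i * (w : G) * (v : G) * (x ^ i * (w : G))⁻¹,
      hx.regPart_conj (cent_le_norm hx hg) v.2⟩ : regPart p x) = w * v * w⁻¹ := Subtype.ext (by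
    have hc : Commute ((w : G) * v * (w : G)⁻¹) (x ^ i) := by
      have := (hx.commute_regPart (w * v * w⁻¹)).pow_right i
      simpa using this
    calc x ^ i * (w : G) * (v : G) * (x ^ i * (w : G))⁻¹
        = x ^ i * ((w : G) * v * (w : G)⁻¹) * (x ^ i)⁻¹ := by group
      _ = (w : G) * v * (w : G)⁻¹ := by rw [← hc.eq, mul_inv_cancel_right]
      _ = _ := by simp)
  rw [h]
  exact CfsgLib.Char.IsIrrCharacter.isClassFunction φ.2 v w

end Pair

end CfsgLib.DefectOne
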