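import Mathlib.GroupTheory.GroupAction.Basic
import Mathlib.GroupTheory.OrderOfElement
import Mathlib.Algebra.BigOperators.Group.Finset.Sigma

/-!
# Sums over points moved by an element of prime order
-/

set_option autoImplicit false

namespace CfsgLib.DefectOne

section Orbits

variable {A : Type*} [Group A] {α : Type*} [MulAction A α] {β : Type*} [AddCommMonoid β]

/-- A sum over a set of points moved by an element of prime order splits into full orbits. -/
theorem sum_mem_of_orbits [DecidableEq α] (B : AddSubmonoid β) (a : A) {p : ℕ} (hp : p.Prime)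
    (ha : a ^ p = 1) (S : Finset α) (hmove : ∀ c ∈ S, a • c ≠ c) (hS : ∀ c ∈ S, a • c ∈ S)
    (F : α → β) (hF : ∀ c, (∑ i ∈ Finset.range p, F (a ^ i • c)) ∈ B) : ∑ c ∈ S, F c ∈ B := by
  induction S using Finset.strongInduction with
  | _ S ih =>
    rcases S.eq_empty_or_nonempty with rfl | ⟨c, hc⟩
    · simp [B.zero_mem]
    · set O := (Finset.range p).image (fun i => a ^ i • c)
      have hOS : O ⊆ S := by
        intro d hd
        obtain ⟨i, -, rfl⟩ := Finset.mem_image.1 hd
        clear hd
        induction i with
        | zero => simpa using hc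
        | succ i ih' => rw [pow_succ', mul_smul]; exact hS _ ih'
      have hord : orderOf a = p := by
        rcases (Nat.dvd_prime hp).1 (orderOf_dvd_of_pow_eq_one ha) with h | h
        · exact absurd (by rw [orderOf_eq_one_iff.1 h, one_smul]) (hmove c hc)
        · exact h
      have hinj : Set.InjOn (fun i => a ^ i • c) (Finset.range p : Set ℕ) := by
        have key : ∀ d, 0 < d → d < p → a ^ d • c ≠ c := by
          intro d hd0 hdp hfix
          obtain ⟨m, -, hm⟩ := Nat.exists_mul_mod_eq_one_of_coprime
            ((hp.coprime_iff_not_dvd.2 fun hd => by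
              have := Nat.le_of_dvd hd0 hd; omega).symm) hp.one_lt
          have h1 : ∀ j, (a ^ d) ^ j • c = c := fun j => by
            induction j with
            | zero => simp
            | succ j ihj => rw [pow_succ, mul_smul, hfix, ihj]
          refine hmove c hc ?_
          have h2 := h1 m
          rw [← pow_mul, ← pow_mod_orderOf, hord, hm, pow_one] at h2
          exact h2
        intro i hi j hj hij
        simp only [Finset.coe_range, Set.mem_Iio] at hi hj
        by_contra hne
        rcases lt_or_gt_of_ne hne with h | h
        · refine key (j - i) (by omega) (by omega) (MulAction.injective (a ^ i) ?_)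
          show a ^ i • a ^ (j - i) • c = a ^ i • c
          rw [← mul_smul, ← pow_add, Nat.add_sub_cancel' h.le]; exact hij.symm
        · refine key (i - j) (by omega) (by omega) (MulAction.injective (a ^ j) ?_)
          show a ^ j • a ^ (i - j) • c = a ^ j • c
          rw [← mul_smul, ← pow_add, Nat.add_sub_cancel' h.le]; exact hij
      rw [← Finset.sum_sdiff hOS]
      refine B.add_mem ?_ ?_
      · refine ih _ (Finset.sdiff_ssubset hOS ⟨c, Finset.mem_image.2
          ⟨0, Finset.mem_range.2 hp.pos, by simp⟩⟩)
          (fun d hd => hmove d (Finset.mem_sdiff.1 hd).1) fun d hd => ?_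
        obtain ⟨hd1, hd2⟩ := Finset.mem_sdiff.1 hd
        refine Finset.mem_sdiff.2 ⟨hS d hd1, fun hd3 => hd2 ?_⟩
        obtain ⟨i, hi, hid⟩ := Finset.mem_image.1 hd3
        refine Finset.mem_image.2 ⟨(i + (p - 1)) % p, Finset.mem_range.2 (Nat.mod_lt _ hp.pos), ?_⟩
        refine MulAction.injective a ?_
        show a • a ^ ((i + (p - 1)) % p) • c = a • d
        have h6 : a * a ^ ((i + (p - 1)) % p) = a ^ i := by
          rw [← pow_succ', ← hord, pow_succ', pow_mod_orderOf, ← pow_succ', hord,
            show i + (p - 1) + 1 = i + p by have := hp.pos; omega, pow_add, ha, mul_one]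
        rw [← hid, ← mul_smul, h6]
      · rw [Finset.sum_image hinj]
        exact hF c

end Orbits

end CfsgLib.DefectOne
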