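import Cfsg.Agent.Lib.DefectOne.Group
import Cfsg.Agent.Lib.DefectOne.Orbits
import Mathlib.GroupTheory.Coset.Card
import Mathlib.GroupTheory.GroupAction.Quotient
import Mathlib.LinearAlgebra.Basis.Defs
import Mathlib.Algebra.Module.LinearMap.End

/-!
# Averaging an endomorphism over the cosets of a subgroup of prime order
-/

set_option autoImplicit false

namespace CfsgLib.DefectOne

universe u

variable {G : Type u} [Group G] [Finite G] {p : ℕ} {x : G}
variable {k W : Type*} [Field k] [AddCommGroup W] [Module k W]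
variable {M : Type*} [Ring M]

/-- If `q` commutes with `x`, vanishes between the `T`-translates and commutes with `T` on the
subquotient, its average over `G / ⟨x⟩` commutes with `G` and induces a multiple of `q`. -/
theorem exists_average (hx : HypOne p x) (T : Subgroup G) (hxT : x ∈ T) (hTN : T ≤ norm₁ x)
    (f : M →+* Module.End k W) (ρ : G →* M) (E q : M) {B K : Submodule k W}
    (hqx : Commute q (ρ x)) (hEρ : ∀ v : G, v ∈ norm₁ x → v ∉ T → E * ρ v * q = 0)
    (hnorm : ∀ A : M, ∀ y ∈ K,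
      f (E * ∑ i ∈ Finset.range p, ρ (x ^ i) * A * ρ (x ^ i)⁻¹) y ∈ B)
    (hfix : ∀ s : M, (∀ g, Commute (ρ g) s) → ∀ y ∈ K, f (E * s) y = f s y)
    (hT : ∀ t ∈ T, ∀ y ∈ K, f (E * (ρ t * q * ρ t⁻¹)) y - f q y ∈ B) :
    ∃ (s : M) (m : ℕ), ¬ p ∣ m ∧ (∀ g, Commute (ρ g) s) ∧
      ∀ y ∈ K, f s y - (m : k) • f q y ∈ B := by
  classical
  haveI : Fintype (G ⧸ Subgroup.zpowers x) := Fintype.ofFinite _
  let F : G ⧸ Subgroup.zpowers x → M := fun c => ρ c.out * q * ρ (c.out)⁻¹
  have hF : ∀ g : G, F (g : G ⧸ Subgroup.zpowers x) = ρ g * q * ρ g⁻¹ := by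
    intro g
    obtain ⟨⟨h, hh⟩, hgh⟩ := QuotientGroup.mk_out_eq_mul (Subgroup.zpowers x) g
    simp only [F, hgh]
    obtain ⟨i, -, rfl⟩ := hx.mem_zpowers_iff_pow.1 hh
    have h1 : ρ (x ^ i) * q * ρ (x ^ i)⁻¹ = q := by
      rw [map_pow, ← (hqx.pow_right i).eq, mul_assoc, ← map_pow, ← map_mul, mul_inv_cancel, map_one,
        mul_one]
    rw [map_mul, mul_inv_rev, map_mul]
    conv_rhs => rw [← h1]
    simp only [mul_assoc]
  have hFsmul : ∀ (h : G) c, F (h • c) = ρ h * F c * ρ h⁻¹ := by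
    intro h c
    induction c using QuotientGroup.induction_on with
    | H g =>
      rw [MulAction.Quotient.smul_coe, hF, hF, smul_eq_mul, map_mul, mul_inv_rev, map_mul]
      simp only [mul_assoc]
  have hle : Subgroup.zpowers x ≤ T := Subgroup.zpowers_le.2 hxT
  have hout : ∀ g : G, (g : G ⧸ Subgroup.zpowers x).out ∈ T ↔ g ∈ T := fun g => by
    obtain ⟨⟨h, hh⟩, hgh⟩ := QuotientGroup.mk_out_eq_mul (Subgroup.zpowers x) g
    rw [hgh]
    exact T.mul_mem_cancel_right (hle hh)
  set S := Finset.univ.filter (fun c : G ⧸ Subgroup.zpowers x => c.out ∈ T) with hS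
  have hcardT : Nat.card T = p * S.card := by
    rw [← Subgroup.card_mul_index ((Subgroup.zpowers x).subgroupOf T),
      Nat.card_congr (Subgroup.subgroupOfEquivOfLe hle).toEquiv, hx.card_zpowers]
    congr 1
    rw [Subgroup.index, ← Fintype.card_coe, ← Nat.card_eq_fintype_card]
    refine Nat.card_congr (Equiv.ofBijective (fun c : T ⧸ (Subgroup.zpowers x).subgroupOf T =>
      (⟨Quotient.liftOn' c (fun t => ((t : G) : G ⧸ Subgroup.zpowers x)) (fun a b hab => by
          rw [QuotientGroup.leftRel_apply, Subgroup.mem_subgroupOf] at hab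
          exact QuotientGroup.eq.2 hab), ?_⟩ : S)) ⟨?_, ?_⟩)
    · induction c using QuotientGroup.induction_on with
      | H t => exact Finset.mem_filter.2 ⟨Finset.mem_univ _, (hout t).2 t.2⟩
    · intro a b hab
      induction a using QuotientGroup.induction_on with
      | H a =>
        induction b using QuotientGroup.induction_on with
        | H b =>
          have h1 := QuotientGroup.eq.1 (congrArg Subtype.val hab)
          exact QuotientGroup.eq.2 (Subgroup.mem_subgroupOf.2 h1)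
    · rintro ⟨c, hc⟩
      exact ⟨((⟨c.out, (Finset.mem_filter.1 hc).2⟩ : T) : T ⧸ (Subgroup.zpowers x).subgroupOf T),
        Subtype.ext (QuotientGroup.out_eq' c)⟩
  have hScard : ¬ p ∣ S.card := fun hd => hx.not_sq (by
    refine dvd_trans ?_ (Subgroup.card_subgroup_dvd_card T)
    rw [hcardT, sq]
    exact mul_dvd_mul_left p hd)
  have hscomm : ∀ g, Commute (ρ g) (∑ c, F c) := by
    intro g
    show ρ g * ∑ c, F c = (∑ c, F c) * ρ g
    conv_rhs => rw [← Equiv.sum_comp (MulAction.toPerm g) F, Finset.sum_mul]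
    rw [Finset.mul_sum]
    refine Finset.sum_congr rfl fun c _ => ?_
    rw [MulAction.toPerm_apply, hFsmul, mul_assoc, ← map_mul, inv_mul_cancel, map_one, mul_one]
  refine ⟨∑ c, F c, S.card, hScard, hscomm, fun y hy => ?_⟩
  have hmove : ∀ c : G ⧸ Subgroup.zpowers x, c.out ∉ norm₁ x → x • c ≠ c := by
    intro c hc hfix
    refine hc ?_
    conv_lhs at hfix => rw [← QuotientGroup.out_eq' c]
    conv_rhs at hfix => rw [← QuotientGroup.out_eq' c]
    rw [MulAction.Quotient.smul_coe, eq_comm, QuotientGroup.eq, smul_eq_mul, ← mul_assoc] at hfix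
    obtain ⟨i, -, hi⟩ := hx.mem_zpowers_iff_pow.1 hfix
    refine inv_mem_iff.1 (hx.mem_norm_iff.2 ⟨i, fun hd => hx.ne_one ?_, by rw [inv_inv, hi]⟩)
    rw [hx.pow_eq_one_iff.2 hd] at hi
    exact (conj_eq_one_iff (a := (Quotient.out c)⁻¹)).1 (by rw [inv_inv]; exact hi.symm)
  have hxN : Subgroup.zpowers x ≤ norm₁ x := Subgroup.le_normalizer
  have hmoved : (∑ c ∈ Finset.univ.filter (fun c : G ⧸ Subgroup.zpowers x =>
      c.out ∉ norm₁ x), f (E * F c) y) ∈ B.toAddSubmonoid := by
    refine sum_mem_of_orbits B.toAddSubmonoid x hx.prime hx.pow_p _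
      (fun c hc => hmove c (Finset.mem_filter.1 hc).2) (fun c hc => ?_) _ (fun c => ?_)
    · refine Finset.mem_filter.2 ⟨Finset.mem_univ _, fun hmem => (Finset.mem_filter.1 hc).2 ?_⟩
      obtain ⟨⟨h, hh⟩, hgh⟩ := QuotientGroup.mk_out_eq_mul (Subgroup.zpowers x) (x * c.out)
      rw [← smul_eq_mul, ← MulAction.Quotient.smul_coe, QuotientGroup.out_eq'] at hgh
      have h5 : c.out = x⁻¹ * (x • c).out * h⁻¹ := by rw [hgh, smul_eq_mul]; group
      rw [h5]
      exact mul_mem (mul_mem (inv_mem (hxN (Subgroup.mem_zpowers x))) hmem) (inv_mem (hxN hh))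
    · show ∑ i ∈ Finset.range p, f (E * F (x ^ i • c)) y ∈ B
      rw [← LinearMap.sum_apply, ← map_sum, ← Finset.mul_sum]
      simp only [hFsmul]
      exact hnorm (F c) y hy
  have hfixed : ∀ c : G ⧸ Subgroup.zpowers x, c.out ∈ norm₁ x → c.out ∉ T →
      f (E * F c) y = 0 := by
    intro c hcN hcT
    simp only [F, ← mul_assoc, hEρ _ hcN hcT, zero_mul, map_zero, LinearMap.zero_apply]
  have hscaled : f (∑ c, F c) y = ∑ c, f (E * F c) y := by
    rw [← hfix _ hscomm y hy, Finset.mul_sum, map_sum, LinearMap.sum_apply]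
  have hq : (S.card : k) • f q y = ∑ _c ∈ S, f q y := by
    rw [Finset.sum_const, ← Nat.cast_smul_eq_nsmul k]
  rw [hscaled, hq, ← Finset.sum_filter_add_sum_filter_not Finset.univ
    (fun c : G ⧸ Subgroup.zpowers x => c.out ∈ norm₁ x)]
  have hsubset : S ⊆ Finset.univ.filter (fun c : G ⧸ Subgroup.zpowers x => c.out ∈ norm₁ x) :=
    fun c hc => Finset.mem_filter.2 ⟨Finset.mem_univ _, hTN (Finset.mem_filter.1 hc).2⟩
  rw [← Finset.sum_subset hsubset (fun c hc hcS => hfixed c (Finset.mem_filter.1 hc).2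
    (fun h => hcS (Finset.mem_filter.2 ⟨Finset.mem_univ _, h⟩))), add_sub_right_comm,
    ← Finset.sum_sub_distrib]
  exact B.add_mem (Submodule.sum_mem _ fun c hc => hT _ (Finset.mem_filter.1 hc).2 y hy) hmoved

end CfsgLib.DefectOne
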