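import Mathlib.RingTheory.AdicCompletion.Basic
import Mathlib.FieldTheory.Minpoly.Field
import Mathlib.RingTheory.Polynomial.Basic
import Mathlib.LinearAlgebra.Matrix.Charpoly.Coeff
import Mathlib.RingTheory.Ideal.Quotient.Operations
import Mathlib.LinearAlgebra.Matrix.Charpoly.Minpoly
import Mathlib.Tactic.NoncommRing

/-!
# Lifting idempotents in commutants of matrices over a complete ring
-/

set_option autoImplicit false

namespace CfsgLib.DefectOne

variable {R k : Type*} [CommRing R] [Field k] {n : Type*} [Fintype n] [DecidableEq n]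

/-- A polynomial idempotent separating the invertible and the nilpotent part. -/
theorem exists_fitting (s : Matrix n n k) :
    ∃ f : Polynomial k, Polynomial.aeval s f * Polynomial.aeval s f = Polynomial.aeval s f ∧
      (Polynomial.aeval s f = 0 → IsNilpotent s) ∧ (Polynomial.aeval s f = 1 → IsUnit s) := by
  have hint : IsIntegral k s := Algebra.IsIntegral.isIntegral s
  obtain ⟨Q, hQ, hXQ⟩ := Polynomial.exists_eq_pow_rootMultiplicity_mul_and_not_dvd (minpoly k s)
    (minpoly.ne_zero hint) 0
  simp only [map_zero, sub_zero] at hQ hXQ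
  set a := Polynomial.rootMultiplicity 0 (minpoly k s)
  have hcop : IsCoprime (Polynomial.X ^ a) Q :=
    ((Polynomial.prime_X.irreducible.coprime_iff_not_dvd).2 hXQ).pow_left
  obtain ⟨u, v, huv⟩ := hcop
  have h0 : Polynomial.aeval s (Polynomial.X ^ a * Q) = 0 := by rw [← hQ, minpoly.aeval]
  refine ⟨u * Polynomial.X ^ a, ?_, fun he => ?_, fun he => ?_⟩
  · rw [← map_mul, ← sub_eq_zero, ← map_sub]
    have h : u * Polynomial.X ^ a * (u * Polynomial.X ^ a) - u * Polynomial.X ^ a =
        (-(u * v)) * (Polynomial.X ^ a * Q) := by linear_combination (u * Polynomial.X ^ a) * huv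
    rw [h, map_mul, h0, mul_zero]
  · refine ⟨a, ?_⟩
    have h := congrArg (Polynomial.aeval s) huv
    rw [map_add, he, zero_add, map_one] at h
    calc s ^ a = s ^ a * Polynomial.aeval s (v * Q) := by rw [h, mul_one]
      _ = Polynomial.aeval s (v * (Polynomial.X ^ a * Q)) := by
        rw [← Polynomial.aeval_X_pow (R := k) s, ← map_mul]
        refine congrArg (Polynomial.aeval s) ?_
        ring
      _ = 0 := by rw [map_mul, h0, mul_zero]
  · rcases Nat.eq_zero_or_pos a with ha | ha
    · rw [ha, pow_zero, one_mul] at h0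
      obtain ⟨Q', hQ'⟩ : Polynomial.X ∣ Q - Polynomial.C (Q.coeff 0) := by
        rw [Polynomial.X_dvd_iff]; simp
      have hc : Q.coeff 0 ≠ 0 := fun hc => hXQ (Polynomial.X_dvd_iff.2 hc)
      refine IsUnit.of_mul_eq_one (a := s)
        (Polynomial.aeval s (-(Polynomial.C (Q.coeff 0)⁻¹ * Q'))) ?_
      have h1 : Polynomial.X * (-(Polynomial.C (Q.coeff 0)⁻¹ * Q')) =
          1 + (-(Polynomial.C (Q.coeff 0)⁻¹)) * Q := by
        have h3 : (Polynomial.C (Q.coeff 0)⁻¹ : Polynomial k) * Polynomial.C (Q.coeff 0) = 1 := by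
          rw [← map_mul, inv_mul_cancel₀ hc, map_one]
        linear_combination (Polynomial.C (Q.coeff 0)⁻¹) * hQ' + h3
      have h2 := congrArg (Polynomial.aeval s) h1
      rw [map_mul, Polynomial.aeval_X, map_add, map_one, map_mul _ (-_) Q, h0, mul_zero,
        add_zero] at h2
      exact h2
    · obtain ⟨b, hb⟩ := Nat.exists_eq_succ_of_ne_zero ha.ne'
      refine IsUnit.of_mul_eq_one (a := s) (Polynomial.aeval s (u * Polynomial.X ^ b)) ?_
      have h : Polynomial.X * (u * Polynomial.X ^ b) = u * Polynomial.X ^ a := by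
        rw [hb, pow_succ]; ring
      have h2 := congrArg (Polynomial.aeval s) h
      rw [map_mul, Polynomial.aeval_X, he] at h2
      exact h2

/-- The iteration of idempotent lifting. -/
def liftStep (e : Matrix n n R) : Matrix n n R := 3 • e ^ 2 - 2 • e ^ 3

theorem liftStep_sub (e : Matrix n n R) :
    liftStep e - e = -((e ^ 2 - e) * (2 • e - 1)) := by
  simp only [liftStep, succ_nsmul, zero_nsmul, zero_add]
  noncomm_ring

theorem liftStep_sq_sub (e : Matrix n n R) :
    liftStep e ^ 2 - liftStep e = (e ^ 2 - e) * (e ^ 2 - e) * (4 • e ^ 2 - 4 • e - 3) := by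
  simp only [liftStep, succ_nsmul, zero_nsmul, zero_add]
  noncomm_ring

variable {p : ℕ}

/-- Reduction of matrices modulo a power of `p`. -/
noncomputable def modPow (p : ℕ) (m : ℕ) :
    Matrix n n R →+* Matrix n n (R ⧸ (Ideal.span {(p : R)}) ^ m) :=
  (Ideal.Quotient.mk ((Ideal.span {(p : R)}) ^ m)).mapMatrix

theorem modPow_eq_zero {m : ℕ} {A : Matrix n n R} :
    modPow p m A = 0 ↔ ∀ i j, A i j ∈ (Ideal.span {(p : R)}) ^ m := by
  constructor
  · intro h i j
    exact Ideal.Quotient.eq_zero_iff_mem.1 (congrFun (congrFun h i) j)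
  · exact fun h => Matrix.ext fun i j => Ideal.Quotient.eq_zero_iff_mem.2 (h i j)

theorem modPow_eq_zero_of_le {m m' : ℕ} (h : m' ≤ m) {A : Matrix n n R}
    (hA : modPow p m A = 0) : modPow p m' A = 0 :=
  modPow_eq_zero.2 fun i j => Ideal.pow_le_pow_right h (modPow_eq_zero.1 hA i j)

theorem modPow_mul_eq_zero {m m' : ℕ} {A B : Matrix n n R} (hA : modPow p m A = 0)
    (hB : modPow p m' B = 0) : modPow p (m + m') (A * B) = 0 :=
  modPow_eq_zero.2 fun i j => by
    rw [Matrix.mul_apply, pow_add]
    exact Ideal.sum_mem _ fun l _ =>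
      Ideal.mul_mem_mul (modPow_eq_zero.1 hA i l) (modPow_eq_zero.1 hB l j)

variable [IsAdicComplete (Ideal.span {(p : R)}) R]

theorem eq_zero_of_forall_modPow {A : Matrix n n R} (h : ∀ m, modPow p m A = 0) : A = 0 := by
  refine Matrix.ext fun i j => IsHausdorff.haus
    (inferInstance : IsHausdorff (Ideal.span {(p : R)}) R) _ fun m => ?_
  rw [SModEq.zero, smul_eq_mul, Ideal.mul_top]
  exact modPow_eq_zero.1 (h m) i j

/-- An idempotent modulo `p` lifts to an idempotent commuting with everything the lift of it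
commutes with. -/
theorem exists_idempotent_lift {e₀ : Matrix n n R} (he : modPow p 1 (e₀ ^ 2 - e₀) = 0) :
    ∃ e : Matrix n n R, e * e = e ∧ modPow p 1 (e - e₀) = 0 ∧
      ∀ A, Commute A e₀ → Commute A e := by
  set f : ℕ → Matrix n n R := fun m => (liftStep^[m]) e₀
  have hf : ∀ m, f (m + 1) = liftStep (f m) := fun m => Function.iterate_succ_apply' _ _ _
  have hsq : ∀ m, modPow p (m + 1) (f m ^ 2 - f m) = 0 := by
    intro m
    induction m with
    | zero => exact he
    | succ m ih =>
      rw [hf, liftStep_sq_sub, map_mul]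
      rw [modPow_eq_zero_of_le (by omega) (modPow_mul_eq_zero ih ih), zero_mul]
  have hdiff : ∀ m, modPow p (m + 1) (f (m + 1) - f m) = 0 := by
    intro m
    rw [hf, liftStep_sub, map_neg, map_mul, hsq m, zero_mul, neg_zero]
  have hcauchy : ∀ m l, m ≤ l → modPow p (m + 1) (f l - f m) = 0 := by
    intro m l hml
    induction l, hml using Nat.le_induction with
    | base => simp
    | succ l hl ih =>
      rw [← sub_add_sub_cancel (f (l + 1)) (f l) (f m), map_add, ih, add_zero]
      exact modPow_eq_zero_of_le (by omega) (hdiff l)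
  have hlim : ∀ i j, ∃ L : R, ∀ m, f m i j ≡ L
      [SMOD ((Ideal.span {(p : R)}) ^ m • ⊤ : Submodule R R)] := fun i j =>
    IsPrecomplete.prec (inferInstance : IsPrecomplete (Ideal.span {(p : R)}) R) fun {m l} hml => by
      rw [SModEq.sub_mem, smul_eq_mul, Ideal.mul_top]
      have := modPow_eq_zero.1 (modPow_eq_zero_of_le (Nat.le_succ m) (hcauchy m l hml)) i j
      rw [← neg_sub]
      exact neg_mem this
  choose L hL using hlim
  set e : Matrix n n R := Matrix.of L
  have he' : ∀ m, modPow p m (f m - e) = 0 := fun m => modPow_eq_zero.2 fun i j => by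
    have := hL i j m
    rw [SModEq.sub_mem, smul_eq_mul, Ideal.mul_top] at this
    exact this
  have hem : ∀ m, modPow p m e = modPow p m (f m) := fun m => by
    have := he' m
    rw [map_sub, sub_eq_zero] at this
    exact this.symm
  refine ⟨e, ?_, ?_, fun A hA => ?_⟩
  · refine sub_eq_zero.1 (eq_zero_of_forall_modPow (p := p) fun m => ?_)
    have h := modPow_eq_zero_of_le (Nat.le_succ m) (hsq m)
    rw [map_sub, map_mul, hem m, ← map_mul, ← map_sub, ← sq]
    exact h
  · rw [map_sub, hem 1, ← map_sub]
    exact hcauchy 0 1 zero_le_one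
  · have hcomm : ∀ m, Commute A (f m) := by
      intro m
      induction m with
      | zero => exact hA
      | succ m ih =>
        rw [hf, liftStep]
        exact ((ih.pow_right 2).smul_right 3).sub_right ((ih.pow_right 3).smul_right 2)
    refine sub_eq_zero.1 (eq_zero_of_forall_modPow (p := p) fun m => ?_)
    rw [map_sub, map_mul, map_mul, hem m, ← map_mul, ← map_mul, (hcomm m).eq, sub_self]

omit [IsAdicComplete (Ideal.span {(p : R)}) R] in
theorem map_aeval_matrix (π : R →+* k) (s : Matrix n n R) (f : Polynomial R) :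
    π.mapMatrix (Polynomial.aeval s f) = Polynomial.aeval (π.mapMatrix s) (f.map π) := by
  rw [Polynomial.aeval_def, Polynomial.hom_eval₂, Polynomial.aeval_def, Polynomial.eval₂_map]
  congr 1
  ext r i j
  by_cases h : i = j <;> simp [Matrix.algebraMap_eq_diagonal, h, Matrix.diagonal]

/-- If the commutant of a set of matrices has no idempotents but `0` and `1`, then modulo `p`
each of its members is invertible or nilpotent. -/
theorem isUnit_or_isNilpotent_of_commutant (π : R →+* k) (hπ : Function.Surjective π)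
    (hker : ∀ x, π x = 0 ↔ (p : R) ∣ x) (S : Set (Matrix n n R))
    (hS : ∀ e : Matrix n n R, e * e = e → (∀ A ∈ S, Commute A e) → e = 0 ∨ e = 1)
    (s : Matrix n n R) (hs : ∀ A ∈ S, Commute A s) :
    IsUnit (π.mapMatrix s) ∨ IsNilpotent (π.mapMatrix s) := by
  obtain ⟨f, hidem, h0, h1⟩ := exists_fitting (π.mapMatrix s)
  obtain ⟨F, rfl⟩ := Polynomial.map_surjective π hπ f
  rw [← map_aeval_matrix] at hidem h0 h1
  set e₀ := Polynomial.aeval s F
  have hmod : ∀ A : Matrix n n R, modPow p 1 A = 0 ↔ π.mapMatrix A = 0 := fun A => by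
    rw [modPow_eq_zero, pow_one]
    simp only [Ideal.mem_span_singleton, ← hker]
    exact ⟨fun h => Matrix.ext h, fun h i j => congrFun (congrFun h i) j⟩
  obtain ⟨e, he, hee, hcomm⟩ := exists_idempotent_lift (p := p) (e₀ := e₀)
    ((hmod _).2 (by rw [sq, map_sub, map_mul, hidem, sub_self]))
  have hce : ∀ A ∈ S, Commute A e := fun A hA => hcomm A (by
    have hc : ∀ g : Polynomial R, Commute A (Polynomial.aeval s g) := by
      intro g
      induction g using Polynomial.induction_on' with
      | add g g' hg hg' => rw [map_add]; exact hg.add_right hg'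
      | monomial m r =>
        rw [Polynomial.aeval_monomial]
        exact Commute.mul_right (Algebra.commutes r A).symm ((hs A hA).pow_right m)
    exact hc F)
  have hred := (hmod _).1 hee
  rw [map_sub, sub_eq_zero] at hred
  rcases hS e he hce with rfl | rfl
  · exact Or.inr (h0 (by rw [← hred, map_zero]))
  · exact Or.inl (h1 (by rw [← hred, map_one]))

end CfsgLib.DefectOne
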