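import Cfsg.Agent.Lib.DefectOne.Group
import Cfsg.Agent.Lib.DefectOne.Idem
import Cfsg.Agent.Lib.DefectOne.LocalEnd
import Cfsg.Agent.Lib.PConjugate.Basic
import Cfsg.Agent.Lib.Char.Realize
import Mathlib.RingTheory.Localization.FractionRing
import Mathlib.RingTheory.Localization.Module
import Mathlib.LinearAlgebra.FreeModule.PID
import Mathlib.RingTheory.Finiteness.Lattice

/-!
# Lattices with local endomorphism ring inside a class of `p`-conjugate characters
-/

set_option autoImplicit false

namespace CfsgLib.DefectOne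

open Cfsg
open scoped ComplexConjugate Classical

universe u

variable {G : Type u} [Group G] [Finite G] {p : ℕ} [Fact p.Prime] {x : G}

/-- An element of order divisible by `p` is conjugate to `x ^ i * v`. -/
theorem HypOne.exists_conj_singular (h : HypOne p x) {g : G} (hg : p ∣ orderOf g) :
    ∃ (c : G) (i : ℕ) (v : regPart p x), ¬ p ∣ i ∧ i < p ∧ c * g * c⁻¹ = x ^ i * (v : G) := by
  have hp := h.prime
  set y := g ^ (orderOf g / p)
  have hy : orderOf y = p := by
    rw [orderOf_pow_of_dvd (Nat.div_ne_zero_iff.2 ⟨hp.ne_zero, Nat.le_of_dvd (orderOf_pos g) hg⟩)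
      (Nat.div_dvd_of_dvd hg), Nat.div_div_self hg (orderOf_pos g).ne']
  have hcard : ∀ z : G, orderOf z = p →
      Nat.card (Subgroup.zpowers z) = p ^ (Nat.card G).factorization p := fun z hz => by
    rw [Nat.card_zpowers, hz, h.factorization_eq_one, pow_one]
  let P₁ : Sylow p G := Sylow.ofCard _ (hcard y hy)
  let P₂ : Sylow p G := Sylow.ofCard _ (hcard x h.orderOf_x)
  obtain ⟨c, hc⟩ := MulAction.exists_smul_eq G P₁ P₂
  have hmem : c * y * c⁻¹ ∈ Subgroup.zpowers x := by
    show c * y * c⁻¹ ∈ (P₂ : Subgroup G)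
    rw [← hc, Sylow.coe_subgroup_smul]
    exact ⟨y, Subgroup.mem_zpowers y, rfl⟩
  obtain ⟨j, -, hj⟩ := h.mem_zpowers_iff_pow.1 hmem
  have hjp : ¬ p ∣ j := fun hd => by
    rw [h.pow_eq_one_iff.2 hd, eq_comm, conj_eq_one_iff] at hj
    rw [hj, orderOf_one] at hy
    exact hp.ne_one hy.symm
  have hcent : c * g * c⁻¹ ∈ cent x := by
    refine mem_cent_iff.2 (h.commute_of_commute_pow hjp ?_)
    rw [hj]
    exact SemiconjBy.conj_iff.2 ((Commute.refl g).pow_right _)
  obtain ⟨i, hi, v, hv⟩ := h.exists_decomp hcent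
  refine ⟨c, i, v, fun hd => (h.mem_regPart_iff.1 v.2).2 ?_, hi, hv.symm⟩
  rw [h.pow_eq_one_iff.2 hd, one_mul] at hv
  rw [hv, show orderOf (c * g * c⁻¹) = orderOf g from
    orderOf_injective (MulAut.conj c).toMonoidHom (MulAut.conj c).injective g]
  exact hg

theorem HypOne.pPrimePart_mul (h : HypOne p x) :
    p * PConjugate.pPrimePart p G = Nat.card G := by
  have := PConjugate.pow_mul_pPrimePart (p := p) (G := G)
  rwa [h.factorization_eq_one, pow_one] at this

theorem HypOne.not_dvd_pPrimePart (h : HypOne p x) : ¬ p ∣ PConjugate.pPrimePart p G := fun hd => by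
  refine h.not_sq ?_
  rw [← h.pPrimePart_mul, sq]
  exact mul_dvd_mul_left p hd

theorem HypOne.orderOf_dvd_pPrimePart (h : HypOne p x) {g : G} (hg : ¬ p ∣ orderOf g) :
    orderOf g ∣ PConjugate.pPrimePart p G := by
  refine Nat.Coprime.dvd_of_dvd_mul_left ((h.prime.coprime_iff_not_dvd.2 hg).symm) ?_
  rw [h.pPrimePart_mul]
  exact orderOf_dvd_natCard g

theorem HypOne.smul_regular (h : HypOne p x) (u : PConjugate.exponents p G) (χ : IrrCharacter G)
    {g : G} (hg : ¬ p ∣ orderOf g) : (u • χ : IrrCharacter G).1 g = (χ : G → ℂ) g := by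
  rw [Subgroup.smul_def, PConjugate.smul_apply]
  refine congrArg (χ : G → ℂ) ?_
  conv_rhs => rw [← pow_one g]
  exact (pow_eq_pow_iff_modEq (x := g)).2 (Nat.ModEq.of_dvd (h.orderOf_dvd_pPrimePart hg)
    ((PConjugate.mem_exponents_iff u.1).1 u.2))

theorem HypOne.smul_singular (h : HypOne p x) (u : PConjugate.exponents p G) (χ : IrrCharacter G)
    (i : ℕ) (v : regPart p x) : (u • χ : IrrCharacter G).1 (x ^ i * (v : G)) =
      (χ : G → ℂ) (x ^ (i * (u.1 : ZMod (Nat.card G)).val) * (v : G)) := by
  rw [Subgroup.smul_def, PConjugate.smul_apply, ((h.commute_regPart v).symm.pow_left i).mul_pow,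
    ← pow_mul]
  refine congrArg (fun z => (χ : G → ℂ) (_ * z)) ?_
  conv_rhs => rw [← pow_one (v : G)]
  exact (pow_eq_pow_iff_modEq (x := (v : G))).2 (Nat.ModEq.of_dvd
    (h.orderOf_dvd_pPrimePart (h.mem_regPart_iff.1 v.2).2)
    ((PConjugate.mem_exponents_iff u.1).1 u.2))

theorem HypOne.exists_exponent (h : HypOne p x) {k : ℕ} (hk : ¬ p ∣ k) :
    ∃ u : PConjugate.exponents p G, (u.1 : ZMod (Nat.card G)).val ≡ k [MOD p] := by
  have hcast : IsUnit (k : ZMod (p ^ (Nat.card G).factorization p)) := by
    rw [ZMod.isUnit_iff_coprime]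
    exact ((h.prime.coprime_iff_not_dvd.2 hk).symm).pow_right _
  obtain ⟨u, hu⟩ := (PConjugate.toPPart_bijective (p := p) (G := G)).2 hcast.unit
  refine ⟨u, ?_⟩
  have h1 := congrArg (fun w : (ZMod (p ^ (Nat.card G).factorization p))ˣ =>
    (w : ZMod (p ^ (Nat.card G).factorization p))) hu
  have h2 : (ZMod.castHom (PConjugate.pow_dvd_natCard (p := p) (G := G))
      (ZMod (p ^ (Nat.card G).factorization p))) (u.1 : ZMod (Nat.card G)) =
      (k : ZMod (p ^ (Nat.card G).factorization p)) := h1
  rw [← ZMod.natCast_zmod_val (u.1 : ZMod (Nat.card G)), map_natCast,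
    ZMod.natCast_eq_natCast_iff, h.factorization_eq_one, pow_one] at h2
  exact h2

/-- The values of an invariant sum of conjugates lie in the fraction field. -/
theorem HypOne.orbitSum_mem (h : HypOne p x) (χ : IrrCharacter G) (g : G) :
    ∃ a b : WR p, b ≠ 0 ∧ emb p a =
      emb p b * ∑ u : PConjugate.exponents p G, (u • χ : IrrCharacter G).1 g := by
  classical
  obtain ⟨n, ρ, -, hρ⟩ := χ.2
  have hp := h.prime
  by_cases hg : p ∣ orderOf g
  swap
  · obtain ⟨μ, hμ, -, -, hpow⟩ := CfsgLib.Char.exists_eigenvalues ρ g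
    have hmem : (χ : G → ℂ) g ∈ (emb p).range := by
      have h1 := hpow 1
      simp only [pow_one] at h1
      rw [← hρ, h1]
      exact Subring.sum_mem _ fun i _ => mem_range_emb_of_pow p hg (hμ i)
    obtain ⟨a, ha⟩ := hmem
    refine ⟨Fintype.card (PConjugate.exponents p G) * a, 1, one_ne_zero, ?_⟩
    rw [map_mul, map_natCast, ha, map_one, one_mul,
      Finset.sum_congr rfl fun u _ => h.smul_regular u χ hg, Finset.sum_const, Finset.card_univ,
      nsmul_eq_mul]
  · obtain ⟨c, i₀, v, hi₀, -, hc⟩ := h.exists_conj_singular hg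
    set S := fun j : ℕ => ∑ u : PConjugate.exponents p G, (u • χ : IrrCharacter G).1 (x ^ j * (v : G))
    have hgS : ∑ u : PConjugate.exponents p G, (u • χ : IrrCharacter G).1 g = S i₀ := by
      refine Finset.sum_congr rfl fun u _ => ?_
      rw [← hc, CfsgLib.Char.IsIrrCharacter.isClassFunction (u • χ).2 g c]
    have hpow : ∀ a b : ℕ, a ≡ b [MOD p] → x ^ a = x ^ b := fun a b hab =>
      h.pow_eq_pow_iff.2 hab
    have hSw : ∀ (i : ℕ) (w : PConjugate.exponents p G),
        S (i * (w.1 : ZMod (Nat.card G)).val) = S i := by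
      intro i w
      refine Fintype.sum_equiv (Equiv.mulRight w) _ _ fun u => ?_
      rw [Equiv.coe_mulRight, h.smul_singular, h.smul_singular]
      refine congrArg (fun z => (χ : G → ℂ) (z * (v : G))) (hpow _ _ ?_)
      rw [Subgroup.coe_mul, Units.val_mul, ZMod.val_mul, mul_assoc]
      refine Nat.ModEq.mul_left _ (Nat.ModEq.trans ?_
        ((Nat.mod_modEq _ _).of_dvd (h.pPrimePart_mul ▸ Dvd.intro _ rfl)).symm)
      rw [mul_comm]
    have hS : ∀ j, ¬ p ∣ j → S j = S i₀ := by
      intro j hj
      obtain ⟨m, -, hm⟩ := Nat.exists_mul_mod_eq_one_of_coprime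
        ((hp.coprime_iff_not_dvd.2 hi₀).symm) hp.one_lt
      obtain ⟨w, hw⟩ := h.exists_exponent (k := m * j) fun hd => by
        rcases hp.dvd_mul.1 hd with h1 | h1
        · rw [Nat.mul_mod, Nat.mod_eq_zero_of_dvd h1, mul_zero, Nat.zero_mod] at hm
          omega
        · exact hj h1
      rw [← hSw i₀ w]
      refine Finset.sum_congr rfl fun u _ => ?_
      refine congrArg (fun z => (u • χ : IrrCharacter G).1 (z * (v : G)))
        (hpow _ _ (Nat.ModEq.symm ?_))
      refine (hw.mul_left i₀).trans ?_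
      have h5 : i₀ * m ≡ 1 [MOD p] := by
        rw [Nat.ModEq, hm, Nat.one_mod_eq_one.2 hp.ne_one]
      rw [← mul_assoc]
      conv_rhs => rw [← one_mul j]
      exact h5.mul_right j
    -- the sum over all powers of `x`
    obtain ⟨b, hb1, hb2⟩ := Nat.chineseRemainder
      (hp.coprime_iff_not_dvd.2 h.not_dvd_pPrimePart) 0 1
    obtain ⟨a, ha1, ha2⟩ := Nat.chineseRemainder
      (hp.coprime_iff_not_dvd.2 h.not_dvd_pPrimePart) 1 0
    set g' := PConjugate.pPrimePart p G
    have hpw : ∀ i : ℕ, (x * (v : G)) ^ (b + i * a) = x ^ i * (v : G) := fun i => by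
      rw [(h.commute_regPart v).symm.mul_pow, hpow (b + i * a) i (by
        simpa using hb1.add (ha1.mul_left i))]
      congr 1
      conv_rhs => rw [← pow_one (v : G)]
      refine (pow_eq_pow_iff_modEq (x := (v : G))).2 (Nat.ModEq.of_dvd
        (h.orderOf_dvd_pPrimePart (h.mem_regPart_iff.1 v.2).2) ?_)
      simpa using hb2.add (ha2.mul_left i)
    have hone : ∀ u : PConjugate.exponents p G,
        ∑ i ∈ Finset.range p, (u • χ : IrrCharacter G).1 (x ^ i * (v : G)) ∈ (emb p).range := by
      intro u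
      obtain ⟨n', σ, -, hσ⟩ := (u • χ : IrrCharacter G).2
      obtain ⟨μ, hμ, -, -, hμpow⟩ := CfsgLib.Char.exists_eigenvalues σ (x * (v : G))
      simp only [← hpw, ← hσ, hμpow]
      rw [Finset.sum_comm]
      refine Subring.sum_mem _ fun l _ => ?_
      simp only [pow_add, pow_mul', ← Finset.mul_sum]
      have hμN : μ l ^ (p * g') = 1 := by
        obtain ⟨c', hc'⟩ := orderOf_dvd_natCard (x * (v : G))
        rw [h.pPrimePart_mul, hc', pow_mul, hμ l, one_pow]
      refine Subring.mul_mem _ (mem_range_emb_of_pow p h.not_dvd_pPrimePart ?_) ?_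
      · obtain ⟨q, hq⟩ := Nat.modEq_zero_iff_dvd.1 hb1
        rw [← pow_mul, hq, show p * q * g' = p * g' * q by ring, pow_mul, hμN, one_pow]
      · have hη : (μ l ^ a) ^ p = 1 := by
          obtain ⟨q, hq⟩ := Nat.modEq_zero_iff_dvd.1 ha2
          rw [← pow_mul, hq, show g' * q * p = p * g' * q by ring, pow_mul, hμN, one_pow]
        by_cases h1 : μ l ^ a = 1
        · simp only [h1, one_pow, Finset.sum_const, Finset.card_range, nsmul_eq_mul, mul_one]
          exact ⟨p, map_natCast _ _⟩
        · rw [geom_sum_eq h1, hη, sub_self, zero_div]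
          exact Subring.zero_mem _
    have hzero : S 0 ∈ (emb p).range := by
      refine Subring.sum_mem _ fun u _ => ?_
      rw [pow_zero, one_mul, h.smul_regular u χ (h.mem_regPart_iff.1 v.2).2]
      obtain ⟨μ, hμ, -, -, hμpow⟩ := CfsgLib.Char.exists_eigenvalues ρ (v : G)
      have h1 := hμpow 1
      simp only [pow_one] at h1
      rw [← hρ, h1]
      exact Subring.sum_mem _ fun i _ =>
        mem_range_emb_of_pow p (h.mem_regPart_iff.1 v.2).2 (hμ i)
    have hsum : ((p - 1 : ℕ) : ℂ) * S i₀ ∈ (emb p).range := by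
      have h1 : ∑ i ∈ Finset.range p, S i = S 0 + ((p - 1 : ℕ) : ℂ) * S i₀ := by
        rw [Finset.range_eq_Ico, ← Finset.sum_Ico_consecutive _ (Nat.zero_le 1) hp.one_le]
        simp only [Nat.Ico_zero_eq_range, Finset.range_one, Finset.sum_singleton]
        rw [Finset.sum_congr rfl (fun i hi => hS i (fun hd => by
          obtain ⟨hi1, hi2⟩ := Finset.mem_Ico.1 hi
          have := Nat.le_of_dvd hi1 hd
          omega)), Finset.sum_const, Nat.card_Ico, nsmul_eq_mul]
      rw [show ((p - 1 : ℕ) : ℂ) * S i₀ = (∑ i ∈ Finset.range p, S i) - S 0 by rw [h1]; ring]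
      refine Subring.sub_mem _ ?_ hzero
      simp only [S]
      rw [Finset.sum_comm]
      exact Subring.sum_mem _ fun u _ => hone u
    obtain ⟨a', ha'⟩ := hsum
    refine ⟨a', ((p - 1 : ℕ) : WR p), Nat.cast_ne_zero.2 (by have := hp.two_le; omega), ?_⟩
    rw [map_natCast, ha', hgS]

/-- The fraction field of the coefficient ring. -/
abbrev WK (p : ℕ) [Fact p.Prime] : Type := FractionRing (WR p)

/-- Its embedding. -/
noncomputable def embK (p : ℕ) [Fact p.Prime] : WK p →+* ℂ :=
  IsFractionRing.lift (emb_injective p)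

theorem embK_algebraMap (a : WR p) : embK p (algebraMap (WR p) (WK p) a) = emb p a :=
  IsFractionRing.lift_algebraMap _ a

/-- A lattice whose character lives on the `p`-conjugates of `χ` and has multiplicity there, with
a commutant without proper idempotents. -/
theorem HypOne.exists_lattice (h : HypOne p x) (χ : IrrCharacter G) :
    ∃ (d : ℕ) (ρ : G →* Matrix (Fin d) (Fin d) (WR p)) (m : IrrCharacter G → ℕ), m χ ≠ 0 ∧
      (∀ ψ, m ψ ≠ 0 → ψ ∈ MulAction.orbit (PConjugate.exponents p G) χ) ∧
      (∀ g, emb p (ρ g).trace = ∑ ψ, (m ψ : ℂ) * (ψ : G → ℂ) g) ∧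
      ∀ s : Matrix (Fin d) (Fin d) (WR p), (∀ g, Commute (ρ g) s) →
        IsUnit ((res p).mapMatrix s) ∨ IsNilpotent ((res p).mapMatrix s) := by
  classical
  haveI := Fintype.ofFinite G
  set O := Finset.univ.filter (fun ψ : IrrCharacter G =>
    ψ ∈ MulAction.orbit (PConjugate.exponents p G) χ) with hO
  -- the coefficients of the idempotent of the class
  have hcmem : ∀ g, ∃ c : WK p, embK p c = ∑ ψ ∈ O, coefC ψ g := by
    intro g
    obtain ⟨a, b, hb, hab⟩ := h.orbitSum_mem χ g⁻¹
    set st := Fintype.card (MulAction.stabilizer (PConjugate.exponents p G) χ)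
    refine ⟨(algebraMap (WR p) (WK p) a / algebraMap (WR p) (WK p) b) *
      ((charDegree (χ : G → ℂ) : WK p) / ((st : WK p) * Nat.card G)), ?_⟩
    rw [map_mul, map_div₀, embK_algebraMap, embK_algebraMap, map_div₀, map_mul, map_natCast,
      map_natCast, map_natCast, hab]
    have hb' : emb p b ≠ 0 := fun h0 => hb (emb_injective p (h0.trans (map_zero _).symm))
    rw [mul_div_cancel_left₀ _ hb']
    have hdeg : ∀ ψ ∈ O, (ψ : G → ℂ) 1 = (χ : G → ℂ) 1 := fun ψ hψ => by
      obtain ⟨u, rfl⟩ := (Finset.mem_filter.1 hψ).2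
      exact h.smul_regular u χ (by rw [orderOf_one]; exact h.prime.not_dvd_one)
    have hfib : ∑ u : PConjugate.exponents p G, (u • χ : IrrCharacter G).1 g⁻¹ =
        (st : ℂ) * ∑ ψ ∈ O, (ψ : G → ℂ) g⁻¹ := by
      rw [Finset.mul_sum, ← Finset.sum_fiberwise_of_maps_to (g := fun u => u • χ) (t := O)
        (fun u _ => Finset.mem_filter.2 ⟨Finset.mem_univ _, u, rfl⟩)]
      refine Finset.sum_congr rfl fun ψ hψ => ?_
      obtain ⟨w, rfl⟩ := (Finset.mem_filter.1 hψ).2
      rw [Finset.sum_congr rfl (g := fun _ => (w • χ : IrrCharacter G).1 g⁻¹)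
        (fun u hu => by rw [(Finset.mem_filter.1 hu).2]), Finset.sum_const, nsmul_eq_mul]
      congr 2
      show (Finset.univ.filter fun u => u • χ = w • χ).card = st
      rw [← Fintype.card_subtype]
      refine Fintype.card_congr
        { toFun := fun u => ⟨w⁻¹ * u.1, by
            rw [MulAction.mem_stabilizer_iff, mul_smul, u.2, inv_smul_smul]⟩
          invFun := fun s => ⟨w * s.1, by rw [mul_smul, MulAction.mem_stabilizer_iff.1 s.2]⟩
          left_inv := fun u => Subtype.ext (mul_inv_cancel_left _ _)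
          right_inv := fun s => Subtype.ext (inv_mul_cancel_left _ _) }
    rw [hfib, Finset.mul_sum, Finset.sum_mul, CharTools.irr_degree_cast]
    refine Finset.sum_congr rfl fun ψ hψ => ?_
    have hst : (st : ℂ) ≠ 0 := Nat.cast_ne_zero.2 Fintype.card_pos.ne'
    rw [coefC, ← CfsgLib.Char.IsIrrCharacter.apply_inv ψ.2, hdeg ψ hψ]
    field_simp
  choose c hc using hcmem
  have hcclass : ∀ g k, c (k * g * k⁻¹) = c g := fun g k => (embK p).injective (by
    rw [hc, hc]; exact Finset.sum_congr rfl fun ψ _ => coefC_conj ψ k g)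
  have hcC : ∀ (ψ : IrrCharacter G) (g : G),
      ∑ u, embK p (c u) * (ψ : G → ℂ) (u * g) = if ψ ∈ O then (ψ : G → ℂ) g else 0 := by
    intro ψ g
    simp only [hc, Finset.sum_mul]
    rw [Finset.sum_comm]
    simp only [sum_coefC_mul, Finset.sum_ite_eq]
  -- a simple representation containing `χ`
  have hreg := CfsgLib.Char.rep_character_mem_span (φ := embK p)
    (Representation.leftRegular (WK p) G)
  have hex : ∃ f ∈ CfsgLib.Char.simpleChars (embK p) G, Cfsg.classInner f (χ : G → ℂ) ≠ 0 := by
    by_contra hno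
    push Not at hno
    have h0 : ∀ f ∈ Submodule.span ℤ (CfsgLib.Char.simpleChars (embK p) G),
        Cfsg.classInner f (χ : G → ℂ) = 0 := by
      intro f hf
      induction hf using Submodule.span_induction with
      | mem f hf => exact hno f hf
      | zero => exact CfsgLib.Char.classInner_zero_left _
      | add a b _ _ ha hb => rw [CfsgLib.Char.classInner_add_left, ha, hb, add_zero]
      | smul r a _ ha =>
        rw [← Int.cast_smul_eq_zsmul ℂ, CfsgLib.Char.classInner_smul_left, ha, mul_zero]
    have h1 := h0 _ hreg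
    have h2 : ∀ g, embK p ((Representation.leftRegular (WK p) G).character g) =
        if g = 1 then (Nat.card G : ℂ) else 0 := by
      intro g
      rw [Representation.character, LinearMap.trace_eq_matrix_trace (WK p)
        (MonoidAlgebra.basis G (WK p)), Matrix.trace, map_sum]
      simp only [Matrix.diag_apply, LinearMap.toMatrix_apply]
      have h3 : ∀ i : G, ((MonoidAlgebra.basis G (WK p)).repr
          (Representation.leftRegular (WK p) G g (MonoidAlgebra.basis G (WK p) i))) i =
          if g = 1 then 1 else 0 := by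
        intro i
        have : Representation.leftRegular (WK p) G g (MonoidAlgebra.single i 1) =
            MonoidAlgebra.single (g * i) 1 := by simp
        by_cases hg1 : g = 1
        · subst hg1
          simp [MonoidAlgebra.basis, MonoidAlgebra.coeffLinearEquiv]
        · simp [MonoidAlgebra.basis, MonoidAlgebra.coeffLinearEquiv, this, hg1,
            Finsupp.single_apply]
      simp only [h3]
      split_ifs <;> simp
    rw [Cfsg.classInner] at h1
    simp only [h2, ite_mul, zero_mul, Finset.sum_ite_eq', Finset.mem_univ, if_true] at h1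
    rw [CharTools.conj_apply_one (CfsgLib.Char.IsIrrCharacter.isCharacter χ.2), ← mul_assoc,
      inv_mul_cancel₀ (Nat.cast_ne_zero.2 Nat.card_pos.ne'), one_mul] at h1
    exact CharTools.irr_apply_one_ne_zero χ h1
  obtain ⟨_, ⟨d, σ, hσ, rfl⟩, hfχ⟩ := hex
  haveI := hσ
  set f : G → ℂ := fun g => embK p (σ.character g) with hf
  have hfchar : Cfsg.IsCharacter G f :=
    CfsgLib.Char.Realizable.isCharacter ⟨d, σ, fun g => rfl⟩
  choose m hm using fun ψ : IrrCharacter G =>
    CfsgLib.Char.IsCharacter.exists_nat_classInner hfchar ψ.2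
  have hfsum : ∀ g, f g = ∑ ψ, (m ψ : ℂ) * (ψ : G → ℂ) g := fun g => by
    have := congrFun (CfsgLib.Char.IsCharacter.eq_sum_classInner hfchar) g
    rw [this]; simp [Finset.sum_apply, hm]
  -- the projection to the class
  set op : Module.End (WK p) (Fin d → WK p) := ∑ u, c u • σ u
  have hopσ : ∀ g, op * σ g = σ g * op := by
    intro g
    simp only [op, Finset.sum_mul, Finset.mul_sum, smul_mul_assoc, mul_smul_comm, ← map_mul]
    refine Fintype.sum_equiv (MulAut.conj g⁻¹).toEquiv _ _ fun u => ?_
    simp only [MulEquiv.toEquiv_eq_coe, EquivLike.coe_coe, MulAut.conj_apply, inv_inv]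
    rw [← hcclass (g⁻¹ * u * g) g]
    congr 2 <;> group
  have hidem : op * op = op := by
    calc op * op = ∑ u, ∑ y, (c u * c y) • σ (u * y) := by
          simp only [op, Finset.sum_mul, Finset.mul_sum, smul_mul_assoc, mul_smul_comm, smul_smul,
            ← map_mul, Finset.smul_sum]
          rw [Finset.sum_comm]
          refine Finset.sum_congr rfl fun a _ => Finset.sum_congr rfl fun b _ => ?_
          rw [mul_comm (c a)]
      _ = ∑ u, ∑ y, (c u * c (u⁻¹ * y)) • σ y :=
          Finset.sum_congr rfl fun u _ => Fintype.sum_equiv (Equiv.mulLeft u) _ _ fun b => by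
            simp [inv_mul_cancel_left]
      _ = op := ?_
    rw [Finset.sum_comm]
    refine Finset.sum_congr rfl fun y _ => ?_
    rw [← Finset.sum_smul]
    congr 1
    refine (embK p).injective ?_
    rw [map_sum]
    simp only [map_mul, hc, Finset.sum_mul, Finset.mul_sum]
    rw [Finset.sum_comm]
    refine Finset.sum_congr rfl fun ψ hψ => ?_
    rw [Finset.sum_comm]
    simp only [coefC_conv]
    first | rw [Finset.sum_ite_eq', if_pos hψ] | rw [Finset.sum_ite_eq, if_pos hψ]
  have htr : ∀ g, embK p (LinearMap.trace (WK p) _ (op * σ g)) =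
      ∑ ψ ∈ O, (m ψ : ℂ) * (ψ : G → ℂ) g := by
    intro g
    simp only [op, Finset.sum_mul, smul_mul_assoc, ← map_mul, map_sum, map_smul, smul_eq_mul]
    simp only [map_mul (embK p)]
    rw [Finset.sum_congr rfl fun u _ => show embK p (c u) *
      embK p (LinearMap.trace (WK p) _ (σ (u * g))) = _ from congrArg (embK p (c u) * ·) (hfsum (u * g))]
    simp only [Finset.mul_sum, mul_left_comm (embK p _)]
    rw [Finset.sum_comm]
    simp only [← Finset.mul_sum, hcC, mul_ite, mul_zero]
    rw [Finset.sum_ite_mem, Finset.univ_inter]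
  have hm0 : m χ ≠ 0 := fun h0 => hfχ (by rw [hm, h0, Nat.cast_zero])
  have hirr : ∀ T : Module.End (WK p) (Fin d → WK p), (∀ g, T * σ g = σ g * T) → T * T = T →
      T = 0 ∨ T = 1 := by
    intro T hT hTT
    let W : Subrepresentation σ :=
      ⟨LinearMap.range T, fun g v hv => by
        obtain ⟨w, rfl⟩ := hv
        exact ⟨σ g w, LinearMap.congr_fun (hT g) w⟩⟩
    rcases IsSimpleOrder.eq_bot_or_eq_top W with hW | hW
    · left
      exact LinearMap.range_eq_bot.1 (congrArg Subrepresentation.toSubmodule hW)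
    · right
      refine LinearMap.ext fun v => ?_
      obtain ⟨w, rfl⟩ : v ∈ LinearMap.range T := by
        rw [show LinearMap.range T = ⊤ from congrArg Subrepresentation.toSubmodule hW]
        exact Submodule.mem_top
      exact LinearMap.congr_fun hTT w
  have hop : op = 1 := by
    refine (hirr op hopσ hidem).resolve_left fun h0 => ?_
    have h1 := htr 1
    rw [h0, zero_mul, map_zero, map_zero, eq_comm] at h1
    simp only [← CharTools.irr_degree_cast, ← Nat.cast_mul, ← Nat.cast_sum, Nat.cast_eq_zero,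
      Finset.sum_eq_zero_iff, Nat.mul_eq_zero] at h1
    rcases h1 χ (Finset.mem_filter.2 ⟨Finset.mem_univ _, MulAction.mem_orbit_self χ⟩) with h2 | h2
    · exact hm0 h2
    · exact (CharTools.irr_degree_pos χ).ne' h2
  set m' : IrrCharacter G → ℕ := fun ψ => if ψ ∈ O then m ψ else 0
  have hfm' : ∀ g, f g = ∑ ψ, (m' ψ : ℂ) * (ψ : G → ℂ) g := by
    intro g
    have h1 := htr g
    rw [hop, one_mul] at h1
    rw [show f g = embK p (LinearMap.trace (WK p) _ (σ g)) from rfl, h1]
    simp only [m', Nat.cast_ite, Nat.cast_zero, ite_mul, zero_mul]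
    rw [Finset.sum_ite_mem, Finset.univ_inter]
  -- the lattice
  set N : Submodule (WR p) (Fin d → WK p) := Submodule.span (WR p)
    (Set.range fun q : G × Fin d => σ q.1 (Pi.single q.2 (1 : WK p))) with hN
  have hNσ : ∀ g, ∀ v ∈ N, σ g v ∈ N := by
    intro g v hv
    have h1 : N.map ((σ g).restrictScalars (WR p)) ≤ N := by
      rw [hN, Submodule.map_span, Submodule.span_le]
      rintro _ ⟨_, ⟨q, rfl⟩, rfl⟩
      refine Submodule.subset_span ⟨(g * q.1, q.2), ?_⟩
      show σ (g * q.1) _ = σ g (σ q.1 _)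
      rw [map_mul]; rfl
    exact h1 ⟨v, hv, rfl⟩
  haveI : Module.Finite (WR p) N := Module.Finite.span_of_finite (WR p) (Set.finite_range _)
  set b := Module.Free.chooseBasis (WR p) N with hb
  have hbLI : LinearIndependent (WK p) fun i => (b i : Fin d → WK p) := by
    have h1 := b.linearIndependent.map' N.subtype N.ker_subtype
    exact (LinearIndependent.iff_fractionRing (WR p) (WK p)).1 h1
  have hbsp : ⊤ ≤ Submodule.span (WK p) (Set.range fun i => (b i : Fin d → WK p)) := by
    intro v _
    rw [pi_eq_sum_univ' v]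
    refine Submodule.sum_mem _ fun j _ => Submodule.smul_mem _ _ ?_
    have hmem : (Pi.single j (1 : WK p) : Fin d → WK p) ∈ N :=
      Submodule.subset_span ⟨(1, j), by simp⟩
    have h1 := congrArg Subtype.val (b.sum_repr ⟨_, hmem⟩)
    simp only [AddSubmonoidClass.coe_finsetSum, SetLike.val_smul] at h1
    rw [← h1]
    refine Submodule.sum_mem _ fun i _ => ?_
    rw [← algebraMap_smul (WK p)]
    exact Submodule.smul_mem _ _ (Submodule.subset_span ⟨i, rfl⟩)
  set B := Module.Basis.mk hbLI hbsp with hB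
  have hcard : Fintype.card (Module.Free.ChooseBasisIndex (WR p) N) = d := by
    rw [← Module.finrank_eq_card_basis B, Module.finrank_fintype_fun_eq_card, Fintype.card_fin]
  set e : Module.Free.ChooseBasisIndex (WR p) N ≃ Fin d := Fintype.equivFinOfCardEq hcard
  set b' := b.reindex e
  set B' := B.reindex e
  have hB' : ∀ i, B' i = (b' i : Fin d → WK p) := fun i => by
    simp only [B', b', Module.Basis.reindex_apply, hB, Module.Basis.mk_apply]
  let L : G →* Module.End (WR p) N :=
    { toFun := fun g => ((σ g).restrictScalars (WR p)).restrict (fun v hv => hNσ g v hv)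
      map_one' := LinearMap.ext fun v => Subtype.ext (by
        show σ 1 (v : Fin d → WK p) = v
        rw [map_one]; rfl)
      map_mul' := fun a b => LinearMap.ext fun v => Subtype.ext (by
        show σ (a * b) (v : Fin d → WK p) = σ a (σ b (v : Fin d → WK p))
        rw [map_mul]; rfl) }
  let ρ : G →* Matrix (Fin d) (Fin d) (WR p) :=
    (LinearMap.toMatrixAlgEquiv b').toAlgHom.toMonoidHom.comp L
  have hρσ : ∀ g, (ρ g).map (algebraMap (WR p) (WK p)) = LinearMap.toMatrix B' B' (σ g) := by
    intro g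
    refine Matrix.ext fun i j => ?_
    rw [LinearMap.toMatrix_apply, Matrix.map_apply, hB']
    rw [show ρ g i j = b'.repr (L g (b' j)) i from LinearMap.toMatrix_apply b' b' (L g) i j]
    have h1 := congrArg Subtype.val (b'.sum_repr (L g (b' j)))
    simp only [AddSubmonoidClass.coe_finsetSum, SetLike.val_smul, ← hB'] at h1
    have h2 : σ g (b' j : Fin d → WK p) = ∑ l, (algebraMap (WR p) (WK p) (b'.repr (L g (b' j)) l)) •
        B' l := by
      simp only [algebraMap_smul]
      exact h1.symm
    rw [h2, B'.repr_sum_self]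
  refine ⟨d, ρ, m', by simp [m', O, hm0], fun ψ hψ => ?_, fun g => ?_, ?_⟩
  · simp only [m'] at hψ
    split_ifs at hψ with h1
    · exact (Finset.mem_filter.1 h1).2
    · exact absurd rfl hψ
  · rw [← hfm' g, ← embK_algebraMap]
    show embK p (algebraMap (WR p) (WK p) (ρ g).trace) = embK p (LinearMap.trace (WK p) _ (σ g))
    congr 1
    rw [LinearMap.trace_eq_matrix_trace (WK p) B', ← hρσ, Matrix.trace, map_sum]
    rfl
  · intro s hs
    refine isUnit_or_isNilpotent_of_commutant (p := p) (res p) (res_surjective p)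
      (fun y => res_eq_zero p) (Set.range ρ) (fun e' he hcomm => ?_) s
      (by rintro _ ⟨g, rfl⟩; exact hs g)
    set T : Module.End (WK p) (Fin d → WK p) :=
      (LinearMap.toMatrixAlgEquiv B').symm (e'.map (algebraMap (WR p) (WK p))) with hTdef
    have hσT : ∀ g, σ g = (LinearMap.toMatrixAlgEquiv B').symm
        ((ρ g).map (algebraMap (WR p) (WK p))) := fun g => by
      rw [hρσ]; exact ((LinearMap.toMatrixAlgEquiv B').symm_apply_apply (σ g)).symm
    have hT1 : ∀ g, T * σ g = σ g * T := fun g => by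
      rw [hTdef, hσT, ← map_mul, ← map_mul, ← Matrix.map_mul, ← Matrix.map_mul,
        (hcomm _ ⟨g, rfl⟩).eq]
    have hT2 : T * T = T := by rw [hTdef, ← map_mul, ← Matrix.map_mul, he]
    have hinj : Function.Injective (fun A : Matrix (Fin d) (Fin d) (WR p) =>
        A.map (algebraMap (WR p) (WK p))) := Matrix.map_injective (IsFractionRing.injective (WR p) _)
    rcases hirr T hT1 hT2 with h0 | h0
    · refine Or.inl (hinj ?_)
      have h1 := congrArg (LinearMap.toMatrixAlgEquiv B') h0
      rw [hTdef, AlgEquiv.apply_symm_apply, map_zero] at h1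
      simpa using h1
    · refine Or.inr (hinj ?_)
      have h1 := congrArg (LinearMap.toMatrixAlgEquiv B') h0
      rw [hTdef, AlgEquiv.apply_symm_apply, map_one] at h1
      simpa using h1

end CfsgLib.DefectOne
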