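import Cfsg.Agent.Lib.DefectOne.Cent
import Cfsg.Agent.Lib.DefectOne.Action
import Cfsg.Agent.Lib.DefectOne.SimpleLattice
import Cfsg.Agent.Lib.Blocks.Section
import Cfsg.Agent.Lib.Blocks.Osima
import Cfsg.Agent.Lib.Char.DefectZero
import Cfsg.Agent.S0923

/-!
# Blocks and the characters of the regular part of the centralizer
-/

set_option autoImplicit false

namespace CfsgLib.DefectOne

open Cfsg CfsgLib.Blocks
open scoped ComplexConjugate Classical

universe u

variable {G : Type u} [Group G] [Finite G] {p : ℕ} {x : G}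

section Ideal

variable {M : Ideal AlgInt} [M.IsMaximal]

theorem memLocalIdeal_add {a b : ℂ} (ha : MemLocalIdeal M a) (hb : MemLocalIdeal M b) :
    MemLocalIdeal M (a + b) := by
  obtain ⟨ha', ha0⟩ := memLocalIdeal_iff.1 ha
  obtain ⟨hb', hb0⟩ := memLocalIdeal_iff.1 hb
  refine memLocalIdeal_iff.2 ⟨add_mem ha' hb', ?_⟩
  have : Blocks.red M (⟨a, ha'⟩ + ⟨b, hb'⟩) = 0 := by rw [map_add, ha0, hb0, add_zero]
  exact this

theorem memLocalIdeal_mul_left {c a : ℂ} (hc : c ∈ locRing M) (ha : MemLocalIdeal M a) :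
    MemLocalIdeal M (c * a) := by
  obtain ⟨ha', ha0⟩ := memLocalIdeal_iff.1 ha
  refine memLocalIdeal_iff.2 ⟨mul_mem hc ha', ?_⟩
  have : Blocks.red M (⟨c, hc⟩ * ⟨a, ha'⟩) = 0 := by rw [map_mul, ha0, mul_zero]
  exact this

theorem memLocalIdeal_zero : MemLocalIdeal M (0 : ℂ) :=
  memLocalIdeal_iff.2 ⟨zero_mem _, map_zero (Blocks.red M)⟩

theorem memLocalIdeal_neg {a : ℂ} (ha : MemLocalIdeal M a) : MemLocalIdeal M (-a) := by
  simpa using memLocalIdeal_mul_left (c := -1) (neg_mem (one_mem (locRing M))) ha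

theorem memLocalIdeal_sum {ι : Type*} (s : Finset ι) (f : ι → ℂ)
    (h : ∀ i ∈ s, MemLocalIdeal M (f i)) : MemLocalIdeal M (∑ i ∈ s, f i) := by
  induction s using Finset.induction_on with
  | empty => simpa using memLocalIdeal_zero
  | insert a t ha ih =>
    rw [Finset.sum_insert ha]
    exact memLocalIdeal_add (h a (Finset.mem_insert_self a t))
      (ih fun i hi => h i (Finset.mem_insert_of_mem hi))

theorem natCast_inv_mem_locRing {q n : ℕ} (hM : IsPModular q M) (hn : ¬ q ∣ n) :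
    ((n : ℂ))⁻¹ ∈ locRing M := by
  refine ⟨1, (n : AlgInt), fun hnM => ?_, by simp⟩
  obtain ⟨u, v, huv⟩ := Nat.Coprime.isCoprime (hM.1.coprime_iff_not_dvd.2 hn)
  refine hM.2.1.ne_top ((Ideal.eq_top_iff_one M).2 ?_)
  rw [show (1 : AlgInt) = (u : AlgInt) * (q : AlgInt) + (v : AlgInt) * (n : AlgInt) by
    exact_mod_cast huv.symm]
  exact add_mem (M.mul_mem_left _ hM.2.2) (M.mul_mem_left _ hnM)

theorem irr_mem_locRing (χ : IrrCharacter G) (g : G) : (χ : G → ℂ) g ∈ locRing M := by
  obtain ⟨n, ρ, -, hρ⟩ := χ.2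
  rw [← hρ]
  exact isIntegral_mem_locRing (CfsgLib.Char.isIntegral_character ρ g)

/-- A set with local idempotent is a union of blocks, tested off the support of the idempotent. -/
theorem false_of_local_idem (A : Set (IrrCharacter G)) {χ ψ : IrrCharacter G} (hχ : χ ∈ A)
    (hψ : ψ ∉ A) (hloc : ∀ g, blockCoeff A g ∈ locRing M)
    (hdiff : ∀ g, blockCoeff A g = 0 ∨
      MemLocalIdeal M (centralChar (χ : G → ℂ) g - centralChar (ψ : G → ℂ) g)) : False := by
  have h1 := omega_idemC A χ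
  have h0 := omega_idemC A ψ
  rw [blockInd, if_pos hχ, omega_apply, classEval] at h1
  rw [blockInd, if_neg hψ, omega_apply, classEval] at h0
  simp only [coe_idemC, coeff_ofFun] at h1 h0
  refine not_memLocalIdeal_one (M := M) ?_
  rw [show (1 : ℂ) = 1 - 0 by rw [sub_zero]]
  rw [← h1, ← h0, ← Finset.sum_sub_distrib]
  refine memLocalIdeal_sum _ _ fun C _ => ?_
  rw [← mul_sub]
  rcases hdiff (Quotient.out C) with hz | hz
  · rw [hz, zero_mul]; exact memLocalIdeal_zero
  · exact memLocalIdeal_mul_left (hloc _) hz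

/-- Block idempotents vanish on singular elements. -/
theorem blockCoeff_eq_zero_of_singular {q : ℕ} (hM : IsPModular q M)
    {B : Set (IrrCharacter G)} (hB : IsPBlock M B) {g : G} (hg : q ∣ orderOf g) :
    blockCoeff B g = 0 := by
  haveI := Fact.mk hM.1
  obtain ⟨y, hy⟩ := exists_isPPart hM.1 g
  have h1 : IsPPart q (1 : G) 1 := by
    refine ⟨1, mul_one 1, Commute.refl 1, ⟨0, by rw [pow_zero, orderOf_one]⟩, ?_⟩
    rw [orderOf_one]
    exact hM.1.not_dvd_one
  have hne : ¬ IsConj (1 : G) y := by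
    intro hc
    obtain ⟨z, hyz, -, -, hz⟩ := hy
    rw [(isConj_one_right.1 hc : y = 1), one_mul] at hyz
    exact hz (hyz ▸ hg)
  have key := block_orthogonality_section hM.1 hM.2.2 hB h1 hy hne
  rw [blockCoeff]
  refine mul_eq_zero_of_right _ (Eq.trans ?_ key)
  refine finsum_congr fun χ => finsum_congr fun _ => ?_
  rw [CfsgLib.Char.IsIrrCharacter.apply_inv χ.2]

/-- Equal central characters modulo `M` at regular elements give the same block. -/
theorem sameBlock_of_regular {q : ℕ} (hM : IsPModular q M) (χ ψ : IrrCharacter G)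
    (h : ∀ g : G, ¬ q ∣ orderOf g →
      MemLocalIdeal M (centralChar (χ : G → ℂ) g - centralChar (ψ : G → ℂ) g)) :
    SameBlock M (χ : G → ℂ) (ψ : G → ℂ) := by
  by_contra hne
  refine false_of_local_idem (M := M) (blockOf M (χ : G → ℂ)) (mem_blockOf_self χ)
    (show ψ ∉ blockOf M (χ : G → ℂ) from hne) (blockCoeff_mem (isPBlock_blockOf χ)) fun g => ?_
  by_cases hg : q ∣ orderOf g
  · exact Or.inl (blockCoeff_eq_zero_of_singular hM (isPBlock_blockOf χ) hg)
  · exact Or.inr (h g hg)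

end Ideal

/-- The central character of `φ` induced to the regular classes of `G`. -/
noncomputable def indV (p : ℕ) (x : G) (φ : IrrCharacter (regPart p x)) (g : G) : ℂ :=
  ∑ᶠ w ∈ {w : regPart p x | IsConj g (w : G)},
    (φ : regPart p x → ℂ) w / (φ : regPart p x → ℂ) 1

/-- `χ` has the block attached to `φ`. -/
def Linked (M : Ideal AlgInt) (p : ℕ) (x : G) (φ : IrrCharacter (regPart p x))
    (χ : IrrCharacter G) : Prop :=
  ∀ g : G, ¬ p ∣ orderOf g → MemLocalIdeal M (indV p x φ g - centralChar (χ : G → ℂ) g)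

namespace HypOne

variable (h : HypOne p x) {M : Ideal AlgInt}

include h

theorem inducedCentralChar_eq_indV (ξ : IrrCharacter (cent x)) {g : G} (hg : ¬ p ∣ orderOf g) :
    inducedCentralChar (cent x) (ξ : cent x → ℂ) g = indV p x (h.resV ξ) g := by
  rw [inducedCentralChar, indV]
  refine (finsum_mem_eq_of_bijOn h.inclV ⟨fun w hw => hw,
    (Subgroup.inclusion_injective h.regPart_le).injOn, fun c hc => ?_⟩ fun w _ => ?_).symm
  · have hreg : ¬ p ∣ orderOf (c : G) := by
      obtain ⟨u, hu⟩ := isConj_iff.1 hc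
      rw [← hu, show orderOf (u * g * u⁻¹) = orderOf g from
        orderOf_injective (MulAut.conj u).toMonoidHom (MulAut.conj u).injective g]
      exact hg
    exact ⟨⟨c, h.mem_regPart_iff.2 ⟨c.2, hreg⟩⟩, hc, rfl⟩
  · rw [h.resV_apply, h.resV_apply, map_one]

theorem indV_conjChar {n : G} (hn : n ∈ norm₁ x) (φ : IrrCharacter (regPart p x)) (g : G) :
    indV p x (conjChar h hn φ) g = indV p x φ g := by
  rw [indV, indV]
  have hconj : ∀ w : regPart p x, IsConj g (conjEquiv h hn w : G) ↔ IsConj g (w : G) := fun w =>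
    have hc : IsConj (w : G) (conjEquiv h hn w : G) := isConj_iff.2 ⟨n, rfl⟩
    ⟨fun e => e.trans hc.symm, fun e => e.trans hc⟩
  refine finsum_mem_eq_of_bijOn (conjEquiv h hn) ⟨fun w hw => (hconj w).2 hw,
    (conjEquiv h hn).injective.injOn, fun c hc => ?_⟩ fun w _ => ?_
  · refine ⟨(conjEquiv h hn).symm c, ?_, (conjEquiv h hn).apply_symm_apply c⟩
    exact (hconj _).1 (by rw [(conjEquiv h hn).apply_symm_apply]; exact hc)
  · show (φ : regPart p x → ℂ) (conjEquiv h hn w) / (φ : regPart p x → ℂ) (conjEquiv h hn 1) = _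
    rw [map_one]

theorem linked_conjChar_iff {n : G} (hn : n ∈ norm₁ x) (φ : IrrCharacter (regPart p x))
    (χ : IrrCharacter G) : Linked M p x (conjChar h hn φ) χ ↔ Linked M p x φ χ := by
  simp only [Linked, h.indV_conjChar hn]

variable [Fact p.Prime]

theorem singular_pow_mul {i : ℕ} (hi : ¬ p ∣ i) (v : regPart p x) :
    p ∣ orderOf (x ^ i * (v : G)) := by
  by_contra hd
  have hmem : x ^ i * (v : G) ∈ regPart p x :=
    h.mem_regPart_iff.2 ⟨mul_mem (pow_mem_cent i) (h.regPart_le v.2), hd⟩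
  have := (h.decomp_unique (i := i) (j := 0) (v := v) (w := ⟨_, hmem⟩)
    (by rw [pow_zero, one_mul])).1
  rw [Nat.zero_mod] at this
  exact hi (Nat.dvd_of_mod_eq_zero this)

theorem apply_eq_zero_of_dvd {χ : IrrCharacter G} (hd : p ∣ charDegree (χ : G → ℂ)) {g : G}
    (hg : p ∣ orderOf g) : (χ : G → ℂ) g = 0 := by
  obtain ⟨n, ρ, hρ, hρχ⟩ := χ.2
  haveI := hρ
  have hdeg : charDegree (χ : G → ℂ) = Module.finrank ℂ (Fin n → ℂ) := by
    have h1 := CharTools.irr_degree_cast χ
    conv_rhs at h1 => rw [← hρχ, Representation.char_one]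
    exact_mod_cast h1
  rw [← hρχ]
  refine CfsgLib.Char.character_eq_zero_of_defect_zero ρ h.prime (n := 1) ?_ h.not_sq ?_ g hg
  · rw [pow_one, ← h.orderOf_x]; exact orderOf_dvd_natCard x
  · rw [pow_one, ← hdeg]; exact hd

theorem secCoef_eq_zero_of_dvd {χ : IrrCharacter G} (hd : p ∣ charDegree (χ : G → ℂ))
    (φ : IrrCharacter (regPart p x)) {i : ℕ} (hi : ¬ p ∣ i) :
    secCoef p x (χ : G → ℂ) φ i = 0 := by
  rw [secCoef]
  refine mul_eq_zero_of_right _ (finsum_eq_zero_of_forall_eq_zero fun v => ?_)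
  rw [h.apply_eq_zero_of_dvd hd (h.singular_pow_mul hi v), zero_mul]

theorem eq_of_sameBlock_of_dvd (hM : IsPModular p M) {χ ψ : IrrCharacter G}
    (hd : p ∣ charDegree (χ : G → ℂ)) (hs : SameBlock M (χ : G → ℂ) (ψ : G → ℂ)) : ψ = χ := by
  haveI := hM.2.1
  by_contra hne
  refine false_of_local_idem (M := M) ({χ} : Set (IrrCharacter G)) rfl hne (fun g => ?_)
    fun g => Or.inr (hs g)
  rw [blockCoeff]
  simp only [Set.mem_singleton_iff, finsum_cond_eq_left]
  obtain ⟨a, ha⟩ := hd
  have hpp : ¬ p ∣ PConjugate.pPrimePart p G := h.not_dvd_pPrimePart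
  have hc : conj ((χ : G → ℂ) g) = (χ : G → ℂ) g⁻¹ :=
    (CfsgLib.Char.IsIrrCharacter.apply_inv χ.2 g).symm
  have he : (Nat.card G : ℂ)⁻¹ * ((χ : G → ℂ) 1 * conj ((χ : G → ℂ) g)) =
      (a : ℂ) * ((PConjugate.pPrimePart p G : ℕ) : ℂ)⁻¹ * (χ : G → ℂ) g⁻¹ := by
    rw [hc, ← CharTools.irr_degree_cast χ, ha, ← h.pPrimePart_mul, Nat.cast_mul, Nat.cast_mul,
      mul_inv]
    have hp0 : (p : ℂ) ≠ 0 := Nat.cast_ne_zero.2 h.prime.ne_zero
    field_simp
  rw [he]
  exact mul_mem (mul_mem (natCast_mem _ a) (natCast_inv_mem_locRing hM hpp)) (irr_mem_locRing χ _)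

theorem exists_induced_of_secCoef_ne_zero (hM : IsPModular p M) (χ : IrrCharacter G)
    (φ : IrrCharacter (regPart p x)) (hne : secCoef p x (χ : G → ℂ) φ 1 ≠ 0) :
    ∃ ξ : IrrCharacter (cent x), h.resV ξ = φ ∧
      IsInducedBlock M (cent x) (blockOf M (ξ : cent x → ℂ)) (blockOf M (χ : G → ℂ)) := by
  haveI := hM.2.1
  haveI := Fintype.ofFinite (cent x)
  haveI := Fintype.ofFinite (regPart p x)
  by_contra hno
  push Not at hno
  refine hne ?_
  set θ : cent x → ℂ := fun c => (χ : G → ℂ) (x * (c : G)) with hθ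
  have hclass : IsClassFunction (cent x) θ := fun c d => by
    show (χ : G → ℂ) (x * ((d * c * d⁻¹ : cent x) : G)) = (χ : G → ℂ) (x * (c : G))
    rw [← CfsgLib.Char.IsIrrCharacter.isClassFunction χ.2 (x * (c : G)) (d : G)]
    refine congrArg _ ?_
    rw [Subgroup.coe_mul, Subgroup.coe_mul, InvMemClass.coe_inv]
    have hd : Commute (d : G) x := mem_cent_iff.1 d.2
    calc x * ((d : G) * c * (d : G)⁻¹) = x * (d : G) * ((c : G) * (d : G)⁻¹) := by group
      _ = (d : G) * x * ((c : G) * (d : G)⁻¹) := by rw [hd.eq]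
      _ = _ := by group
  set S := Finset.univ.filter fun ξ : IrrCharacter (cent x) =>
    IsInducedBlock M (cent x) (blockOf M (ξ : cent x → ℂ)) (blockOf M (χ : G → ℂ)) with hS
  have hexp : ∀ v : regPart p x, (χ : G → ℂ) (x * (v : G)) =
      ∑ ξ ∈ S, classInner θ (ξ : cent x → ℂ) * (h.resV ξ : regPart p x → ℂ) v := by
    intro v
    have h1 := congrFun (CfsgLib.Char.IsClassFunction.eq_sum_classInner hclass) (h.inclV v)
    simp only [Finset.sum_apply, Pi.smul_apply, smul_eq_mul] at h1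
    rw [show (χ : G → ℂ) (x * (v : G)) = θ (h.inclV v) from rfl, h1]
    show ∑ ξ : IrrCharacter (cent x), classInner θ (ξ : cent x → ℂ) * (ξ : cent x → ℂ) (h.inclV v) =
      ∑ ξ ∈ S, classInner θ (ξ : cent x → ℂ) * (ξ : cent x → ℂ) (h.inclV v)
    rw [← Finset.sum_add_sum_compl S, add_eq_left, ← Finset.sum_fiberwise_of_maps_to
      (g := fun ξ : IrrCharacter (cent x) => blockOf M (ξ : cent x → ℂ))
      (t := Sᶜ.image fun ξ : IrrCharacter (cent x) => blockOf M (ξ : cent x → ℂ))
      (fun ξ hξ => Finset.mem_image_of_mem _ hξ)]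
    refine Finset.sum_eq_zero fun b hb => ?_
    obtain ⟨ξ₀, hξ₀, rfl⟩ := Finset.mem_image.1 hb
    have hnot : ¬ IsInducedBlock M (cent x) (blockOf M (ξ₀ : cent x → ℂ))
        (blockOf M (χ : G → ℂ)) := by simpa [hS] using hξ₀
    have hreg : ¬ p ∣ orderOf (h.inclV v) := by
      rw [← Subgroup.orderOf_coe, coe_inclV]
      exact (h.mem_regPart_iff.1 v.2).2
    have key := Cfsg.Agent.S0923.result p M hM x ⟨1, by rw [pow_one, h.orderOf_x]⟩ _
      (isPBlock_blockOf χ) χ (mem_blockOf_self χ) _ (isPBlock_blockOf ξ₀) hnot (h.inclV v) hreg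
    refine Eq.trans ?_ key
    unfold blockPart
    rw [finsum_mem_eq_finite_toFinset_sum _ (Set.toFinite _)]
    refine Finset.sum_congr ?_ fun ξ _ => by congr!
    ext ξ
    simp only [Finset.mem_filter, Set.Finite.mem_toFinset]
    refine ⟨fun e => e.2 ▸ mem_blockOf_self ξ, fun e => ?_⟩
    have heq := (IsPBlock.eq_blockOf (isPBlock_blockOf ξ₀) e).symm
    refine ⟨?_, heq⟩
    simp only [hS, Finset.mem_compl, Finset.mem_filter, Finset.mem_univ, true_and, heq]
    exact hnot
  rw [secCoef, finsum_eq_sum_of_fintype]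
  simp only [pow_one, hexp, Finset.sum_mul, mul_assoc]
  rw [Finset.sum_comm, Finset.mul_sum]
  refine Finset.sum_eq_zero fun ξ hξ => ?_
  rw [← Finset.mul_sum, mul_left_comm]
  refine mul_eq_zero_of_right _ ?_
  have h2 := CfsgLib.Char.classInner_irr_of_ne (h.resV ξ).2 φ.2
    (fun e => hno ξ (Subtype.ext e) (Finset.mem_filter.1 hξ).2)
  rw [← h2, classInner]

theorem linked_of_secCoef_ne_zero (hM : IsPModular p M) {χ : IrrCharacter G}
    {φ : IrrCharacter (regPart p x)} {i : ℕ} (hi : ¬ p ∣ i)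
    (hne : secCoef p x (χ : G → ℂ) φ i ≠ 0) : Linked M p x φ χ := by
  haveI := hM.2.1
  obtain ⟨u, hu⟩ := h.exists_exponent hi
  have hsec : secCoef p x ((u • χ : IrrCharacter G) : G → ℂ) φ 1 =
      secCoef p x (χ : G → ℂ) φ i := by
    rw [secCoef, secCoef]
    refine congrArg _ (finsum_congr fun v => ?_)
    rw [h.smul_singular, one_mul, h.pow_eq_pow_iff.2 hu]
  obtain ⟨ξ, hξ, hind⟩ :=
    h.exists_induced_of_secCoef_ne_zero hM (u • χ) φ (by rw [hsec]; exact hne)
  intro g hg
  have h1 := hind.2.2 ξ (mem_blockOf_self ξ) (u • χ) (mem_blockOf_self _) g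
  rw [h.inducedCentralChar_eq_indV ξ hg, hξ] at h1
  have h2 : centralChar ((u • χ : IrrCharacter G) : G → ℂ) g = centralChar (χ : G → ℂ) g := by
    rw [centralChar, centralChar, h.smul_regular u χ hg,
      h.smul_regular u χ (g := 1) (by rw [orderOf_one]; exact h.prime.not_dvd_one)]
  rwa [h2] at h1

omit [Fact p.Prime] in
theorem sameBlock_of_linked (hM : IsPModular p M) {φ : IrrCharacter (regPart p x)}
    {χ ψ : IrrCharacter G} (hχ : Linked M p x φ χ) (hψ : Linked M p x φ ψ) :
    SameBlock M (χ : G → ℂ) (ψ : G → ℂ) := by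
  haveI := hM.2.1
  refine sameBlock_of_regular hM χ ψ fun g hg => ?_
  have := memLocalIdeal_add (hψ g hg) (memLocalIdeal_neg (hχ g hg))
  convert this using 1
  ring

omit [Fact p.Prime] in
theorem linked_of_sameBlock (hM : IsPModular p M) {φ : IrrCharacter (regPart p x)}
    {χ ψ : IrrCharacter G} (hχ : Linked M p x φ χ)
    (hs : SameBlock M (χ : G → ℂ) (ψ : G → ℂ)) : Linked M p x φ ψ := by
  haveI := hM.2.1
  intro g hg
  have := memLocalIdeal_add (hχ g hg) (hs g)
  convert this using 1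
  ring

/-- The block determines `φ` up to conjugation in the normalizer. -/
theorem exists_conjChar_of_linked (hM : IsPModular p M) {φ φ' : IrrCharacter (regPart p x)}
    {χ : IrrCharacter G} (hφ : Linked M p x φ χ) (hφ' : Linked M p x φ' χ) :
    ∃ (n : G) (hn : n ∈ norm₁ x), conjChar h hn φ = φ' := by
  haveI := hM.2.1
  haveI := Fintype.ofFinite (regPart p x)
  by_contra hno
  push Not at hno
  set O := Finset.univ.filter fun ψ : IrrCharacter (regPart p x) =>
    ∃ (n : G) (hn : n ∈ norm₁ x), conjChar h hn φ = ψ with hO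
  set F : regPart p x → ℂ := fun w => ∑ ψ ∈ O, coefC ψ w with hF
  have hφO : φ ∈ O := Finset.mem_filter.2 ⟨Finset.mem_univ _, 1, one_mem _,
    Subtype.ext (funext fun v => by simp [conjChar_apply])⟩
  have hφ'O : φ' ∉ O := fun hm => by
    obtain ⟨-, n, hn, he⟩ := Finset.mem_filter.1 hm
    exact hno n hn he
  have hinv : ∀ (n : G) (hn : n ∈ norm₁ x) (w : regPart p x), F (conjEquiv h hn w) = F w := by
    intro n hn w
    have hcoef : ∀ ψ : IrrCharacter (regPart p x),
        coefC ψ (conjEquiv h hn w) = coefC (conjChar h hn ψ) w := fun ψ => by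
      rw [coefC, coefC]
      show _ = (ψ : regPart p x → ℂ) (conjEquiv h hn 1) * _ / _
      rw [map_one]
      rfl
    simp only [hF, hcoef]
    refine Finset.sum_nbij (fun ψ => conjChar h hn ψ) (fun ψ hψ => ?_) ?_ ?_ (fun ψ _ => rfl)
    · obtain ⟨-, m, hm, rfl⟩ := Finset.mem_filter.1 hψ
      refine Finset.mem_filter.2 ⟨Finset.mem_univ _, m * n, mul_mem hm hn,
        Subtype.ext (funext fun v => ?_)⟩
      rw [conjChar_apply, conjChar_apply, conjChar_apply]
      refine congrArg _ (Subtype.ext ?_)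
      show m * n * (v : G) * (m * n)⁻¹ = m * (n * (v : G) * n⁻¹) * m⁻¹
      group
    · intro ψ₁ _ ψ₂ _ he
      refine Subtype.ext (funext fun v => ?_)
      have := congrFun (congrArg Subtype.val he) ((conjEquiv h hn).symm v)
      simpa [conjChar] using this
    · intro ψ hψ
      obtain ⟨-, m, hm, rfl⟩ := Finset.mem_filter.1 (Finset.mem_coe.1 hψ)
      refine ⟨conjChar h (mul_mem hm (inv_mem hn)) φ,
        Finset.mem_coe.2 (Finset.mem_filter.2 ⟨Finset.mem_univ _, _, _, rfl⟩),
        Subtype.ext (funext fun v => ?_)⟩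
      rw [conjChar_apply, conjChar_apply, conjChar_apply]
      refine congrArg _ (Subtype.ext ?_)
      show m * n⁻¹ * (n * (v : G) * n⁻¹) * (m * n⁻¹)⁻¹ = m * (v : G) * m⁻¹
      group
  have hloc : ∀ w, F w ∈ locRing M := fun w => by
    refine sum_mem fun ψ _ => ?_
    rw [coefC, div_eq_mul_inv, ← CfsgLib.Char.IsIrrCharacter.apply_inv ψ.2]
    exact mul_mem (mul_mem (irr_mem_locRing ψ 1) (irr_mem_locRing ψ _))
      (natCast_inv_mem_locRing hM h.not_dvd_card_regPart)
  have hsum : ∀ ψ : IrrCharacter (regPart p x), ∑ w, F w *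
      ((ψ : regPart p x → ℂ) w / (ψ : regPart p x → ℂ) 1) = if ψ ∈ O then 1 else 0 := by
    intro ψ
    have hne := CharTools.irr_apply_one_ne_zero ψ
    simp only [hF, Finset.sum_mul, ← mul_div_assoc]
    simp only [← Finset.sum_div]
    rw [Finset.sum_comm]
    have hs : ∀ θ : IrrCharacter (regPart p x), ∑ w, coefC θ w * (ψ : regPart p x → ℂ) w =
        if ψ = θ then (ψ : regPart p x → ℂ) 1 else 0 := fun θ => by
      simpa using sum_coefC_mul θ ψ 1
    simp only [hs, Finset.sum_ite_eq]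
    split_ifs <;> simp [hne]
  have hgroup : ∀ ψ : IrrCharacter (regPart p x), ∑ w, F w *
      ((ψ : regPart p x → ℂ) w / (ψ : regPart p x → ℂ) 1) =
      ∑ C : ConjClasses G, (if hC : ∃ w : regPart p x, ConjClasses.mk (w : G) = C
        then F hC.choose else 0) * indV p x ψ (Quotient.out C) := by
    intro ψ
    rw [← Finset.sum_fiberwise Finset.univ (fun w : regPart p x => ConjClasses.mk (w : G))]
    refine Finset.sum_congr rfl fun C _ => ?_
    rw [indV, finsum_mem_eq_finite_toFinset_sum _ (Set.toFinite _), Finset.mul_sum]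
    refine Finset.sum_congr ?_ fun w hw => ?_
    rotate_left
    · have hw' : IsConj (Quotient.out C) (w : G) := by
        simpa only [Set.Finite.mem_toFinset, Set.mem_setOf_eq] using hw
      have hCw : ConjClasses.mk (w : G) = C := by
        conv_rhs => rw [← Quotient.out_eq C]
        exact (ConjClasses.mk_eq_mk_iff_isConj.2 hw').symm
      have hC : ∃ w : regPart p x, ConjClasses.mk (w : G) = C := ⟨w, hCw⟩
      rw [dif_pos hC]
      congr 1
      obtain ⟨c, hc⟩ := isConj_iff.1 (ConjClasses.mk_eq_mk_iff_isConj.1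
        (hC.choose_spec.trans hCw.symm))
      obtain ⟨n, hn, hnc⟩ := h.exists_norm_conj hc
      rw [← hinv n hn hC.choose]
      exact congrArg F (Subtype.ext hnc.symm)
    · ext w
      simp only [Finset.mem_filter, Finset.mem_univ, true_and, Set.Finite.mem_toFinset,
        Set.mem_setOf_eq]
      conv_lhs => rw [← Quotient.out_eq C]
      exact ⟨fun e => (ConjClasses.mk_eq_mk_iff_isConj.1 e).symm,
        fun e => ConjClasses.mk_eq_mk_iff_isConj.2 e.symm⟩
  refine not_memLocalIdeal_one (M := M) ?_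
  have key := (hsum φ).symm.trans (hgroup φ)
  have key' := (hsum φ').symm.trans (hgroup φ')
  rw [if_pos hφO] at key
  rw [if_neg hφ'O] at key'
  have hk := congrArg₂ (fun a b : ℂ => a - b) key key'
  simp only [sub_zero] at hk
  rw [hk, ← Finset.sum_sub_distrib]
  refine memLocalIdeal_sum _ _ fun C _ => ?_
  rw [← mul_sub]
  by_cases hC : ∃ w : regPart p x, ConjClasses.mk (w : G) = C
  · rw [dif_pos hC]
    refine memLocalIdeal_mul_left (hloc _) ?_
    have hreg : ¬ p ∣ orderOf (Quotient.out C) := by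
      obtain ⟨c, hc⟩ := isConj_iff.1 (ConjClasses.mk_eq_mk_iff_isConj.1
        (hC.choose_spec.trans (Quotient.out_eq C).symm))
      rw [← hc, show orderOf (c * (hC.choose : G) * c⁻¹) = orderOf (hC.choose : G) from
        orderOf_injective (MulAut.conj c).toMonoidHom (MulAut.conj c).injective _]
      exact (h.mem_regPart_iff.1 hC.choose.2).2
    have := memLocalIdeal_add (hφ _ hreg) (memLocalIdeal_neg (hφ' _ hreg))
    convert this using 1
    ring
  · rw [dif_neg hC, zero_mul]
    exact memLocalIdeal_zero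

end HypOne

end CfsgLib.DefectOne
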