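import Cfsg.Agent.Lib.DefectOne.Master
import Cfsg.Agent.Lib.Char.Linear
import Cfsg.Agent.Lib.Char.Twist
import Cfsg.Agent.Lib.Char.CentralOver
import Mathlib.RingTheory.RootsOfUnity.Complex

/-!
# Characters of the centralizer `⟨x⟩ × V`
-/

set_option autoImplicit false

namespace CfsgLib.DefectOne

open Cfsg
open scoped ComplexConjugate

universe u

variable {G : Type u} [Group G] [Finite G] {p : ℕ} {x : G}

/-- The standard primitive `p`-th root of unity. -/
noncomputable def zeta (p : ℕ) : ℂ := Complex.exp (2 * Real.pi * Complex.I / p)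

theorem isPrimitiveRoot_zeta (hp : p ≠ 0) : IsPrimitiveRoot (zeta p) p :=
  Complex.isPrimitiveRoot_exp p hp

namespace HypOne

variable (h : HypOne p x)

/-- The regular part inside the centralizer. -/
def inclV : regPart p x →* cent x := Subgroup.inclusion h.regPart_le

theorem coe_inclV (v : regPart p x) : ((h.inclV v : cent x) : G) = (v : G) := rfl

/-- The exponent of `x` in an element of the centralizer. -/
noncomputable def expOf (c : cent x) : ℕ := (h.exists_decomp c.2).choose

/-- The regular component of an element of the centralizer. -/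
noncomputable def regOf (c : cent x) : regPart p x := (h.exists_decomp c.2).choose_spec.2.choose

theorem expOf_spec (c : cent x) : x ^ h.expOf c * (h.regOf c : G) = c :=
  (h.exists_decomp c.2).choose_spec.2.choose_spec

theorem expOf_eq {c : cent x} {i : ℕ} {v : regPart p x} (hc : x ^ i * (v : G) = c) :
    h.expOf c % p = i % p ∧ h.regOf c = v :=
  h.decomp_unique ((h.expOf_spec c).trans hc.symm)

theorem decomp_mul (c d : cent x) :
    x ^ (h.expOf c + h.expOf d) * ((h.regOf c * h.regOf d : regPart p x) : G) =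
      ((c * d : cent x) : G) := by
  rw [Subgroup.coe_mul, Subgroup.coe_mul, ← h.expOf_spec c, ← h.expOf_spec d, pow_add]
  have := ((h.commute_regPart (h.regOf c)).pow_right (h.expOf d)).eq
  calc x ^ h.expOf c * x ^ h.expOf d * ((h.regOf c : G) * (h.regOf d : G))
      = x ^ h.expOf c * (x ^ h.expOf d * (h.regOf c : G)) * (h.regOf d : G) := by group
    _ = x ^ h.expOf c * ((h.regOf c : G) * x ^ h.expOf d) * (h.regOf d : G) := by rw [this]
    _ = _ := by group

/-- The projection of the centralizer onto the regular part. -/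
noncomputable def projV : cent x →* regPart p x :=
  MonoidHom.mk' h.regOf fun c d => (h.expOf_eq (h.decomp_mul c d)).2

theorem projV_eq {c : cent x} {i : ℕ} {v : regPart p x} (hc : x ^ i * (v : G) = c) :
    h.projV c = v := (h.expOf_eq hc).2

theorem projV_inclV (v : regPart p x) : h.projV (h.inclV v) = v :=
  h.projV_eq (i := 0) (by rw [pow_zero, one_mul, coe_inclV])

theorem projV_surjective : Function.Surjective h.projV := fun v => ⟨h.inclV v, h.projV_inclV v⟩

/-- The element `x ^ i * v` of the centralizer. -/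
def mkC (i : ℕ) (v : regPart p x) : cent x :=
  ⟨x ^ i * (v : G), mul_mem (pow_mem_cent i) (h.regPart_le v.2)⟩

include h in
theorem zeta_pow_congr {a b : ℕ} (hab : a % p = b % p) : zeta p ^ a = zeta p ^ b := by
  have hz := (isPrimitiveRoot_zeta h.prime.ne_zero).pow_eq_one
  rw [← Nat.mod_add_div a p, ← Nat.mod_add_div b p, pow_add, pow_add, pow_mul, pow_mul, hz,
    one_pow, one_pow, hab]

/-- The linear character `x ^ i * v ↦ ζ ^ (j * i)`. -/
noncomputable def linC (j : ℕ) : cent x →* ℂˣ :=
  MonoidHom.mk' (fun c => (((isPrimitiveRoot_zeta h.prime.ne_zero).isUnit h.prime.ne_zero).unit) ^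
    (j * h.expOf c)) fun c d => Units.ext (by
      simp only [Units.val_mul, Units.val_pow_eq_pow_val, IsUnit.unit_spec, ← pow_add, ← mul_add]
      refine h.zeta_pow_congr ?_
      rw [Nat.mul_mod, (h.expOf_eq (h.decomp_mul c d)).1, ← Nat.mul_mod])

theorem linC_mkC (j i : ℕ) (v : regPart p x) :
    (h.linC j (h.mkC i v) : ℂ) = zeta p ^ (j * i) := by
  simp only [linC, MonoidHom.mk'_apply, Units.val_pow_eq_pow_val, IsUnit.unit_spec]
  refine h.zeta_pow_congr ?_
  rw [Nat.mul_mod, (h.expOf_eq (c := h.mkC i v) (i := i) (v := v) rfl).1, ← Nat.mul_mod]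

/-- The irreducible character `λ_j × φ` of the centralizer. -/
noncomputable def prodIrr (j : ℕ) (φ : IrrCharacter (regPart p x)) : IrrCharacter (cent x) :=
  ⟨fun c => (h.linC j c : ℂ) * (φ : regPart p x → ℂ) (h.projV c),
    CfsgLib.Char.IsIrrCharacter.linear_mul
      (CfsgLib.CharTwist.isIrrCharacter_comp φ.2 h.projV h.projV_surjective) (h.linC j)⟩

theorem prodIrr_mkC (j i : ℕ) (φ : IrrCharacter (regPart p x)) (v : regPart p x) :
    (h.prodIrr j φ : cent x → ℂ) (h.mkC i v) = zeta p ^ (j * i) * (φ : regPart p x → ℂ) v := by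
  show (h.linC j (h.mkC i v) : ℂ) * _ = _
  rw [h.linC_mkC, h.projV_eq (c := h.mkC i v) rfl]

/-- An irreducible character of the centralizer restricts irreducibly to the regular part. -/
theorem isIrrCharacter_restrict {ξ : cent x → ℂ} (hξ : IsIrrCharacter (cent x) ξ) :
    IsIrrCharacter (regPart p x) (ξ ∘ h.inclV) := by
  obtain ⟨n, ρ, hρ, rfl⟩ := hξ
  haveI := hρ
  set xc : cent x := ⟨x, self_mem_cent⟩
  obtain ⟨a, ha⟩ := CfsgLib.Char.exists_scalar_of_commute ρ (ρ xc) fun g => by
    rw [← map_mul, ← map_mul]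
    exact congrArg ρ (Subtype.ext (mem_cent_iff.1 g.2).eq.symm)
  refine ⟨n, ρ.comp h.inclV, ?_, rfl⟩
  have := CfsgLib.CharKernel.nontrivial_of_irreducible ρ
  refine CfsgLib.CharKernel.isIrreducible_of_forall _ fun W hW =>
    CfsgLib.CharKernel.eq_bot_or_eq_top ρ W fun g w hw => ?_
  obtain ⟨i, -, v, hv⟩ := h.exists_decomp g.2
  have hg : g = xc ^ i * h.inclV v := Subtype.ext (by simpa [xc, coe_inclV] using hv.symm)
  rw [hg, map_mul, map_pow, ha]
  have h1 : ρ (h.inclV v) w ∈ W := hW v w hw
  simpa [smul_pow] using W.smul_mem (a ^ i) h1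

/-- The restriction of an irreducible character of the centralizer to the regular part. -/
def resV (ξ : IrrCharacter (cent x)) : IrrCharacter (regPart p x) :=
  ⟨_, h.isIrrCharacter_restrict ξ.2⟩

theorem resV_apply (ξ : IrrCharacter (cent x)) (v : regPart p x) :
    (h.resV ξ : regPart p x → ℂ) v = (ξ : cent x → ℂ) (h.inclV v) := rfl

end HypOne

end CfsgLib.DefectOne
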