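import Cfsg.Agent.Lib.Char.Basic
import Cfsg.Agent.Lib.Char.Kernel
import Mathlib.Analysis.Complex.Trigonometric

/-!
# Elements with eigenvalues close to one of them

In an irreducible representation generated by the conjugates of `x`, the element `x` is scalar as
soon as one of its eigenvalues is at distance less than one from all the others.
-/

set_option autoImplicit false

namespace CfsgLib.CloseEigen

open Module
open scoped ComplexConjugate Classical

universe u

variable {G : Type u} [Group G] [Fintype G] {n : ℕ}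
variable (ρ : Representation ℂ G (Fin n → ℂ))

/-- An invariant Hermitian form. -/
noncomputable def form (v w : Fin n → ℂ) : ℂ :=
  ∑ g : G, ∑ i, conj (ρ g v i) * ρ g w i

/-- Its quadratic form. -/
noncomputable def sq (v : Fin n → ℂ) : ℝ :=
  ∑ g : G, ∑ i, Complex.normSq (ρ g v i)

theorem form_self (v : Fin n → ℂ) : form ρ v v = (sq ρ v : ℂ) := by
  rw [form, sq, Complex.ofReal_sum]
  refine Finset.sum_congr rfl fun g _ => ?_
  rw [Complex.ofReal_sum]
  exact Finset.sum_congr rfl fun i _ => Complex.normSq_eq_conj_mul_self.symm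

theorem form_invariant (g : G) (v w : Fin n → ℂ) : form ρ (ρ g v) (ρ g w) = form ρ v w := by
  rw [form, form]
  refine Fintype.sum_equiv (Equiv.mulRight g) _ _ fun a => ?_
  simp [map_mul]

theorem form_sum_right {ι : Type*} (s : Finset ι) (v : Fin n → ℂ) (f : ι → Fin n → ℂ) :
    form ρ v (∑ a ∈ s, f a) = ∑ a ∈ s, form ρ v (f a) := by
  simp only [form, map_sum, Finset.sum_apply, Finset.mul_sum]
  rw [Finset.sum_comm (γ := ι)]
  exact Finset.sum_congr rfl fun g _ => Finset.sum_comm

theorem form_sum_left {ι : Type*} (s : Finset ι) (w : Fin n → ℂ) (f : ι → Fin n → ℂ) :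
    form ρ (∑ a ∈ s, f a) w = ∑ a ∈ s, form ρ (f a) w := by
  simp only [form, map_sum, Finset.sum_apply, Finset.sum_mul]
  rw [Finset.sum_comm (γ := ι)]
  exact Finset.sum_congr rfl fun g _ => Finset.sum_comm

theorem form_smul (a b : ℂ) (v w : Fin n → ℂ) :
    form ρ (a • v) (b • w) = conj a * b * form ρ v w := by
  simp only [form, map_smul, Pi.smul_apply, smul_eq_mul, map_mul, Finset.mul_sum]
  exact Finset.sum_congr rfl fun g _ => Finset.sum_congr rfl fun i _ => by ring

theorem form_sub_left (v v' w : Fin n → ℂ) :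
    form ρ (v - v') w = form ρ v w - form ρ v' w := by
  simp only [form, map_sub, Pi.sub_apply, sub_mul, Finset.sum_sub_distrib]

theorem form_sub_right (v w w' : Fin n → ℂ) :
    form ρ v (w - w') = form ρ v w - form ρ v w' := by
  simp only [form, map_sub, Pi.sub_apply, mul_sub, Finset.sum_sub_distrib]

theorem form_conj (v w : Fin n → ℂ) : conj (form ρ v w) = form ρ w v := by
  simp only [form, map_sum, map_mul, Complex.conj_conj]
  exact Finset.sum_congr rfl fun g _ => Finset.sum_congr rfl fun i _ => mul_comm _ _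

theorem sq_smul (a : ℂ) (v : Fin n → ℂ) : sq ρ (a • v) = Complex.normSq a * sq ρ v := by
  refine Complex.ofReal_injective ?_
  rw [← form_self, form_smul, form_self, Complex.ofReal_mul, Complex.normSq_eq_conj_mul_self]

theorem sq_nonneg' (v : Fin n → ℂ) : 0 ≤ sq ρ v :=
  Finset.sum_nonneg fun _ _ => Finset.sum_nonneg fun _ _ => Complex.normSq_nonneg _

theorem sq_pos {v : Fin n → ℂ} (hv : v ≠ 0) : 0 < sq ρ v := by
  obtain ⟨i, hi⟩ := Function.ne_iff.1 hv
  refine Finset.sum_pos' (fun _ _ => Finset.sum_nonneg fun _ _ => Complex.normSq_nonneg _)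
    ⟨1, Finset.mem_univ _, Finset.sum_pos' (fun _ _ => Complex.normSq_nonneg _)
      ⟨i, Finset.mem_univ _, ?_⟩⟩
  simpa using Complex.normSq_pos.2 hi

theorem sq_invariant (g : G) (v : Fin n → ℂ) : sq ρ (ρ g v) = sq ρ v := by
  refine Complex.ofReal_injective ?_
  rw [← form_self, ← form_self, form_invariant]

theorem sq_sub_of_orth {a b : Fin n → ℂ} (h : form ρ a b = 0) :
    sq ρ (a - b) = sq ρ a + sq ρ b := by
  refine Complex.ofReal_injective ?_
  rw [← form_self, form_sub_left, form_sub_right, form_sub_right, form_self, form_self,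
    ← form_conj ρ a b, h, map_zero, Complex.ofReal_add]
  ring

/-- The form is diagonal on the eigenvalues: `ε⁻¹ x - 1` contracts. -/
theorem sq_sub_lt {x : G} {ε : ℂ} (b : Basis (Fin n) ℂ (Fin n → ℂ)) (μ : Fin n → ℂ)
    (hb : ∀ i, ρ x (b i) = μ i • b i) (hμ : ∀ i, Complex.normSq (μ i) = 1)
    (hclose : ∀ i, Complex.normSq (ε⁻¹ * μ i - 1) < 1) {w : Fin n → ℂ} (hw : w ≠ 0) :
    sq ρ (ε⁻¹ • ρ x w - w) < sq ρ w := by
  set S := Finset.univ.image μ
  set c := b.repr w
  set f : ℂ → Fin n → ℂ := fun m => ∑ i ∈ Finset.univ.filter (fun i => μ i = m), c i • b i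
  have hsum : ∑ m ∈ S, f m = w := by
    rw [Finset.sum_fiberwise_of_maps_to fun i _ => Finset.mem_image_of_mem μ (Finset.mem_univ i)]
    exact b.sum_repr w
  have heig : ∀ m, ρ x (f m) = m • f m := fun m => by
    simp only [f, map_sum, map_smul, hb, Finset.smul_sum]
    refine Finset.sum_congr rfl fun i hi => ?_
    rw [(Finset.mem_filter.1 hi).2, smul_comm]
  have horth : ∀ m ∈ S, ∀ m' ∈ S, m ≠ m' → form ρ (f m) (f m') = 0 := by
    intro m hm m' _ hne
    have h1 := form_invariant ρ x (f m) (f m')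
    rw [heig, heig, form_smul] at h1
    obtain ⟨i, -, rfl⟩ := Finset.mem_image.1 hm
    by_contra h0
    have h2 : conj (μ i) * m' = 1 := mul_right_cancel₀ h0 (by rw [h1, one_mul])
    refine hne ?_
    have h3 : μ i * conj (μ i) = 1 := by rw [Complex.mul_conj, hμ i, Complex.ofReal_one]
    calc μ i = μ i * (conj (μ i) * m') := by rw [h2, mul_one]
      _ = m' := by rw [← mul_assoc, h3, one_mul]
  have hdiag : ∀ a : ℂ → ℂ, sq ρ (∑ m ∈ S, a m • f m) =
      ∑ m ∈ S, Complex.normSq (a m) * sq ρ (f m) := by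
    intro a
    refine Complex.ofReal_injective ?_
    rw [← form_self, form_sum_left, Complex.ofReal_sum]
    refine Finset.sum_congr rfl fun m hm => ?_
    rw [form_sum_right, Finset.sum_eq_single m, form_smul, form_self, Complex.ofReal_mul,
      Complex.normSq_eq_conj_mul_self]
    · intro m' hm' hne
      rw [form_smul, horth m hm m' hm' (Ne.symm hne), mul_zero]
    · exact fun hn => absurd hm hn
  have h1 : ε⁻¹ • ρ x w - w = ∑ m ∈ S, (ε⁻¹ * m - 1) • f m := by
    conv_lhs => rw [← hsum]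
    rw [map_sum, Finset.smul_sum, ← Finset.sum_sub_distrib]
    refine Finset.sum_congr rfl fun m _ => ?_
    rw [heig, sub_smul, one_smul, mul_smul]
  have h2 : sq ρ w = ∑ m ∈ S, Complex.normSq (1 : ℂ) * sq ρ (f m) := by
    rw [← hdiag fun _ => 1]
    simp [hsum]
  rw [h1, hdiag, h2]
  refine Finset.sum_lt_sum (fun m hm => ?_) ?_
  · obtain ⟨i, -, rfl⟩ := Finset.mem_image.1 hm
    rw [map_one]
    exact mul_le_mul_of_nonneg_right (hclose i).le (sq_nonneg' ρ _)
  · obtain ⟨m, hm, hne⟩ := Finset.exists_ne_zero_of_sum_ne_zero (show ∑ m ∈ S, f m ≠ 0 by rwa [hsum])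
    refine ⟨m, hm, ?_⟩
    obtain ⟨i, -, rfl⟩ := Finset.mem_image.1 hm
    rw [map_one]
    exact mul_lt_mul_of_pos_right (hclose i) (sq_pos ρ hne)

/-- The criterion. -/
theorem eq_smul_one_of_close [ρ.IsIrreducible] {x : G}
    (hgen : Subgroup.normalClosure ({x} : Set G) = ⊤)
    {ε : ℂ} (b : Basis (Fin n) ℂ (Fin n → ℂ)) (μ : Fin n → ℂ)
    (hb : ∀ i, ρ x (b i) = μ i • b i) (hμ : ∀ i, Complex.normSq (μ i) = 1)
    (hε : ∃ i, μ i = ε) (hclose : ∀ i, Complex.normSq (ε⁻¹ * μ i - 1) < 1) :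
    ρ x = ε • (1 : Module.End ℂ (Fin n → ℂ)) := by
  obtain ⟨i₀, hi₀⟩ := hε
  have hεn : Complex.normSq ε = 1 := hi₀ ▸ hμ i₀
  have hε0 : ε ≠ 0 := fun h => by simp [h] at hεn
  set U : Submodule ℂ (Fin n → ℂ) :=
    LinearMap.ker (ρ x - ε • (1 : Module.End ℂ (Fin n → ℂ))) with hU
  have hUmem : ∀ u, u ∈ U ↔ ρ x u = ε • u := fun u => by simp [hU, sub_eq_zero]
  set δ : (Fin n → ℂ) → (Fin n → ℂ) := fun w => ε⁻¹ • ρ x w - w with hδ
  have hlt : ∀ w, w ≠ 0 → sq ρ (δ w) < sq ρ w := fun w hw =>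
    sq_sub_lt ρ b μ hb hμ hclose hw
  have hle : ∀ w, sq ρ (δ w) ≤ sq ρ w := fun w => by
    rcases eq_or_ne w 0 with rfl | hw
    · simp [hδ, sq]
    · exact (hlt w hw).le
  have hperp : ∀ w, ∀ u ∈ U, form ρ u (δ w) = 0 := by
    intro w u hu
    have hu' : u = ε⁻¹ • ρ x u := by
      rw [(hUmem u).1 hu, smul_smul, inv_mul_cancel₀ hε0, one_smul]
    have h1 : form ρ u (ε⁻¹ • ρ x w) = form ρ u w := by
      conv_lhs => rw [hu']
      rw [form_smul, form_invariant, map_inv₀, ← mul_inv, ← Complex.normSq_eq_conj_mul_self, hεn,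
        Complex.ofReal_one, inv_one, one_mul]
    rw [hδ, form_sub_right, h1, sub_self]
  -- a close translate of `U` invariant under `x` equals `U`
  have hstep : ∀ (y : G) (c : ℂ), Complex.normSq c = 1 →
      (∀ u ∈ U, u ≠ 0 → sq ρ (c • ρ y u - u) < 2 * sq ρ u) →
      (∀ u ∈ U, ∃ u' ∈ U, ρ x (ρ y u) = ρ y u') → ∀ u ∈ U, ρ y u ∈ U := by
    intro y c hc hy hinv u hu
    obtain ⟨u', hu', hxy⟩ := hinv u hu
    set t := ε⁻¹ • u' - u
    have ht : t ∈ U := U.sub_mem (U.smul_mem _ hu') hu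
    have hδy : δ (ρ y u) = ρ y t := by
      simp only [hδ, hxy, t, map_sub, map_smul]
    have ht0 : t = 0 := by
      by_contra hne
      have h1 : form ρ t (ρ y t) = 0 := by rw [← hδy]; exact hperp _ t ht
      have h2 : sq ρ (c • ρ y t - t) = 2 * sq ρ t := by
        have h3 : form ρ (c • ρ y t) t = 0 := by
          rw [← form_conj]
          have h4 := form_smul ρ 1 c t (ρ y t)
          rw [one_smul, h1, mul_zero] at h4
          rw [h4, map_zero]
        rw [sq_sub_of_orth ρ h3, sq_smul, hc, sq_invariant]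
        ring
      exact (hy t ht hne).ne h2
    refine (hUmem _).2 ?_
    rw [hxy]
    have : u' = ε • u := by
      have h6 : ε⁻¹ • u' = u := sub_eq_zero.1 ht0
      rw [← h6, smul_smul, mul_inv_cancel₀ hε0, one_smul]
    rw [this, map_smul]
  -- the shrinking step
  set T : G → G := fun z => z⁻¹ * x * z * x⁻¹ with hT
  have hTu : ∀ z, ∀ u ∈ U, sq ρ (ρ (T z) u - u) = sq ρ (δ (ρ z u - u)) ∧
      ρ x (ρ z u) = ρ z (ε • ρ (T z) u) := by
    intro z u hu
    have hxinv : ρ x⁻¹ u = ε⁻¹ • u := by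
      have h1 := congrArg (fun v => ε⁻¹ • ρ x⁻¹ v) ((hUmem u).1 hu)
      simp only [map_smul, Representation.inv_self_apply, smul_smul, inv_mul_cancel₀ hε0,
        one_smul] at h1
      exact h1.symm
    have hz : ρ z (ρ (T z) u) = ε⁻¹ • ρ x (ρ z u) := by
      rw [← Module.End.mul_apply, ← map_mul, show z * T z = x * z * x⁻¹ by simp [hT, mul_assoc],
        map_mul, map_mul, Module.End.mul_apply, Module.End.mul_apply, hxinv, map_smul, map_smul]
    refine ⟨?_, ?_⟩
    · rw [← sq_invariant ρ z, map_sub, hz]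
      congr 1
      simp only [hδ, map_sub, smul_sub, (hUmem u).1 hu, smul_smul, inv_mul_cancel₀ hε0, one_smul]
      abel
    · rw [map_smul, hz, smul_smul, mul_inv_cancel₀ hε0, one_smul]
  set bU := Module.finBasis ℂ U
  set r : G → ℝ := fun z => ∑ i, sq ρ (ρ z (bU i : Fin n → ℂ) - (bU i : Fin n → ℂ)) with hr
  have hmain : ∀ (N : ℕ) (z : G), (Finset.univ.filter fun w => r w < r z).card = N →
      (∀ u ∈ U, u ≠ 0 → sq ρ (ρ z u - u) < 2 * sq ρ u) → ∀ u ∈ U, ρ z u ∈ U := by
    intro N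
    induction N using Nat.strong_induction_on with
    | _ N ih =>
    intro z hN hz
    by_cases h0 : ∀ i, ρ z (bU i : Fin n → ℂ) = bU i
    · intro u hu
      have h1 : (ρ z : (Fin n → ℂ) →ₗ[ℂ] (Fin n → ℂ)).comp U.subtype = U.subtype :=
        bU.ext fun i => h0 i
      have h2 : ρ z u = u := LinearMap.congr_fun h1 ⟨u, hu⟩
      rwa [h2]
    push Not at h0
    obtain ⟨i, hi⟩ := h0
    have hlt' : r (T z) < r z := by
      refine Finset.sum_lt_sum (fun j _ => ?_) ⟨i, Finset.mem_univ _, ?_⟩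
      · rw [(hTu z _ (bU j).2).1]; exact hle _
      · rw [(hTu z _ (bU i).2).1]; exact hlt _ (sub_ne_zero.2 hi)
    have hcard : (Finset.univ.filter fun w => r w < r (T z)).card < N := by
      rw [← hN]
      refine Finset.card_lt_card (Finset.ssubset_iff_of_subset
        (fun w hw => Finset.mem_filter.2 ⟨Finset.mem_univ _,
          (Finset.mem_filter.1 hw).2.trans hlt'⟩) |>.2 ⟨T z, ?_, ?_⟩)
      · exact Finset.mem_filter.2 ⟨Finset.mem_univ _, hlt'⟩
      · simp
    have hTinv := ih _ hcard (T z) rfl fun u hu hne => by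
      rw [(hTu z u hu).1]; exact (hle _).trans_lt (hz u hu hne)
    exact hstep z 1 (map_one _) (fun u hu hne => by rw [one_smul]; exact hz u hu hne) fun u hu =>
      ⟨_, U.smul_mem ε (hTinv u hu), (hTu z u hu).2⟩
  -- the conjugates of `x` stabilize `U`
  have hconj : ∀ g : G, ∀ u ∈ U, ρ (g * x * g⁻¹) u ∈ U := by
    intro g
    set y := g * x * g⁻¹
    have hεi : Complex.normSq ε⁻¹ = 1 := by rw [map_inv₀, hεn, inv_one]
    have hy : ∀ u, sq ρ (ε⁻¹ • ρ y u - u) ≤ sq ρ u := by
      intro u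
      have h1 : ε⁻¹ • ρ y u - u = ρ g (δ (ρ g⁻¹ u)) := by
        simp only [hδ, y, map_sub, map_smul, map_mul, Module.End.mul_apply,
          Representation.self_inv_apply]
      rw [h1, sq_invariant, ← sq_invariant ρ g⁻¹ u]
      exact hle _
    have hy2 : ∀ u ∈ U, u ≠ 0 → sq ρ (ε⁻¹ • ρ y u - u) < 2 * sq ρ u := fun u _ hne => by
      have := hy u
      have := sq_pos ρ hne
      linarith
    have hTy : ∀ u ∈ U, ρ (T y) u ∈ U := by
      refine hmain _ (T y) rfl fun u hu hne => ?_
      rw [(hTu y u hu).1]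
      have h1 : δ (ρ y u - u) = ε • δ (ε⁻¹ • ρ y u - u) := by
        simp only [hδ, map_sub, map_smul, (hUmem u).1 hu]
        match_scalars <;> field_simp <;> ring
      rw [h1, sq_smul, hεn, one_mul]
      exact (hle _).trans_lt (hy2 u hu hne)
    exact hstep y ε⁻¹ hεi hy2 fun u hu => ⟨_, U.smul_mem ε (hTy u hu), (hTu y u hu).2⟩
  have hall : ∀ g : G, ∀ u ∈ U, ρ g u ∈ U := by
    let H : Subgroup G :=
      { carrier := {g | ∀ u, u ∈ U ↔ ρ g u ∈ U}
        one_mem' := fun u => by simp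
        mul_mem' := fun {a c} ha hc u => by
          rw [map_mul, Module.End.mul_apply, hc u, ha]
        inv_mem' := fun {a} ha u => by
          rw [ha (ρ a⁻¹ u), Representation.self_inv_apply] }
    have hH : Subgroup.normalClosure ({x} : Set G) ≤ H := by
      refine (Subgroup.closure_le _).2 fun y hy => ?_
      obtain ⟨a, ha, hay⟩ := Group.mem_conjugatesOfSet_iff.1 hy
      rw [Set.mem_singleton_iff] at ha
      obtain ⟨g, rfl⟩ := isConj_iff.1 (ha ▸ hay)
      intro u
      refine ⟨fun hu => hconj g u hu, fun hu => ?_⟩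
      have hmap : U.map (ρ (g * x * g⁻¹) : (Fin n → ℂ) →ₗ[ℂ] (Fin n → ℂ)) = U := by
        refine Submodule.eq_of_le_of_finrank_eq
          (Submodule.map_le_iff_le_comap.2 fun v hv => hconj g v hv) ?_
        exact LinearEquiv.finrank_eq (Submodule.equivMapOfInjective _
          (Representation.apply_bijective ρ _).1 U).symm
      rw [← hmap] at hu
      obtain ⟨v, hv, hvu⟩ := hu
      rwa [← (Representation.apply_bijective ρ _).1 hvu]
    rw [hgen] at hH
    exact fun g u hu => (hH (Subgroup.mem_top g) u).1 hu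
  rcases CharKernel.eq_bot_or_eq_top ρ U hall with hbot | htop
  · have hm : b i₀ ∈ U := (hUmem _).2 (by rw [hb, hi₀])
    rw [hbot, Submodule.mem_bot] at hm
    exact absurd hm (b.ne_zero i₀)
  · exact LinearMap.ext fun v => by
      rw [(hUmem v).1 (htop ▸ Submodule.mem_top)]
      rfl

end CfsgLib.CloseEigen
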