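import Cfsg.Agent.Lib.DefectOne.ExpGroup
import Cfsg.Agent.Lib.DefectOne.BlockLink
import Cfsg.Agent.Lib.Char.Virtual
import Mathlib.NumberTheory.LegendreSymbol.AddCharacter

/-!
# The integral columns attached to a character of the regular part
-/

set_option autoImplicit false

namespace CfsgLib.DefectOne

open Cfsg
open scoped ComplexConjugate Classical

universe u

variable {G : Type u} [Group G] [Finite G] {p : ℕ} [Fact p.Prime] {x : G}

/-- The additive character `a ↦ ζ ^ a` modulo `p`. -/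
noncomputable def zc (p : ℕ) [Fact p.Prime] : AddChar (ZMod p) ℂ :=
  AddChar.zmodChar p ((isPrimitiveRoot_zeta (Fact.out : p.Prime).ne_zero).pow_eq_one)

theorem zc_apply (a : ZMod p) : zc p a = zeta p ^ a.val := rfl

theorem zc_natCast (a : ℕ) : zc p (a : ZMod p) = zeta p ^ a := AddChar.zmodChar_apply' _ a

theorem conj_zc (a : ZMod p) : conj (zc p a) = zc p (-a) := by
  rw [AddChar.map_neg_eq_inv, Complex.inv_eq_conj]
  refine Complex.norm_eq_one_of_pow_eq_one ?_ (Fact.out : p.Prime).ne_zero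
  rw [← AddChar.map_nsmul_eq_pow, nsmul_eq_mul, ZMod.natCast_self, zero_mul,
    AddChar.map_zero_eq_one]

theorem sum_zc_mul (b : ZMod p) : ∑ a : ZMod p, zc p (a * b) = if b = 0 then (p : ℂ) else 0 := by
  have h := AddChar.sum_mulShift (ψ := zc p) b (AddChar.zmodChar_primitive_of_primitive_root p
    (isPrimitiveRoot_zeta (Fact.out : p.Prime).ne_zero))
  rw [h, ZMod.card]
  split_ifs <;> simp

theorem sum_zmod_split {A : Type*} [AddCommMonoid A] (F : ZMod p → A) :
    ∑ a : ZMod p, F a = F 0 + ∑ a : (ZMod p)ˣ, F a := by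
  rw [← Finset.add_sum_erase _ _ (Finset.mem_univ (0 : ZMod p))]
  congr 1
  rw [Finset.sum_subtype (Finset.univ.erase (0 : ZMod p)) (p := fun a => a ≠ 0) (by simp)]
  exact (Equiv.sum_comp (unitsEquivNeZero (G₀ := ZMod p)) fun a => F a.1).symm

/-- The section coefficient with the exponent read modulo `p`. -/
noncomputable def sec (p : ℕ) (x : G) (φ : IrrCharacter (regPart p x)) (χ : IrrCharacter G)
    (r : ZMod p) : ℂ :=
  secCoef p x (χ : G → ℂ) φ r.val

/-- The finite Fourier transform of the section coefficients. -/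
noncomputable def cc (p : ℕ) [Fact p.Prime] (x : G) (φ : IrrCharacter (regPart p x))
    (χ : IrrCharacter G) (j : ZMod p) : ℂ :=
  (p : ℂ)⁻¹ * ∑ r : ZMod p, sec p x φ χ r * zc p (-(r * j))

/-- The number of permutations of an element to another one. -/
theorem sum_mul_conj' (g h : G) :
    ∑ χ : IrrCharacter G, (χ : G → ℂ) g * conj ((χ : G → ℂ) h) =
      (Nat.card {u : G // u * g * u⁻¹ = h} : ℂ) := by
  rw [CfsgLib.Char.sum_mul_conj]
  split_ifs with hc
  · obtain ⟨u₀, hu₀⟩ := isConj_iff.1 hc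
    congr 1
    refine Nat.card_congr
      { toFun := fun c => ⟨u₀ * c, by
          have hcg : (c : G) * g = g * c := Subgroup.mem_centralizer_singleton_iff.1 c.2
          rw [mul_inv_rev, ← hu₀]
          calc u₀ * (c : G) * g * ((c : G)⁻¹ * u₀⁻¹)
              = u₀ * ((c : G) * g) * (c : G)⁻¹ * u₀⁻¹ := by group
            _ = u₀ * (g * (c : G)) * (c : G)⁻¹ * u₀⁻¹ := by rw [hcg]
            _ = u₀ * g * u₀⁻¹ := by group⟩
        invFun := fun u => ⟨u₀⁻¹ * u.1, Subgroup.mem_centralizer_singleton_iff.2 (by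
          have hu : u.1 * g * u.1⁻¹ = u₀ * g * u₀⁻¹ := u.2.trans hu₀.symm
          calc u₀⁻¹ * u.1 * g = u₀⁻¹ * (u.1 * g * u.1⁻¹) * u.1 := by group
            _ = u₀⁻¹ * (u₀ * g * u₀⁻¹) * u.1 := by rw [hu]
            _ = g * (u₀⁻¹ * u.1) := by group)⟩
        left_inv := fun c => Subtype.ext (inv_mul_cancel_left _ _)
        right_inv := fun u => Subtype.ext (mul_inv_cancel_left _ _) }
  · haveI : IsEmpty {u : G // u * g * u⁻¹ = h} :=
      ⟨fun u => hc (isConj_iff.2 ⟨u.1, u.2⟩)⟩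
    rw [Nat.card_of_isEmpty, Nat.cast_zero]

namespace HypOne

variable (h : HypOne p x)

include h

theorem secCoef_congr (f : G → ℂ) (φ : IrrCharacter (regPart p x)) {i j : ℕ}
    (hij : i % p = j % p) : secCoef p x f φ i = secCoef p x f φ j := by
  rw [secCoef, secCoef, h.pow_eq_pow_iff.2 hij]

theorem secCoef_eq_sec (χ : IrrCharacter G) (φ : IrrCharacter (regPart p x)) (i : ℕ) :
    secCoef p x (χ : G → ℂ) φ i = sec p x φ χ (i : ZMod p) :=
  h.secCoef_congr _ φ (by rw [ZMod.val_natCast, Nat.mod_mod])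

/-- The values on `x ^ i * V` in terms of the section coefficients. -/
theorem apply_pow_mul (χ : IrrCharacter G) (i : ℕ) (v : regPart p x) :
    (χ : G → ℂ) (x ^ i * (v : G)) = ∑ ψ : IrrCharacter (regPart p x),
      secCoef p x (χ : G → ℂ) ψ i * (ψ : regPart p x → ℂ) v := by
  haveI := Fintype.ofFinite (regPart p x)
  have hclass : IsClassFunction (regPart p x) fun w => (χ : G → ℂ) (x ^ i * (w : G)) := by
    intro w z
    show (χ : G → ℂ) (x ^ i * ((z * w * z⁻¹ : regPart p x) : G)) =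
      (χ : G → ℂ) (x ^ i * (w : G))
    rw [← CfsgLib.Char.IsIrrCharacter.isClassFunction χ.2 (x ^ i * (w : G)) (z : G)]
    refine congrArg _ ?_
    have hz := ((h.commute_regPart z).pow_right i).eq
    rw [Subgroup.coe_mul, Subgroup.coe_mul, InvMemClass.coe_inv]
    calc x ^ i * ((z : G) * w * (z : G)⁻¹) = x ^ i * (z : G) * ((w : G) * (z : G)⁻¹) := by group
      _ = (z : G) * x ^ i * ((w : G) * (z : G)⁻¹) := by rw [hz]
      _ = _ := by group
  have h1 := congrFun (CfsgLib.Char.IsClassFunction.eq_sum_classInner hclass) v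
  simp only [Finset.sum_apply, Pi.smul_apply, smul_eq_mul] at h1
  rw [h1]
  refine Finset.sum_congr rfl fun ψ _ => ?_
  rw [secCoef, classInner, finsum_eq_sum_of_fintype]

theorem exists_nat_cc (φ : IrrCharacter (regPart p x)) (χ : IrrCharacter G) (j : ZMod p) :
    ∃ n : ℕ, cc p x φ χ j = n := by
  haveI := Fintype.ofFinite (cent x)
  haveI := Fintype.ofFinite (regPart p x)
  obtain ⟨n, hn⟩ := CfsgLib.Char.IsCharacter.exists_nat_classInner
    (CfsgLib.Char.IsCharacter.restrict (CfsgLib.Char.IsIrrCharacter.isCharacter χ.2) (cent x))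
    (h.prodIrr j.val φ).2
  refine ⟨n, ?_⟩
  rw [← hn, classInner, ← h.centEquiv.sum_comp, Fintype.sum_prod_type, h.card_cent, Nat.cast_mul,
    mul_inv, cc, mul_assoc, Finset.mul_sum _ _ (Nat.card (regPart p x) : ℂ)⁻¹]
  congr 1
  refine Finset.sum_congr rfl fun r _ => ?_
  rw [sec, secCoef, finsum_eq_sum_of_fintype, Finset.mul_sum, Finset.sum_mul, Finset.mul_sum]
  refine Finset.sum_congr rfl fun v _ => ?_
  show _ = (Nat.card (regPart p x) : ℂ)⁻¹ * ((χ : G → ℂ) (x ^ r.val * (v : G)) *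
    conj ((h.prodIrr j.val φ : cent x → ℂ) (h.mkC r.val v)))
  rw [h.prodIrr_mkC, ← zc_natCast, Nat.cast_mul, ZMod.natCast_zmod_val, ZMod.natCast_zmod_val,
    map_mul, conj_zc, mul_comm j r]
  ring

/-- The integral column. -/
noncomputable def cn (φ : IrrCharacter (regPart p x)) (χ : IrrCharacter G) (j : ZMod p) : ℕ :=
  (h.exists_nat_cc φ χ j).choose

theorem cn_spec (φ : IrrCharacter (regPart p x)) (χ : IrrCharacter G) (j : ZMod p) :
    cc p x φ χ j = (h.cn φ χ j : ℂ) :=
  (h.exists_nat_cc φ χ j).choose_spec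

/-- The reduced column. -/
noncomputable def dd (φ : IrrCharacter (regPart p x)) (χ : IrrCharacter G) (j : (ZMod p)ˣ) : ℤ :=
  (h.cn φ χ j : ℤ) - (h.cn φ χ 0 : ℤ)

theorem dd_cast (φ : IrrCharacter (regPart p x)) (χ : IrrCharacter G) (j : (ZMod p)ˣ) :
    (h.dd φ χ j : ℂ) = (p : ℂ)⁻¹ *
      ∑ r : (ZMod p)ˣ, sec p x φ χ r * (zc p (-(r * j : ZMod p)) - 1) := by
  rw [dd, Int.cast_sub, Int.cast_natCast, Int.cast_natCast, ← h.cn_spec, ← h.cn_spec, cc, cc,
    ← mul_sub, ← Finset.sum_sub_distrib]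
  congr 1
  rw [sum_zmod_split]
  simp [mul_sub, AddChar.map_zero_eq_one]

theorem sec_eq_sum (φ : IrrCharacter (regPart p x)) (χ : IrrCharacter G) (r : (ZMod p)ˣ) :
    sec p x φ χ r = ∑ j : (ZMod p)ˣ, (h.dd φ χ j : ℂ) * zc p (r * j : ZMod p) := by
  have hp : (p : ℂ) ≠ 0 := Nat.cast_ne_zero.2 h.prime.ne_zero
  have hinv : ∑ j : ZMod p, cc p x φ χ j * zc p (r * j) = sec p x φ χ r := by
    simp only [cc, Finset.mul_sum, Finset.sum_mul]
    rw [Finset.sum_comm]
    rw [Finset.sum_eq_single (r : ZMod p)]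
    · simp only [mul_assoc, ← AddChar.map_add_eq_mul, neg_add_cancel, AddChar.map_zero_eq_one,
        mul_one]
      rw [Finset.sum_const, Finset.card_univ, ZMod.card, nsmul_eq_mul, ← mul_assoc,
        mul_inv_cancel₀ hp, one_mul]
    · intro s _ hs
      have h1 : ∀ j : ZMod p, (p : ℂ)⁻¹ * (sec p x φ χ s * zc p (-(s * j))) * zc p (r * j) =
          (p : ℂ)⁻¹ * sec p x φ χ s * zc p (j * ((r : ZMod p) - s)) := fun j => by
        rw [← mul_assoc, mul_assoc, ← AddChar.map_add_eq_mul]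
        congr 2
        ring
      rw [Finset.sum_congr rfl fun j _ => h1 j, ← Finset.mul_sum, sum_zc_mul,
        if_neg (sub_ne_zero.2 (Ne.symm hs)), mul_zero]
    · exact fun hr => absurd (Finset.mem_univ _) hr
  have hz : ∑ j : ZMod p, cc p x φ χ 0 * zc p (r * j) = 0 := by
    rw [← Finset.mul_sum]
    simp only [mul_comm (r : ZMod p)]
    rw [sum_zc_mul, if_neg r.ne_zero, mul_zero]
  rw [← hinv, ← sub_zero (∑ j : ZMod p, cc p x φ χ j * zc p (r * j)), ← hz,
    ← Finset.sum_sub_distrib, sum_zmod_split, sub_self, zero_add]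
  refine Finset.sum_congr rfl fun j _ => ?_
  rw [← sub_mul, dd, h.cn_spec, h.cn_spec]
  push_cast
  rfl

theorem sec_zero (φ : IrrCharacter (regPart p x)) (χ : IrrCharacter G) :
    sec p x φ χ 0 =
      (((p : ℤ) * h.cn φ χ 0 + ∑ j : (ZMod p)ˣ, h.dd φ χ j : ℤ) : ℂ) := by
  have hp : (p : ℂ) ≠ 0 := Nat.cast_ne_zero.2 h.prime.ne_zero
  have hinv : ∑ j : ZMod p, cc p x φ χ j = sec p x φ χ 0 := by
    simp only [cc, ← Finset.mul_sum]
    rw [Finset.sum_comm]
    simp only [← Finset.mul_sum]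
    have h1 : ∀ s : ZMod p, ∑ j : ZMod p, zc p (-(s * j)) = if s = 0 then (p : ℂ) else 0 := by
      intro s
      have h2 := sum_zc_mul (-s)
      simp only [neg_eq_zero] at h2
      rw [← h2]
      exact Finset.sum_congr rfl fun j _ => congrArg _ (by ring)
    simp only [h1, mul_ite, mul_zero, Finset.sum_ite_eq', Finset.mem_univ, if_true]
    rw [mul_comm (sec p x φ χ 0) (p : ℂ), ← mul_assoc, inv_mul_cancel₀ hp, one_mul]
  rw [← hinv, sum_zmod_split]
  simp only [h.cn_spec, dd]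
  push_cast
  rw [Finset.sum_sub_distrib, Finset.sum_const, Finset.card_univ, ZMod.card_units, nsmul_eq_mul,
    Nat.cast_sub h.prime.one_le]
  push_cast
  ring

theorem sum_sec_eq (φ : IrrCharacter (regPart p x)) (χ : IrrCharacter G) :
    ∑ r : (ZMod p)ˣ, sec p x φ χ r = -((∑ j : (ZMod p)ˣ, h.dd φ χ j : ℤ) : ℂ) := by
  simp only [h.sec_eq_sum]
  rw [Finset.sum_comm, Int.cast_sum, ← Finset.sum_neg_distrib]
  refine Finset.sum_congr rfl fun j _ => ?_
  have h1 := sum_zc_mul (p := p) (j : ZMod p)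
  rw [sum_zmod_split, zero_mul, AddChar.map_zero_eq_one, if_neg j.ne_zero,
    add_eq_zero_iff_eq_neg] at h1
  rw [← Finset.mul_sum, show ∑ r : (ZMod p)ˣ, zc p ((r : ZMod p) * j) = -1 by
    linear_combination h1, mul_neg_one]

theorem dd_eq_zero_iff (φ : IrrCharacter (regPart p x)) (χ : IrrCharacter G) :
    (∀ j, h.dd φ χ j = 0) ↔ ∀ r : (ZMod p)ˣ, sec p x φ χ r = 0 := by
  constructor
  · intro h0 r
    simp [h.sec_eq_sum, h0]
  · intro h0 j
    have := h.dd_cast φ χ j
    simp [h0] at this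
    exact this

/-- Orthogonality of the coefficients. -/
theorem sum_sec_mul_conj (φ : IrrCharacter (regPart p x)) (r r' : (ZMod p)ˣ) :
    ∑ χ : IrrCharacter G, sec p x φ χ r * conj (sec p x φ χ r') =
      if r' * r⁻¹ ∈ h.expGroup φ then (p : ℂ) else 0 := by
  haveI := Fintype.ofFinite (regPart p x)
  haveI := Fintype.ofFinite G
  set a := (r : ZMod p).val
  set b := (r' : ZMod p).val
  set C : ℂ := (Nat.card (regPart p x) : ℂ)
  have hC : C ≠ 0 := Nat.cast_ne_zero.2 Nat.card_pos.ne'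
  have hcond : ∀ (u : G) (v w : regPart p x),
      u * (x ^ a * (v : G)) * u⁻¹ = x ^ b * (w : G) ↔
        ∃ hu : u ∈ norm₁ x, kHom h ⟨u, hu⟩ * r = r' ∧ conjEquiv h hu v = w := by
    intro u v w
    constructor
    · intro he
      obtain ⟨hu, h1, h2⟩ := h.conj_singular (h.not_dvd_val r) he
      refine ⟨hu, Units.ext ?_, Subtype.ext h2⟩
      have h3 := h.conj_pow_val ⟨u, hu⟩ (r : ZMod p)
      rw [show ((⟨u, hu⟩ : norm₁ x) : G) = u from rfl, h1, h.pow_val_eq_iff] at h3
      rw [Units.val_mul]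
      exact h3.symm
    · rintro ⟨hu, h1, rfl⟩
      show u * (x ^ a * (v : G)) * u⁻¹ = x ^ b * (u * (v : G) * u⁻¹)
      have h3 := h.conj_pow_val ⟨u, hu⟩ (r : ZMod p)
      rw [← Units.val_mul, h1] at h3
      rw [show x ^ b = u * x ^ a * u⁻¹ from h3.symm]
      group
  -- the sum over the conjugating elements
  have hmain : ∑ χ : IrrCharacter G, sec p x φ χ r * conj (sec p x φ χ r') =
      C⁻¹ * C⁻¹ * ∑ u : G, ∑ v : regPart p x, ∑ w : regPart p x,
        if u * (x ^ a * (v : G)) * u⁻¹ = x ^ b * (w : G) then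
          conj ((φ : regPart p x → ℂ) v) * (φ : regPart p x → ℂ) w else 0 := by
    have h1 : ∀ v w : regPart p x, (∑ u : G, if u * (x ^ a * (v : G)) * u⁻¹ = x ^ b * (w : G) then
          conj ((φ : regPart p x → ℂ) v) * (φ : regPart p x → ℂ) w else 0) =
        conj ((φ : regPart p x → ℂ) v) * (φ : regPart p x → ℂ) w *
          ∑ χ : IrrCharacter G, (χ : G → ℂ) (x ^ a * (v : G)) *
            conj ((χ : G → ℂ) (x ^ b * (w : G))) := by
      intro v w
      rw [sum_mul_conj', ← Finset.sum_filter, Finset.sum_const, nsmul_eq_mul, mul_comm,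
        Nat.card_eq_fintype_card, Fintype.card_subtype]
    calc ∑ χ : IrrCharacter G, sec p x φ χ r * conj (sec p x φ χ r')
        = ∑ χ : IrrCharacter G, ∑ v : regPart p x, ∑ w : regPart p x, C⁻¹ * C⁻¹ *
            (conj ((φ : regPart p x → ℂ) v) * (φ : regPart p x → ℂ) w) *
              ((χ : G → ℂ) (x ^ a * (v : G)) * conj ((χ : G → ℂ) (x ^ b * (w : G)))) := by
          refine Finset.sum_congr rfl fun χ _ => ?_
          simp only [sec, secCoef, finsum_eq_sum_of_fintype, map_mul, map_sum, map_inv₀,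
            map_natCast, Complex.conj_conj, Finset.mul_sum, Finset.sum_mul]
          rw [Finset.sum_comm]
          refine Finset.sum_congr rfl fun v _ => Finset.sum_congr rfl fun w _ => ?_
          ring
      _ = ∑ v : regPart p x, ∑ w : regPart p x, C⁻¹ * C⁻¹ * ∑ u : G,
            (if u * (x ^ a * (v : G)) * u⁻¹ = x ^ b * (w : G) then
              conj ((φ : regPart p x → ℂ) v) * (φ : regPart p x → ℂ) w else 0) := by
          rw [Finset.sum_comm]
          refine Finset.sum_congr rfl fun v _ => ?_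
          rw [Finset.sum_comm]
          refine Finset.sum_congr rfl fun w _ => ?_
          rw [← Finset.mul_sum, h1, mul_assoc]
      _ = _ := by
          simp only [← Finset.mul_sum]
          congr 1
          exact (Finset.sum_congr rfl fun v _ => Finset.sum_comm).trans Finset.sum_comm
  -- each conjugating element
  have hu : ∀ u : G, (∑ v : regPart p x, ∑ w : regPart p x,
      if u * (x ^ a * (v : G)) * u⁻¹ = x ^ b * (w : G) then
          conj ((φ : regPart p x → ℂ) v) * (φ : regPart p x → ℂ) w else 0) =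
      if ∃ hu : u ∈ stab h φ, kHom h ⟨u, hu.1⟩ * r = r' then C else 0 := by
    intro u
    by_cases hn : ∃ hu : u ∈ norm₁ x, kHom h ⟨u, hu⟩ * r = r'
    · obtain ⟨hu, hk⟩ := hn
      have hiff : ∀ v w : regPart p x, (u * (x ^ a * (v : G)) * u⁻¹ = x ^ b * (w : G)) ↔
          conjEquiv h hu v = w := fun v w => by
        rw [hcond]
        exact ⟨fun ⟨_, _, e⟩ => e, fun e => ⟨hu, hk, e⟩⟩
      simp only [hiff, Finset.sum_ite_eq, Finset.mem_univ, if_true]
      have hin : ∑ v : regPart p x, conj ((φ : regPart p x → ℂ) v) *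
          (φ : regPart p x → ℂ) (conjEquiv h hu v) =
          C * classInner (conjChar h hu φ : regPart p x → ℂ) (φ : regPart p x → ℂ) := by
        rw [classInner, ← mul_assoc, mul_inv_cancel₀ hC, one_mul]
        exact Finset.sum_congr rfl fun v _ => mul_comm _ _
      rw [hin, CfsgLib.Char.classInner_irrCharacter]
      by_cases hs : conjChar h hu φ = φ
      · rw [if_pos hs, if_pos ⟨⟨hu, hs⟩, hk⟩, mul_one]
      · rw [if_neg hs, if_neg (fun ⟨hu', _⟩ => hs hu'.2), mul_zero]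
    · have hfalse : ∀ v w : regPart p x, ¬ (u * (x ^ a * (v : G)) * u⁻¹ = x ^ b * (w : G)) :=
        fun v w e => hn ⟨((hcond u v w).1 e).1, ((hcond u v w).1 e).2.1⟩
      simp only [hfalse, if_false, Finset.sum_const_zero]
      rw [if_neg (fun ⟨hu, hk⟩ => hn ⟨hu.1, hk⟩)]
  rw [hmain, Finset.sum_congr rfl fun u _ => hu u, ← Finset.sum_filter, Finset.sum_const,
    nsmul_eq_mul]
  split_ifs with hH
  · obtain ⟨n, hn, hkn⟩ := h.mem_expGroup_iff.1 hH
    have hcard : (Finset.univ.filter fun u : G =>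
        ∃ hu : u ∈ stab h φ, kHom h ⟨u, hu.1⟩ * r = r').card = Nat.card (cent x) := by
      rw [← Fintype.card_subtype, ← Nat.card_eq_fintype_card]
      refine Nat.card_congr
        { toFun := fun u => ⟨(n : G)⁻¹ * u.1, ?_⟩
          invFun := fun c => ⟨(n : G) * c.1, ?_⟩
          left_inv := fun u => Subtype.ext (mul_inv_cancel_left _ _)
          right_inv := fun c => Subtype.ext (inv_mul_cancel_left _ _) }
      · obtain ⟨hu, hk⟩ := u.2
        refine (kHom_eq_one_iff h (n⁻¹ * ⟨u.1, hu.1⟩)).1 ?_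
        rw [map_mul, map_inv, hkn, eq_mul_inv_iff_mul_eq.2 hk, inv_mul_cancel]
      · have hc : ((n : G) * c.1) ∈ stab h φ := mul_mem hn (cent_le_stab h φ c.2)
        refine ⟨hc, ?_⟩
        rw [show (⟨(n : G) * c.1, hc.1⟩ : norm₁ x) = n * ⟨c.1, cent_le_norm h c.2⟩ from rfl,
          map_mul, hkn, (kHom_eq_one_iff h _).2 c.2, mul_one, inv_mul_cancel_right]
    rw [hcard, h.card_cent, Nat.cast_mul]
    simp only [C] at hC ⊢
    field_simp
  · rw [Finset.filter_eq_empty_iff.2 (fun u _ ⟨hu, hk⟩ => hH (h.mem_expGroup_iff.2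
      ⟨⟨u, hu.1⟩, hu, eq_mul_inv_of_mul_eq hk⟩)), Finset.card_empty]
    simp

theorem sum_zc_units (b : ZMod p) :
    ∑ r : (ZMod p)ˣ, zc p ((r : ZMod p) * b) = (if b = 0 then (p : ℂ) else 0) - 1 := by
  rw [← sum_zc_mul, sum_zmod_split, zero_mul, AddChar.map_zero_eq_one]
  ring

/-- The Gram matrix of the columns. -/
theorem sum_dd_mul (φ : IrrCharacter (regPart p x)) (j j' : (ZMod p)ˣ) :
    ∑ χ : IrrCharacter G, h.dd φ χ j * h.dd φ χ j' =
      (if j * j'⁻¹ ∈ h.expGroup φ then (1 : ℤ) else 0) + (Nat.card (h.expGroup φ) : ℤ) := by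
  have hp : (p : ℂ) ≠ 0 := Nat.cast_ne_zero.2 h.prime.ne_zero
  refine Int.cast_injective (α := ℂ) ?_
  push_cast
  set H := h.expGroup φ
  have hreal : ∀ χ, (h.dd φ χ j' : ℂ) = conj (h.dd φ χ j' : ℂ) := fun χ =>
    (map_intCast (starRingEnd ℂ) _).symm
  have hexp : ∑ χ : IrrCharacter G, (h.dd φ χ j : ℂ) * (h.dd φ χ j' : ℂ) =
      (p : ℂ)⁻¹ * ∑ s ∈ Finset.univ.filter (fun s => s ∈ H), ∑ r : (ZMod p)ˣ,
        (zc p (-(r * j : ZMod p)) - 1) * (zc p (((s * r : (ZMod p)ˣ) : ZMod p) * j') - 1) := by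
    calc ∑ χ : IrrCharacter G, (h.dd φ χ j : ℂ) * (h.dd φ χ j' : ℂ)
        = ∑ χ : IrrCharacter G, ∑ r : (ZMod p)ˣ, ∑ r' : (ZMod p)ˣ, (p : ℂ)⁻¹ * (p : ℂ)⁻¹ *
            ((zc p (-(r * j : ZMod p)) - 1) * (zc p (r' * j' : ZMod p) - 1)) *
              (sec p x φ χ r * conj (sec p x φ χ r')) := by
          refine Finset.sum_congr rfl fun χ _ => ?_
          rw [hreal χ, h.dd_cast, h.dd_cast]
          simp only [map_mul, map_inv₀, map_natCast, map_sum, map_sub, map_one, conj_zc, neg_neg,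
            Finset.mul_sum, Finset.sum_mul]
          rw [Finset.sum_comm]
          refine Finset.sum_congr rfl fun r _ => Finset.sum_congr rfl fun r' _ => ?_
          ring
      _ = ∑ r : (ZMod p)ˣ, ∑ r' : (ZMod p)ˣ, (p : ℂ)⁻¹ *
            (if r' * r⁻¹ ∈ H then
              (zc p (-(r * j : ZMod p)) - 1) * (zc p (r' * j' : ZMod p) - 1) else 0) := by
          rw [Finset.sum_comm]
          refine Finset.sum_congr rfl fun r _ => ?_
          rw [Finset.sum_comm]
          refine Finset.sum_congr rfl fun r' _ => ?_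
          rw [← Finset.mul_sum, h.sum_sec_mul_conj]
          split_ifs <;> field_simp <;> ring
      _ = ∑ r : (ZMod p)ˣ, ∑ s : (ZMod p)ˣ, (p : ℂ)⁻¹ *
            (if s ∈ H then (zc p (-(r * j : ZMod p)) - 1) *
              (zc p (((s * r : (ZMod p)ˣ) : ZMod p) * j') - 1) else 0) :=
          Finset.sum_congr rfl fun r _ => (Fintype.sum_equiv (Equiv.mulRight r) _ _ fun s => by
            simp [mul_inv_cancel_right]).symm
      _ = _ := by
          rw [Finset.sum_comm, Finset.mul_sum, Finset.sum_filter]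
          refine Finset.sum_congr rfl fun s _ => ?_
          split_ifs <;> simp [Finset.mul_sum]
  rw [hexp]
  have hinner : ∀ s : (ZMod p)ˣ, ∑ r : (ZMod p)ˣ,
      (zc p (-(r * j : ZMod p)) - 1) * (zc p (((s * r : (ZMod p)ˣ) : ZMod p) * j') - 1) =
      (p : ℂ) * ((if s = j * j'⁻¹ then 1 else 0) + 1) := by
    intro s
    have h1 : ∀ r : (ZMod p)ˣ,
        (zc p (-(r * j : ZMod p)) - 1) * (zc p (((s * r : (ZMod p)ˣ) : ZMod p) * j') - 1) =
        zc p ((r : ZMod p) * ((s : ZMod p) * j' - j)) - zc p ((r : ZMod p) * (-(j : ZMod p))) -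
          zc p ((r : ZMod p) * ((s : ZMod p) * j')) + 1 := fun r => by
      rw [sub_mul, mul_sub, ← AddChar.map_add_eq_mul, mul_one, one_mul, Units.val_mul,
        mul_neg]
      rw [show -((r : ZMod p) * j) + (s : ZMod p) * r * j' = (r : ZMod p) * ((s : ZMod p) * j' - j)
        by ring, show (s : ZMod p) * (r : ZMod p) * j' = (r : ZMod p) * ((s : ZMod p) * j') by ring]
      ring
    rw [Finset.sum_congr rfl fun r _ => h1 r, Finset.sum_add_distrib, Finset.sum_sub_distrib,
      Finset.sum_sub_distrib, h.sum_zc_units, h.sum_zc_units, h.sum_zc_units, Finset.sum_const,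
      Finset.card_univ, ZMod.card_units, nsmul_eq_mul, if_neg (neg_ne_zero.2 j.ne_zero),
      if_neg (mul_ne_zero s.ne_zero j'.ne_zero), Nat.cast_sub h.prime.one_le]
    have hiff : (s : ZMod p) * j' - j = 0 ↔ s = j * j'⁻¹ := by
      rw [sub_eq_zero, ← Units.val_mul, ← Units.ext_iff, eq_mul_inv_iff_mul_eq]
    split_ifs with e1 e2 e2
    · push_cast; ring
    · exact absurd (hiff.1 e1) e2
    · exact absurd (hiff.2 e2) e1
    · push_cast; ring
  rw [Finset.sum_congr rfl fun s _ => hinner s, ← Finset.mul_sum, ← mul_assoc,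
    inv_mul_cancel₀ hp, one_mul, Finset.sum_add_distrib, Finset.sum_ite_eq', Finset.sum_const,
    nsmul_eq_mul, mul_one, Nat.card_eq_fintype_card, Fintype.card_subtype]
  simp

/-- Every column is orthogonal to the values at regular elements. -/
theorem sum_dd_mul_apply (φ : IrrCharacter (regPart p x)) (j : (ZMod p)ˣ) {g : G}
    (hg : ¬ p ∣ orderOf g) :
    ∑ χ : IrrCharacter G, (h.dd φ χ j : ℂ) * (χ : G → ℂ) g = 0 := by
  haveI := Fintype.ofFinite (regPart p x)
  have hz : ∀ r : (ZMod p)ˣ, ∑ χ : IrrCharacter G, sec p x φ χ r * conj ((χ : G → ℂ) g) = 0 := by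
    intro r
    simp only [sec, secCoef, finsum_eq_sum_of_fintype, Finset.mul_sum, Finset.sum_mul]
    rw [Finset.sum_comm]
    refine Finset.sum_eq_zero fun v _ => ?_
    rw [Finset.sum_congr rfl (g := fun χ : IrrCharacter G => (Nat.card (regPart p x) : ℂ)⁻¹ *
        conj ((φ : regPart p x → ℂ) v) *
          ((χ : G → ℂ) (x ^ (r : ZMod p).val * (v : G)) * conj ((χ : G → ℂ) g)))
      (fun χ _ => by ring), ← Finset.mul_sum, CfsgLib.Char.sum_mul_conj, if_neg, mul_zero]
    intro hc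
    obtain ⟨u, hu⟩ := isConj_iff.1 hc
    refine hg ?_
    rw [← hu, show orderOf (u * (x ^ (r : ZMod p).val * (v : G)) * u⁻¹) =
      orderOf (x ^ (r : ZMod p).val * (v : G)) from
        orderOf_injective (MulAut.conj u).toMonoidHom (MulAut.conj u).injective _]
    exact h.singular_pow_mul (h.not_dvd_val r) v
  have h1 : ∑ χ : IrrCharacter G, (h.dd φ χ j : ℂ) * conj ((χ : G → ℂ) g) = 0 := by
    simp only [h.dd_cast, Finset.mul_sum, Finset.sum_mul]
    rw [Finset.sum_comm]
    refine Finset.sum_eq_zero fun r _ => ?_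
    rw [Finset.sum_congr rfl (g := fun χ : IrrCharacter G => (p : ℂ)⁻¹ *
      (zc p (-(r * j : ZMod p)) - 1) * (sec p x φ χ r * conj ((χ : G → ℂ) g)))
      (fun χ _ => by ring), ← Finset.mul_sum, hz, mul_zero]
  simpa using congrArg conj h1

theorem sec_smul (u : PConjugate.exponents p G) (φ : IrrCharacter (regPart p x))
    (χ : IrrCharacter G) (r : ZMod p) :
    sec p x φ (u • χ) r = sec p x φ χ (r * ((u.1 : ZMod (Nat.card G)).val : ZMod p)) := by
  rw [sec, sec, secCoef, secCoef]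
  refine congrArg _ (finsum_congr fun v => ?_)
  rw [h.smul_singular, ← h.pow_val_cast ((r.val) * (u.1 : ZMod (Nat.card G)).val), Nat.cast_mul,
    ZMod.natCast_zmod_val]

theorem dd_smul (u : PConjugate.exponents p G) {k : (ZMod p)ˣ}
    (hk : ((u.1 : ZMod (Nat.card G)).val : ZMod p) = k)
    (φ : IrrCharacter (regPart p x)) (χ : IrrCharacter G) (j : (ZMod p)ˣ) :
    h.dd φ (u • χ) j = h.dd φ χ (j * k⁻¹) := by
  refine Int.cast_injective (α := ℂ) ?_
  rw [h.dd_cast, h.dd_cast]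
  congr 1
  refine Fintype.sum_equiv (Equiv.mulRight k) _ _ fun r => ?_
  rw [h.sec_smul, hk, Equiv.coe_mulRight, Units.val_mul, Units.val_mul,
    show (r : ZMod p) * k * ((j : ZMod p) * ((k⁻¹ : (ZMod p)ˣ) : ZMod p)) =
      (r : ZMod p) * j * ((k : ZMod p) * ((k⁻¹ : (ZMod p)ˣ) : ZMod p)) by ring,
    Units.mul_inv, mul_one]

theorem exists_exponent_eq (k : (ZMod p)ˣ) :
    ∃ u : PConjugate.exponents p G, ((u.1 : ZMod (Nat.card G)).val : ZMod p) = k := by
  obtain ⟨u, hu⟩ := h.exists_exponent (h.not_dvd_val k)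
  refine ⟨u, ?_⟩
  rw [(ZMod.natCast_eq_natCast_iff _ _ _).2 hu, ZMod.natCast_zmod_val]

theorem exists_unit_of_exponent (u : PConjugate.exponents p G) :
    ∃ k : (ZMod p)ˣ, ((u.1 : ZMod (Nat.card G)).val : ZMod p) = k := by
  refine ⟨ZMod.unitOfCoprime _ (Nat.Coprime.of_dvd_right ?_
    (ZMod.val_coe_unit_coprime u.1)), (ZMod.coe_unitOfCoprime _ _).symm⟩
  exact h.orderOf_x ▸ orderOf_dvd_natCard x

theorem sec_conjChar (n : norm₁ x) (φ : IrrCharacter (regPart p x)) (χ : IrrCharacter G)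
    (r : ZMod p) :
    sec p x (conjChar h n.2 φ) χ r = sec p x φ χ ((kHom h n : ZMod p) * r) := by
  rw [sec, sec, secCoef, secCoef]
  congr 1
  refine finsum_eq_of_bijective (conjEquiv h n.2) (conjEquiv h n.2).bijective fun v => ?_
  show (χ : G → ℂ) (x ^ r.val * (v : G)) * conj ((φ : regPart p x → ℂ) (conjEquiv h n.2 v)) =
    (χ : G → ℂ) (x ^ ((kHom h n : ZMod p) * r).val * ((n : G) * v * (n : G)⁻¹)) * _
  congr 1
  rw [← h.conj_pow_val, ← CfsgLib.Char.IsIrrCharacter.isClassFunction χ.2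
    (x ^ r.val * (v : G)) (n : G)]
  congr 1
  group

theorem dd_conjChar (n : norm₁ x) (φ : IrrCharacter (regPart p x)) (χ : IrrCharacter G)
    (j : (ZMod p)ˣ) :
    h.dd (conjChar h n.2 φ) χ j = h.dd φ χ (j * (kHom h n)⁻¹) := by
  refine Int.cast_injective (α := ℂ) ?_
  rw [h.dd_cast, h.dd_cast]
  congr 1
  refine Fintype.sum_equiv (Equiv.mulLeft (kHom h n)) _ _ fun r => ?_
  rw [h.sec_conjChar, Equiv.coe_mulLeft, Units.val_mul, Units.val_mul,
    show (kHom h n : ZMod p) * r * ((j : ZMod p) * (((kHom h n)⁻¹ : (ZMod p)ˣ) : ZMod p)) =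
      (r : ZMod p) * j * ((kHom h n : ZMod p) * (((kHom h n)⁻¹ : (ZMod p)ˣ) : ZMod p)) by ring,
    Units.mul_inv, mul_one]

end HypOne

end CfsgLib.DefectOne
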