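import Cfsg.Agent.Lib.DefectOne.Structure
import Cfsg.Agent.Lib.Blocks.Osima
import Cfsg.Agent.Lib.Char.Linear

/-!
# Blocks with a defect group of prime order: consequences of the shape
-/

set_option autoImplicit false

namespace CfsgLib.DefectOne

open Cfsg
open scoped ComplexConjugate Classical

universe u

variable {G : Type u} [Group G] [Finite G] {p : ℕ} [Fact p.Prime] {x : G}

namespace HypOne

variable (h : HypOne p x)

include h

/-- The index of the centralizer in the normalizer is the orbit size times the stabilizer index. -/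
theorem relIndex_div (φ : IrrCharacter (regPart p x)) :
    (cent x).relIndex (norm₁ x) / Nat.card (h.expGroup φ) = (h.orbitN φ).card := by
  rw [← h.card_orbitN φ, Nat.mul_div_cancel _ Nat.card_pos]

theorem index_expGroup_eq (φ : IrrCharacter (regPart p x)) :
    (h.expGroup φ).index = (p - 1) / Nat.card (h.expGroup φ) := by
  rw [← h.card_mul_index_expGroup φ, Nat.mul_div_cancel_left _ Nat.card_pos]

theorem card_expGroup_dvd (φ : IrrCharacter (regPart p x)) :
    Nat.card (h.expGroup φ) ∣ p - 1 :=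
  Dvd.intro _ (h.card_mul_index_expGroup φ)

variable {φ : IrrCharacter (regPart p x)} {Y : Finset (IrrCharacter G)} {δ : ℤ}
  {m : IrrCharacter G → ℤ}

theorem Shape.card_bset (sh : h.Shape φ Y δ m) :
    (h.bset φ).card = Nat.card (h.expGroup φ) + (h.expGroup φ).index := by
  rw [← sh.card_X, ← sh.card_Y, Finset.card_sdiff_add_card_eq_card sh.subset]

theorem bset_nonempty (φ : IrrCharacter (regPart p x)) : (h.bset φ).Nonempty := by
  obtain ⟨Y, δ, m, sh⟩ := h.exists_shape φ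
  rw [← Finset.card_pos, Shape.card_bset h sh]
  exact Nat.add_pos_left Nat.card_pos _

theorem Shape.eq_on_regular (sh : h.Shape φ Y δ m) {θ θ' : IrrCharacter G} (hθ : θ ∈ Y)
    (hθ' : θ' ∈ Y) {g : G} (hg : ¬ p ∣ orderOf g) : (θ : G → ℂ) g = (θ' : G → ℂ) g := by
  obtain ⟨u, rfl⟩ := (sh.orbit θ hθ θ').1 hθ'
  exact (h.smul_regular u θ hg).symm

/-- The linear relation on regular elements. -/
theorem Shape.relation (sh : h.Shape φ Y δ m) {θ : IrrCharacter G} (hθ : θ ∈ Y) {g : G}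
    (hg : ¬ p ∣ orderOf g) :
    ∑ χ ∈ h.bset φ \ Y, (m χ : ℂ) * (χ : G → ℂ) g + (δ : ℂ) * (θ : G → ℂ) g = 0 := by
  have h0 := h.sum_dd_mul_apply φ 1 hg
  rw [← Finset.sum_subset (Finset.subset_univ (h.bset φ)) fun χ _ hχ => by
    rw [h.not_mem_bset_iff.1 hχ, Int.cast_zero, zero_mul], ← Finset.sum_sdiff sh.subset] at h0
  rw [← h0]
  congr 1
  · refine Finset.sum_congr rfl fun χ hχ => ?_
    rw [sh.dd_X χ hχ]
  · obtain ⟨θ₀, hθ₀, hv⟩ := sh.single
    rw [Finset.sum_eq_single θ₀ (fun ρ hρ hne => by rw [hv ρ hρ, if_neg hne, Int.cast_zero,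
      zero_mul]) (fun hn => absurd hθ₀ hn), hv θ₀ hθ₀, if_pos rfl,
      Shape.eq_on_regular h sh hθ hθ₀ hg]

theorem Shape.degree_X (sh : h.Shape φ Y δ m) {χ : IrrCharacter G} (hχ : χ ∈ h.bset φ \ Y) :
    (charDegree (χ : G → ℂ) : ℤ) ≡
      -m χ * (((h.orbitN φ).card * charDegree (φ : regPart p x → ℂ) : ℕ) : ℤ) [ZMOD p] := by
  refine (h.degree_modEq (Finset.mem_sdiff.1 hχ).1).trans ?_
  rw [Finset.sum_congr rfl fun j _ => sh.dd_X χ hχ j, Finset.sum_const, Finset.card_univ,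
    ZMod.card_units, nsmul_eq_mul, Int.modEq_iff_dvd, Nat.cast_sub h.prime.one_le]
  exact ⟨-((h.orbitN φ).card * charDegree (φ : regPart p x → ℂ) * m χ), by push_cast; ring⟩

theorem Shape.degree_Y (sh : h.Shape φ Y δ m) {θ : IrrCharacter G} (hθ : θ ∈ Y) :
    (charDegree (θ : G → ℂ) : ℤ) ≡
      δ * (((cent x).relIndex (norm₁ x) * charDegree (φ : regPart p x → ℂ) : ℕ) : ℤ) [ZMOD p] := by
  refine (h.degree_modEq (sh.subset hθ)).trans ?_
  rw [sh.sum_Y θ hθ, ← h.card_orbitN φ]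
  exact congrArg (fun a : ℤ => a % (p : ℤ)) (by push_cast; ring)

theorem Shape.sec_X (sh : h.Shape φ Y δ m) {χ : IrrCharacter G} (hχ : χ ∈ h.bset φ \ Y)
    (r : (ZMod p)ˣ) : sec p x φ χ r = -(m χ : ℂ) := by
  rw [h.sec_eq_sum, Finset.sum_congr rfl fun j _ => by rw [sh.dd_X χ hχ j], ← Finset.mul_sum,
    Finset.sum_congr rfl fun j _ => by rw [mul_comm (r : ZMod p) (j : ZMod p)], h.sum_zc_units,
    if_neg r.ne_zero]
  ring

/-- The block attached to `φ` is `bset φ`. -/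
theorem mem_bset_of_linked {M : Ideal AlgInt} (hM : IsPModular p M) {χ : IrrCharacter G}
    (hl : Linked M p x φ χ) : χ ∈ h.bset φ := by
  by_cases hd : p ∣ charDegree (χ : G → ℂ)
  · obtain ⟨χ₀, hχ₀⟩ := h.bset_nonempty φ
    have hs := h.sameBlock_of_linked hM hl (h.linked_of_mem_bset hM hχ₀)
    exact absurd ((h.eq_of_sameBlock_of_dvd hM hd hs).symm ▸ hd) (h.not_dvd_of_mem_bset hχ₀)
  · obtain ⟨ψ, hψ⟩ := h.exists_bset_of_not_dvd hd
    obtain ⟨n, hn, rfl⟩ := h.exists_conjChar_of_linked hM hl (h.linked_of_mem_bset hM hψ)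
    exact (h.mem_bset_conjChar_iff ⟨n, hn⟩).1 hψ

theorem blockOf_eq_bset {M : Ideal AlgInt} (hM : IsPModular p M) {χ : IrrCharacter G}
    (hχ : χ ∈ h.bset φ) : blockOf M (χ : G → ℂ) = ↑(h.bset φ) := by
  ext ψ
  exact ⟨fun hs => h.mem_bset_of_linked hM
      (h.linked_of_sameBlock hM (h.linked_of_mem_bset hM hχ) hs),
    fun hψ => h.sameBlock_of_linked hM (h.linked_of_mem_bset hM hχ)
      (h.linked_of_mem_bset hM (Finset.mem_coe.1 hψ))⟩

end HypOne

end CfsgLib.DefectOne
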