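import Cfsg.Agent.Lib.DefectOne.Principal
import Cfsg.Agent.Lib.Char.Ito
import Cfsg.Agent.Lib.Char.Complete

/-!
# Counting the characters of degree prime to `p`
-/

set_option autoImplicit false

namespace CfsgLib.DefectOne

open Cfsg
open scoped ComplexConjugate Classical

universe u

variable {G : Type u} [Group G] [Finite G] {p : ℕ} [Fact p.Prime] {x : G}

namespace HypOne

variable (h : HypOne p x)

include h

/-- The characters of degree prime to `p`, counted through the stabilizers. -/
theorem count_eq :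
    (cent x).relIndex (norm₁ x) *
        Nat.card {χ : IrrCharacter G // ¬ p ∣ charDegree (χ : G → ℂ)} =
      ∑ φ : IrrCharacter (regPart p x), Nat.card (h.expGroup φ) *
        (Nat.card (h.expGroup φ) + (p - 1) / Nat.card (h.expGroup φ)) := by
  set F := Finset.univ.filter fun χ : IrrCharacter G => ¬ p ∣ charDegree (χ : G → ℂ) with hF
  rw [Nat.card_eq_fintype_card (α := {χ : IrrCharacter G // _}), Fintype.card_subtype]
  show _ * F.card = _
  calc (cent x).relIndex (norm₁ x) * F.card
      = ∑ χ ∈ F, ∑ φ : IrrCharacter (regPart p x),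
          if χ ∈ h.bset φ then Nat.card (h.expGroup φ) else 0 := by
        rw [Finset.sum_congr rfl (g := fun _ => (cent x).relIndex (norm₁ x)) fun χ hχ => ?_,
          Finset.sum_const, smul_eq_mul, mul_comm]
        obtain ⟨φ₀, hφ₀⟩ := h.exists_bset_of_not_dvd (Finset.mem_filter.1 hχ).2
        rw [← Finset.sum_filter, Finset.sum_congr (s₂ := h.orbitN φ₀) ?_ fun φ _ => rfl,
          Finset.sum_congr rfl (g := fun _ => Nat.card (h.expGroup φ₀)) fun φ hφ => ?_,
          Finset.sum_const, smul_eq_mul, h.card_orbitN]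
        · refine Nat.eq_of_mul_eq_mul_left
            (Finset.card_pos.2 ⟨φ₀, h.mem_orbitN_self φ₀⟩) ?_
          rw [h.card_orbitN φ₀, ← h.orbitN_eq_of_mem hφ, h.card_orbitN φ]
        · ext φ
          rw [Finset.mem_filter]
          refine ⟨fun e => h.mem_orbitN_of_mem_bset hφ₀ e.2, fun e => ⟨Finset.mem_univ _, ?_⟩⟩
          rw [h.bset_eq_of_mem_orbitN e]
          exact hφ₀
    _ = ∑ φ : IrrCharacter (regPart p x), Nat.card (h.expGroup φ) * (h.bset φ).card := by
        rw [Finset.sum_comm]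
        refine Finset.sum_congr rfl fun φ _ => ?_
        rw [← Finset.sum_filter, Finset.sum_const, smul_eq_mul, mul_comm]
        congr 2
        ext χ
        simp only [hF, Finset.mem_filter, Finset.mem_univ, true_and]
        exact ⟨fun e => e.2, fun e => ⟨h.not_dvd_of_mem_bset e, e⟩⟩
    _ = _ := by
        refine Finset.sum_congr rfl fun φ _ => ?_
        obtain ⟨Y, δ, m, sh⟩ := h.exists_shape φ
        rw [Shape.card_bset h sh, h.index_expGroup_eq]

/-- The generator inside the normalizer. -/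
abbrev selfN : norm₁ x := ⟨x, cent_le_norm h self_mem_cent⟩

theorem hypOne_norm : HypOne p h.selfN :=
  ⟨h.prime, by rw [← Subgroup.orderOf_coe]; exact h.orderOf_x,
    fun hd => h.not_sq (hd.trans (Subgroup.card_subgroup_dvd_card _))⟩

theorem norm_norm : norm₁ h.selfN = ⊤ := by
  refine eq_top_iff.2 fun n _ => h.hypOne_norm.mem_norm_iff.2
    ⟨(kHom h n : ZMod p).val, h.not_dvd_val _, Subtype.ext ?_⟩
  rw [Subgroup.coe_mul, Subgroup.coe_mul, InvMemClass.coe_inv, SubmonoidClass.coe_pow]
  exact kHom_spec h n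

theorem mem_cent_norm_iff {n : norm₁ x} : n ∈ cent h.selfN ↔ (n : G) ∈ cent x := by
  rw [mem_cent_iff, mem_cent_iff]
  exact ⟨fun e => congrArg Subtype.val e, fun e => Subtype.ext e⟩

theorem mem_regPart_norm_iff {n : norm₁ x} :
    n ∈ regPart p h.selfN ↔ (n : G) ∈ regPart p x := by
  rw [h.hypOne_norm.mem_regPart_iff, h.mem_regPart_iff, h.mem_cent_norm_iff, Subgroup.orderOf_coe]

/-- The regular part computed in the normalizer. -/
def regPartEquiv : regPart p h.selfN ≃* regPart p x where
  toFun v := ⟨(v.1 : G), h.mem_regPart_norm_iff.1 v.2⟩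
  invFun w := ⟨⟨(w : G), cent_le_norm h (h.regPart_le w.2)⟩, h.mem_regPart_norm_iff.2 w.2⟩
  left_inv _ := rfl
  right_inv _ := rfl
  map_mul' _ _ := rfl

/-- Characters of the regular part computed in the normalizer. -/
noncomputable def regCharEquiv : IrrCharacter (regPart p x) ≃ IrrCharacter (regPart p h.selfN) where
  toFun φ := ⟨(φ : regPart p x → ℂ) ∘ h.regPartEquiv,
    CfsgLib.CharTwist.isIrrCharacter_comp_equiv φ.2 h.regPartEquiv⟩
  invFun ψ := ⟨(ψ : regPart p h.selfN → ℂ) ∘ h.regPartEquiv.symm,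
    CfsgLib.CharTwist.isIrrCharacter_comp_equiv ψ.2 h.regPartEquiv.symm⟩
  left_inv φ := Subtype.ext (funext fun v => congrArg _ (h.regPartEquiv.apply_symm_apply v))
  right_inv ψ := Subtype.ext (funext fun v => congrArg _ (h.regPartEquiv.symm_apply_apply v))

theorem expGroup_norm (φ : IrrCharacter (regPart p x)) :
    h.hypOne_norm.expGroup (h.regCharEquiv φ) = h.expGroup φ := by
  have hk : ∀ (n : norm₁ x) (hn : n ∈ norm₁ h.selfN),
      kHom h.hypOne_norm ⟨n, hn⟩ = kHom h n := by
    intro n hn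
    refine Units.ext (h.pow_val_eq_iff.1 ?_)
    have h1 := congrArg (fun z : norm₁ x => (z : G)) (kHom_spec h.hypOne_norm ⟨n, hn⟩)
    simp only [Subgroup.coe_mul, InvMemClass.coe_inv, SubmonoidClass.coe_pow] at h1
    exact h1.symm.trans (kHom_spec h n)
  have hstab : ∀ n : norm₁ x,
      n ∈ stab h.hypOne_norm (h.regCharEquiv φ) ↔ (n : G) ∈ stab h φ := by
    intro n
    constructor
    · rintro ⟨hn, he⟩
      exact ⟨n.2, Subtype.ext (funext fun v =>
        congrFun (congrArg Subtype.val he) (h.regPartEquiv.symm v))⟩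
    · rintro ⟨hn, he⟩
      refine ⟨by rw [h.norm_norm]; exact Subgroup.mem_top n, Subtype.ext (funext fun v => ?_)⟩
      exact congrFun (congrArg Subtype.val he) (h.regPartEquiv v)
  ext s
  rw [h.hypOne_norm.mem_expGroup_iff, h.mem_expGroup_iff]
  constructor
  · rintro ⟨⟨n, hn⟩, hns, hnk⟩
    exact ⟨n, (hstab n).1 hns, (hk n hn).symm.trans hnk⟩
  · rintro ⟨n, hns, hnk⟩
    exact ⟨⟨n, ((hstab n).2 hns).1⟩, (hstab n).2 hns, (hk n _).trans hnk⟩

theorem not_dvd_degree_norm (χ : IrrCharacter (norm₁ x)) :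
    ¬ p ∣ charDegree (χ : norm₁ x → ℂ) := by
  intro hd
  obtain ⟨n, ρ, hρ, hρχ⟩ := χ.2
  haveI := hρ
  have hdeg : charDegree (χ : norm₁ x → ℂ) = Module.finrank ℂ (Fin n → ℂ) := by
    have h1 := CharTools.irr_degree_cast χ
    conv_rhs at h1 => rw [← hρχ, Representation.char_one]
    exact_mod_cast h1
  haveI : (Subgroup.zpowers h.selfN).Normal := Subgroup.normalizer_eq_top_iff.1 h.norm_norm
  have h2 := CfsgLib.Char.finrank_dvd_index_of_abelian_normal ρ (Subgroup.zpowers h.selfN)
    fun a ha b hb => by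
      obtain ⟨i, rfl⟩ := Subgroup.mem_zpowers_iff.1 ha
      obtain ⟨j, rfl⟩ := Subgroup.mem_zpowers_iff.1 hb
      exact ((Commute.refl _).zpow_zpow i j).eq
  exact h.hypOne_norm.not_dvd_index_zpowers (hd.trans (hdeg ▸ h2))

/-- The number of characters of degree prime to `p` is the class number of the normalizer. -/
theorem card_not_dvd :
    Nat.card {χ : IrrCharacter G // ¬ p ∣ charDegree (χ : G → ℂ)} =
      Nat.card (ConjClasses (norm₁ x)) := by
  have h1 := h.count_eq
  have h2 := h.hypOne_norm.count_eq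
  have hall : Nat.card {χ : IrrCharacter (norm₁ x) // ¬ p ∣ charDegree (χ : norm₁ x → ℂ)} =
      Nat.card (ConjClasses (norm₁ x)) := by
    rw [← CfsgLib.Char.card_irrCharacter]
    exact Nat.card_congr (Equiv.subtypeUnivEquiv h.not_dvd_degree_norm)
  have hf : (cent h.selfN).relIndex (norm₁ h.selfN) = (cent x).relIndex (norm₁ x) := by
    rw [h.norm_norm, Subgroup.relIndex_top_right, Subgroup.relIndex]
    congr 1
    ext n
    rw [h.mem_cent_norm_iff, Subgroup.mem_subgroupOf]
  rw [hall, hf, ← h.regCharEquiv.sum_comp] at h2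
  simp only [h.expGroup_norm] at h2
  refine Nat.eq_of_mul_eq_mul_left ?_ (h1.trans h2.symm)
  rw [← h.card_expGroup_principal]
  exact Nat.card_pos

end HypOne

end CfsgLib.DefectOne
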