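import Cfsg.Agent.Lib.DefectOne.Column
import Cfsg.Agent.Lib.DefectOne.CloseEigen
import Cfsg.Agent.Lib.Blocks.Osima

/-!
# Few eigenvalues of a central element of a Sylow subgroup on the principal block
-/

set_option autoImplicit false

namespace CfsgLib.EigenCount

open Cfsg CfsgLib.Blocks CfsgLib.DefectOne
open scoped ComplexConjugate Classical

universe u

variable {G : Type u} [Group G] [Finite G] {p : ℕ} [Fact p.Prime]

theorem mem_of_memLocalIdeal {M : Ideal AlgInt} [M.IsMaximal] {z : ℂ} (hz : IsIntegral ℤ z)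
    (h : MemLocalIdeal M z) : (⟨z, hz⟩ : AlgInt) ∈ M :=
  (memLocalIdeal_algInt_iff (M := M) ⟨z, hz⟩).1 h

theorem dvd_of_intCast_mem {M : Ideal AlgInt} (hM : IsPModular p M) {l : ℤ}
    (h : (l : AlgInt) ∈ M) : (p : ℤ) ∣ l := by
  by_contra hn
  obtain ⟨u, v, huv⟩ := (Nat.prime_iff_prime_int.1 hM.1).irreducible.coprime_iff_not_dvd.2 hn
  refine hM.2.1.ne_top ((Ideal.eq_top_iff_one M).2 ?_)
  rw [show (1 : AlgInt) = (u : AlgInt) * (p : AlgInt) + (v : AlgInt) * (l : AlgInt) by
    exact_mod_cast huv.symm]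
  exact add_mem (M.mul_mem_left _ hM.2.2) (M.mul_mem_left _ h)

/-- An irreducible character of the principal block has at most `gcd (χ 1) (class size)` different
eigenvalues at an element of order `p` whose class size is prime to `p`. -/
theorem exists_eigen_exponents {M : Ideal AlgInt} (hM : IsPModular p M) {χ : IrrCharacter G}
    (hχ : χ ∈ principalBlock M G) {n : ℕ} (ρ : Representation ℂ G (Fin n → ℂ))
    (hρ : ρ.character = (χ : G → ℂ)) {x : G} (hx : orderOf x = p)
    (ht : ¬ p ∣ (Subgroup.centralizer ({x} : Set G)).index) :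
    ∃ (b : Module.Basis (Fin n) ℂ (Fin n → ℂ)) (e : Fin n → ZMod p),
      (∀ i, ρ x (b i) = zc p (e i) • b i) ∧
      (Finset.univ.image e).card ≤
        Nat.gcd (charDegree (χ : G → ℂ)) (Subgroup.centralizer ({x} : Set G)).index := by
  haveI := hM.2.1
  have hp : p.Prime := Fact.out
  set t := (Subgroup.centralizer ({x} : Set G)).index with ht'
  have hdeg : charDegree (χ : G → ℂ) = n := by
    have h1 := CharTools.irr_degree_cast χ
    rw [← hρ, Representation.char_one, Module.finrank_fin_fun] at h1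
    rw [← hρ]
    exact_mod_cast h1
  rw [hdeg]
  set d := Nat.gcd n t with hd
  have hn0 : 0 < n := hdeg ▸ CharTools.irr_degree_pos χ
  have hd0 : 0 < d := Nat.gcd_pos_of_pos_left _ hn0
  obtain ⟨u, hu⟩ : d ∣ t := Nat.gcd_dvd_right _ _
  obtain ⟨M0, hM0⟩ : d ∣ n := Nat.gcd_dvd_left _ _
  have hcop : Nat.Coprime M0 u := by
    have h1 := Nat.coprime_div_gcd_div_gcd (m := n) (n := t) hd0
    rwa [← hd, show n / d = M0 by rw [hM0, Nat.mul_div_cancel_left _ hd0],
      show t / d = u by rw [hu, Nat.mul_div_cancel_left _ hd0]] at h1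
  have hM00 : (M0 : ℂ) ≠ 0 := Nat.cast_ne_zero.2 fun h0 => by
    rw [h0, mul_zero] at hM0
    omega
  have hpu : ¬ p ∣ u := fun h => ht (h.trans (Dvd.intro_left _ hu.symm))
  -- the quotients `(χ (x ^ r) - n) / M0`
  have hβ : ∀ r : (ZMod p)ˣ, ∃ β : AlgInt, β ∈ M ∧
      (β : ℂ) * M0 = (χ : G → ℂ) (x ^ (r : ZMod p).val) - n := by
    intro r
    set g := x ^ (r : ZMod p).val
    have hcent : Subgroup.centralizer ({g} : Set G) = Subgroup.centralizer ({x} : Set G) := by
      ext c
      rw [Subgroup.mem_centralizer_singleton_iff, Subgroup.mem_centralizer_singleton_iff]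
      refine ⟨fun hc => ?_, fun hc => (Commute.pow_right (hc : Commute c x) _).eq⟩
      obtain ⟨j, -, hj⟩ := Nat.exists_mul_mod_eq_one_of_coprime
        ((hp.coprime_iff_not_dvd.2 fun hd' => r.ne_zero (by
          rw [← ZMod.natCast_zmod_val (r : ZMod p), ZMod.natCast_eq_zero_iff]; exact hd')).symm)
        hp.one_lt
      have h1 : g ^ j = x := by
        rw [← pow_mul]
        conv_rhs => rw [← pow_one x]
        rw [(isOfFinOrder_of_finite x).pow_eq_pow_iff_modEq, hx, Nat.ModEq, hj,
          Nat.one_mod_eq_one.2 hp.ne_one]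
      rw [← h1]
      exact (Commute.pow_right (hc : Commute c g) j).eq
    have hone : IsIntegral ℤ ((χ : G → ℂ) g - n) := by
      refine IsIntegral.sub ?_ (isIntegral_algebraMap (R := ℤ) (A := ℂ) (x := (n : ℤ)) |> fun h => by simpa using h)
      rw [← hρ]
      exact CfsgLib.Char.isIntegral_character ρ g
    have hω : IsIntegral ℤ ((u : ℂ) * (((χ : G → ℂ) g - n) / M0)) ∧
        MemLocalIdeal M ((u : ℂ) * (((χ : G → ℂ) g - n) / M0)) := by
      have h1 : centralChar (χ : G → ℂ) g -
          centralChar (CfsgLib.Char.principalIrr.1 : G → ℂ) g =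
            (u : ℂ) * (((χ : G → ℂ) g - n) / M0) := by
        have hd' : (d : ℂ) ≠ 0 := Nat.cast_ne_zero.2 hd0.ne'
        rw [centralChar, centralChar, CfsgLib.Char.principalIrr_apply,
          CfsgLib.Char.principalIrr_apply, mul_one, div_one, hcent, ← ht', hu,
          ← CharTools.irr_degree_cast χ, hdeg, hM0]
        push_cast
        field_simp
      refine ⟨h1 ▸ (centralChar_isIntegral χ g).sub (centralChar_isIntegral _ g), h1 ▸ ?_⟩
      exact (SameBlock.symm' (χ := CfsgLib.Char.principalIrr) hχ) g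
    obtain ⟨a, c, hac⟩ := Nat.Coprime.isCoprime hcop
    have hb : IsIntegral ℤ (((χ : G → ℂ) g - n) / M0) := by
      have h2 : ((χ : G → ℂ) g - n) / M0 =
          (a : ℂ) * ((χ : G → ℂ) g - n) + (c : ℂ) * ((u : ℂ) * (((χ : G → ℂ) g - n) / M0)) := by
        have h3 : (a : ℂ) * M0 + (c : ℂ) * u = 1 := by exact_mod_cast hac
        field_simp
        linear_combination (-((χ : G → ℂ) g - n)) * h3
      rw [h2]
      exact (((isIntegral_algebraMap (R := ℤ) (A := ℂ) (x := a)).mul hone).add
        ((isIntegral_algebraMap (R := ℤ) (A := ℂ) (x := c)).mul hω.1))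
    refine ⟨⟨_, hb⟩, ?_, div_mul_cancel₀ _ hM00⟩
    have hmul : (u : AlgInt) * ⟨_, hb⟩ ∈ M := by
      have h4 := mem_of_memLocalIdeal hω.1 hω.2
      exact h4
    refine (hM.2.1.isPrime.mem_or_mem hmul).resolve_left fun hu' => hpu ?_
    have := dvd_of_intCast_mem hM (l := (u : ℤ)) (by exact_mod_cast hu')
    exact Int.natCast_dvd_natCast.1 this
  choose β hβM hβ using hβ
  -- eigenvalues
  obtain ⟨b, μ, hμ, hb⟩ := CfsgLib.Char.exists_eigenbasis ρ x
  have hfin : Module.finrank ℂ (Fin n → ℂ) = n := Module.finrank_fin_fun ℂ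
  let b' := b.reindex (finCongr hfin)
  let μ' : Fin n → ℂ := fun i => μ ((finCongr hfin).symm i)
  have hb' : ∀ i, ρ x (b' i) = μ' i • b' i := fun i => by
    simp only [b', μ', Module.Basis.reindex_apply]
    exact hb _
  have hexp : ∀ i, ∃ e : ZMod p, zc p e = μ' i := fun i => by
    have h1 := hμ ((finCongr hfin).symm i)
    rw [hx] at h1
    obtain ⟨j, hj, hje⟩ := (isPrimitiveRoot_zeta hp.ne_zero).eq_pow_of_pow_eq_one h1
    exact ⟨(j : ZMod p), (zc_natCast j).trans hje⟩
  choose e he using hexp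
  refine ⟨b', e, fun i => by rw [he]; exact hb' i, ?_⟩
  have hval : ∀ r : ZMod p, (χ : G → ℂ) (x ^ r.val) = ∑ i, zc p (e i * r) := by
    intro r
    rw [← hρ, Representation.character, map_pow]
    refine (CfsgLib.Char.trace_eq_sum_of_eigenbasis _ b' (fun i => zc p (e i) ^ r.val) fun i => ?_).trans
      (Finset.sum_congr rfl fun i _ => ?_)
    · have hpow : ∀ k : ℕ, (ρ x ^ k) (b' i) = zc p (e i) ^ k • b' i := fun k => by
        induction k with
        | zero => simp
        | succ k ih =>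
          rw [pow_succ', Module.End.mul_apply, ih, map_smul, hb', ← he, smul_smul, pow_succ']
          rw [mul_comm]
      exact hpow _
    · rw [← AddChar.map_nsmul_eq_pow, nsmul_eq_mul, ZMod.natCast_zmod_val, mul_comm]
  set m : ZMod p → ℕ := fun j => (Finset.univ.filter fun i => e i = j).card
  have hmsum : ∑ j, m j = n := by
    have := Finset.card_eq_sum_card_fiberwise (s := (Finset.univ : Finset (Fin n))) (f := e)
      (t := Finset.univ) fun i _ => Finset.mem_univ _
    simpa [m] using this.symm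
  have hmdvd : ∀ j : ZMod p, j ≠ 0 → M0 ∣ m j := by
    intro j hj
    have hS : ∑ r : ZMod p, ((χ : G → ℂ) (x ^ r.val) - n) * zc p (-(r * j)) =
        (p : ℂ) * (m j : ℂ) := by
      simp only [sub_mul, Finset.sum_sub_distrib, hval, Finset.sum_mul, ← AddChar.map_add_eq_mul]
      rw [← Finset.mul_sum, Finset.sum_comm,
        Finset.sum_congr rfl (g := fun r : ZMod p => zc p (r * -j)) fun r _ => by rw [mul_neg],
        sum_zc_mul, if_neg (neg_ne_zero.2 hj), mul_zero, sub_zero,
        Finset.sum_congr rfl (g := fun i => if e i = j then (p : ℂ) else 0) fun i _ => ?_,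
        ← Finset.sum_filter, Finset.sum_const, nsmul_eq_mul, mul_comm]
      rw [Finset.sum_congr rfl (g := fun r : ZMod p => zc p (r * (e i - j))) fun r _ => by
        congr 1; ring, sum_zc_mul]
      exact if_congr sub_eq_zero rfl rfl
    set z : AlgInt := ∑ r : (ZMod p)ˣ, β r *
      ⟨zc p (-((r : ZMod p) * j)), IsIntegral.of_pow hp.pos (by
        rw [← AddChar.map_nsmul_eq_pow, nsmul_eq_mul, ZMod.natCast_self, zero_mul,
          AddChar.map_zero_eq_one]
        exact isIntegral_one)⟩
    have hz : z ∈ M := Ideal.sum_mem _ fun r _ => M.mul_mem_right _ (hβM r)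
    have hzv : (z : ℂ) * M0 = (p : ℂ) * (m j : ℂ) := by
      rw [← hS, sum_zmod_split]
      simp only [ZMod.val_zero, pow_zero, ← CharTools.irr_degree_cast χ, hdeg, sub_self, zero_mul,
        zero_add, z, AddSubmonoidClass.coe_finsetSum, MulMemClass.coe_mul, Finset.sum_mul]
      refine Finset.sum_congr rfl fun r _ => ?_
      rw [← hβ r]
      ring
    have hq : (z : ℂ) = ((((p : ℚ) * (m j : ℚ)) / M0 : ℚ) : ℂ) := by
      push_cast
      rw [eq_div_iff hM00]
      exact hzv
    have hzi : IsIntegral ℤ (z : ℂ) := z.2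
    rw [hq] at hzi
    obtain ⟨l, hl⟩ := IsIntegrallyClosed.isIntegral_iff.1
      ((isIntegral_algebraMap_iff (B := ℂ) (algebraMap ℚ ℂ).injective).1 hzi)
    have hzl : z = (l : AlgInt) := Subtype.ext (by
      rw [hq, ← hl]
      simp)
    obtain ⟨l', hl'⟩ := dvd_of_intCast_mem hM (hzl ▸ hz)
    refine Int.natCast_dvd_natCast.1 ⟨l', ?_⟩
    have h5 : (l : ℂ) * M0 = (p : ℂ) * (m j : ℂ) := by
      rw [← hzv, hzl]
      simp
    have h6 : l * (M0 : ℤ) = (p : ℤ) * (m j : ℤ) := by exact_mod_cast h5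
    rw [hl', mul_assoc] at h6
    have h7 := mul_left_cancel₀ (Int.natCast_ne_zero.2 hp.ne_zero) h6
    rw [← h7]; ring
  have hdvd : ∀ j, M0 ∣ m j := by
    intro j
    by_cases hj : j = 0
    · subst hj
      rw [← Finset.add_sum_erase _ _ (Finset.mem_univ (0 : ZMod p))] at hmsum
      refine (Nat.dvd_add_left (b := m 0) (Finset.dvd_sum (s := (Finset.univ : Finset (ZMod p)).erase 0) fun j hj => hmdvd j (Finset.mem_erase.1 hj).1)).1 ?_
      rw [hmsum, hM0]
      exact dvd_mul_left _ _
    · exact hmdvd j hj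
  have hle : (Finset.univ.image e).card * M0 ≤ n := by
    refine le_of_le_of_eq ?_ hmsum
    refine le_trans ?_ (Finset.sum_le_sum_of_subset (Finset.subset_univ (Finset.univ.image e)))
    rw [← smul_eq_mul, ← Finset.sum_const]
    refine Finset.sum_le_sum fun j hj => Nat.le_of_dvd (Finset.card_pos.2 ?_) (hdvd j)
    obtain ⟨i, -, hi⟩ := Finset.mem_image.1 hj
    exact ⟨i, Finset.mem_filter.2 ⟨Finset.mem_univ _, hi⟩⟩
  exact Nat.le_of_mul_le_mul_right (hle.trans_eq hM0) (Nat.pos_of_ne_zero fun h0 => by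
    rw [h0, mul_zero] at hM0; omega)

end CfsgLib.EigenCount
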