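import Cfsg.Agent.Lib.DefectOne.Action
import Cfsg.Agent.Lib.DefectOne.Cent

/-!
# Exponents of the normalizer and of the stabilizers
-/

set_option autoImplicit false

namespace CfsgLib.DefectOne

open Cfsg
open scoped Classical

universe u

variable {G : Type u} [Group G] [Finite G] {p : ℕ} [Fact p.Prime] {x : G}

/-- The exponent of a normalizing element. -/
noncomputable def kHom (h : HypOne p x) : norm₁ x →* (ZMod p)ˣ := h.exists_expHom.choose

theorem kHom_spec (h : HypOne p x) (n : norm₁ x) :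
    (n : G) * x * (n : G)⁻¹ = x ^ ((kHom h n : ZMod p)).val :=
  h.exists_expHom.choose_spec.1 n

theorem kHom_eq_one_iff (h : HypOne p x) (n : norm₁ x) : kHom h n = 1 ↔ (n : G) ∈ cent x :=
  h.exists_expHom.choose_spec.2 n

namespace HypOne

variable (h : HypOne p x)

include h

theorem pow_val_eq_iff {a b : ZMod p} : x ^ a.val = x ^ b.val ↔ a = b := by
  rw [h.pow_eq_pow_iff, Nat.mod_eq_of_lt (ZMod.val_lt a), Nat.mod_eq_of_lt (ZMod.val_lt b)]
  exact ⟨fun e => ZMod.val_injective p e, fun e => e ▸ rfl⟩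

theorem pow_val_cast (a : ℕ) : x ^ ((a : ZMod p)).val = x ^ a := by
  rw [h.pow_eq_pow_iff, ZMod.val_natCast, Nat.mod_mod]

theorem pow_val_mul (a b : ZMod p) : (x ^ a.val) ^ b.val = x ^ (a * b).val := by
  rw [← pow_mul, h.pow_eq_pow_iff, ZMod.val_mul, Nat.mod_mod]

theorem not_dvd_val (a : (ZMod p)ˣ) : ¬ p ∣ (a : ZMod p).val := fun hd => by
  refine a.ne_zero ?_
  rw [← ZMod.natCast_zmod_val (a : ZMod p), ZMod.natCast_eq_zero_iff]
  exact hd

theorem conj_pow_val (n : norm₁ x) (a : ZMod p) :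
    (n : G) * x ^ a.val * (n : G)⁻¹ = x ^ ((kHom h n : ZMod p) * a).val := by
  rw [← conj_pow, kHom_spec h n, h.pow_val_mul]

/-- The centralizer as pairs of an exponent and a regular element. -/
noncomputable def centEquiv : ZMod p × regPart p x ≃ cent x where
  toFun a := h.mkC a.1.val a.2
  invFun c := ((h.expOf c : ZMod p), h.regOf c)
  left_inv a := by
    obtain ⟨h1, h2⟩ := h.expOf_eq (c := h.mkC a.1.val a.2) (i := a.1.val) (v := a.2) rfl
    refine Prod.ext ?_ h2
    show ((h.expOf _ : ℕ) : ZMod p) = a.1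
    have h3 := congrArg (fun n : ℕ => (n : ZMod p)) h1
    simpa using h3
  right_inv c := Subtype.ext (by
    show x ^ ((h.expOf c : ZMod p)).val * (h.regOf c : G) = c
    rw [h.pow_val_cast, h.expOf_spec])

theorem card_cent : Nat.card (cent x) = p * Nat.card (regPart p x) := by
  rw [← Nat.card_congr h.centEquiv, Nat.card_prod, Nat.card_zmod]

theorem conjChar_congr {m n : G} {hm : m ∈ norm₁ x} {hn : n ∈ norm₁ x} (e : m = n)
    (φ : IrrCharacter (regPart p x)) : conjChar h hm φ = conjChar h hn φ := by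
  subst e; rfl

theorem conjChar_mul {m n : G} (hm : m ∈ norm₁ x) (hn : n ∈ norm₁ x)
    (φ : IrrCharacter (regPart p x)) :
    conjChar h (mul_mem hm hn) φ = conjChar h hn (conjChar h hm φ) := by
  refine Subtype.ext (funext fun v => ?_)
  rw [conjChar_apply, conjChar_apply, conjChar_apply]
  refine congrArg _ (Subtype.ext ?_)
  show m * n * (v : G) * (m * n)⁻¹ = m * (n * (v : G) * n⁻¹) * m⁻¹
  group

theorem conjChar_one (φ : IrrCharacter (regPart p x)) : conjChar h (one_mem _) φ = φ :=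
  Subtype.ext (funext fun v => by simp [conjChar_apply])

theorem stab_le_norm (φ : IrrCharacter (regPart p x)) : stab h φ ≤ norm₁ x := fun _ hg => hg.1

/-- The exponents of the stabilizer of `φ`. -/
noncomputable def expGroup (φ : IrrCharacter (regPart p x)) : Subgroup (ZMod p)ˣ :=
  ((stab h φ).subgroupOf (norm₁ x)).map (kHom h)

theorem mem_expGroup_iff {φ : IrrCharacter (regPart p x)} {s : (ZMod p)ˣ} :
    s ∈ h.expGroup φ ↔ ∃ n : norm₁ x, (n : G) ∈ stab h φ ∧ kHom h n = s := by
  simp [expGroup, Subgroup.mem_map, Subgroup.mem_subgroupOf]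

theorem card_expGroup (φ : IrrCharacter (regPart p x)) :
    Nat.card (h.expGroup φ) = (cent x).relIndex (stab h φ) := by
  set f := (kHom h).comp (Subgroup.inclusion (h.stab_le_norm φ))
  have hr : f.range = h.expGroup φ := by
    ext s
    rw [MonoidHom.mem_range, h.mem_expGroup_iff]
    constructor
    · rintro ⟨n, rfl⟩
      exact ⟨Subgroup.inclusion (h.stab_le_norm φ) n, n.2, rfl⟩
    · rintro ⟨n, hn, rfl⟩
      exact ⟨⟨n, hn⟩, rfl⟩
  have hk : f.ker = (cent x).subgroupOf (stab h φ) := by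
    ext n
    rw [MonoidHom.mem_ker, Subgroup.mem_subgroupOf]
    exact kHom_eq_one_iff h _
  rw [← hr, ← Subgroup.index_ker, hk]
  rfl

theorem expGroup_eq_top_of_index_one {φ : IrrCharacter (regPart p x)}
    (ht : (h.expGroup φ).index = 1) (s : (ZMod p)ˣ) : s ∈ h.expGroup φ := by
  rw [Subgroup.index_eq_one.1 ht]
  exact Subgroup.mem_top s

theorem card_mul_index_expGroup (φ : IrrCharacter (regPart p x)) :
    Nat.card (h.expGroup φ) * (h.expGroup φ).index = p - 1 := by
  rw [Subgroup.card_mul_index, Nat.card_eq_fintype_card, ZMod.card_units]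

/-- The conjugates of `φ` under the normalizer. -/
noncomputable def orbitN (φ : IrrCharacter (regPart p x)) :
    Finset (IrrCharacter (regPart p x)) :=
  Finset.univ.filter fun ψ => ∃ (n : G) (hn : n ∈ norm₁ x), conjChar h hn φ = ψ

theorem mem_orbitN_iff {φ ψ : IrrCharacter (regPart p x)} :
    ψ ∈ h.orbitN φ ↔ ∃ (n : G) (hn : n ∈ norm₁ x), conjChar h hn φ = ψ := by
  simp [orbitN]

theorem mem_orbitN_self (φ : IrrCharacter (regPart p x)) : φ ∈ h.orbitN φ :=
  h.mem_orbitN_iff.2 ⟨1, one_mem _, h.conjChar_one φ⟩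

theorem orbitN_eq_of_mem {φ ψ : IrrCharacter (regPart p x)} (hψ : ψ ∈ h.orbitN φ) :
    h.orbitN ψ = h.orbitN φ := by
  obtain ⟨n, hn, rfl⟩ := h.mem_orbitN_iff.1 hψ
  ext ρ
  simp only [h.mem_orbitN_iff]
  constructor
  · rintro ⟨m, hm, rfl⟩
    exact ⟨n * m, mul_mem hn hm, h.conjChar_mul hn hm φ⟩
  · rintro ⟨m, hm, rfl⟩
    refine ⟨n⁻¹ * m, mul_mem (inv_mem hn) hm, ?_⟩
    rw [← h.conjChar_mul hn (mul_mem (inv_mem hn) hm) φ]
    exact h.conjChar_congr (mul_inv_cancel_left n m) φ

theorem card_orbitN_mul (φ : IrrCharacter (regPart p x)) :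
    (h.orbitN φ).card * Nat.card (stab h φ) = Nat.card (norm₁ x) := by
  haveI := Fintype.ofFinite (norm₁ x)
  rw [Nat.card_eq_fintype_card (α := norm₁ x), ← Finset.card_univ,
    Finset.card_eq_sum_card_fiberwise (f := fun n : norm₁ x => conjChar h n.2 φ)
      (t := h.orbitN φ) (fun n _ => h.mem_orbitN_iff.2 ⟨n, n.2, rfl⟩),
    Finset.sum_const_nat]
  intro ψ hψ
  obtain ⟨m, hm, rfl⟩ := h.mem_orbitN_iff.1 hψ
  rw [← Fintype.card_subtype, ← Nat.card_eq_fintype_card]
  refine Nat.card_congr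
    { toFun := fun n => ⟨(n.1 : G) * m⁻¹, mul_mem n.1.2 (inv_mem hm), by
        rw [h.conjChar_mul n.1.2 (inv_mem hm), n.2, ← h.conjChar_mul hm (inv_mem hm),
          h.conjChar_congr (mul_inv_cancel m) φ (hn := one_mem _), h.conjChar_one]⟩
      invFun := fun t => ⟨⟨(t : G) * m, mul_mem t.2.1 hm⟩, by
        show conjChar h (mul_mem t.2.1 hm) φ = _
        rw [h.conjChar_mul t.2.1 hm, t.2.2]⟩
      left_inv := fun n => Subtype.ext (Subtype.ext (by simp))
      right_inv := fun t => Subtype.ext (by simp) }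

theorem card_orbitN (φ : IrrCharacter (regPart p x)) :
    (h.orbitN φ).card * Nat.card (h.expGroup φ) = (cent x).relIndex (norm₁ x) := by
  have h1 := h.card_orbitN_mul φ
  have h2 : Nat.card (stab h φ) = Nat.card (cent x) * (cent x).relIndex (stab h φ) := by
    rw [Subgroup.relIndex, ← Nat.card_congr (Subgroup.subgroupOfEquivOfLe (cent_le_stab h φ)).toEquiv,
      Subgroup.card_mul_index]
  have h3 : Nat.card (norm₁ x) = Nat.card (cent x) * (cent x).relIndex (norm₁ x) := by
    rw [Subgroup.relIndex, ← Nat.card_congr (Subgroup.subgroupOfEquivOfLe (cent_le_norm h)).toEquiv,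
      Subgroup.card_mul_index]
  rw [h2, h3, ← h.card_expGroup φ, mul_left_comm] at h1
  exact Nat.eq_of_mul_eq_mul_left Nat.card_pos h1

end HypOne

end CfsgLib.DefectOne
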