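import Cfsg.Agent.Lib.Blocks.PPart
import Mathlib.GroupTheory.SchurZassenhaus
import Mathlib.Data.ZMod.Units
import Mathlib.GroupTheory.SpecificGroups.Cyclic
import Mathlib.FieldTheory.Finite.Basic

/-!
# The local structure at a prime dividing the group order exactly once
-/

set_option autoImplicit false

namespace CfsgLib.DefectOne

open Subgroup
open scoped Pointwise

universe u

variable {G : Type u} [Group G]

/-- `x` has order `p` and `p ^ 2` does not divide the group order. -/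
structure HypOne (p : ℕ) (x : G) : Prop where
  prime : p.Prime
  orderOf_x : orderOf x = p
  not_sq : ¬ p ^ 2 ∣ Nat.card G

/-- The centralizer of `x`. -/
abbrev cent (x : G) : Subgroup G := Subgroup.centralizer ({x} : Set G)

/-- The normalizer of the subgroup generated by `x`. -/
abbrev norm₁ (x : G) : Subgroup G := Subgroup.normalizer (Subgroup.zpowers x : Set G)

/-- The `p`-regular part of the centralizer of `x`. -/
def regPart (p : ℕ) (x : G) : Subgroup G :=
  Subgroup.closure {g : G | g ∈ cent x ∧ ¬ p ∣ orderOf g}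

variable {p : ℕ} {x : G}

theorem mem_cent_iff {g : G} : g ∈ cent x ↔ Commute g x :=
  Subgroup.mem_centralizer_singleton_iff

theorem self_mem_cent : x ∈ cent x := mem_cent_iff.2 (Commute.refl x)

theorem pow_mem_cent (i : ℕ) : x ^ i ∈ cent x := pow_mem self_mem_cent i

namespace HypOne

variable (h : HypOne p x)

include h

theorem pow_p : x ^ p = 1 := by rw [← h.orderOf_x, pow_orderOf_eq_one]

theorem ne_one : x ≠ 1 := fun h1 => h.prime.ne_one (by rw [← h.orderOf_x, h1, orderOf_one])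

theorem pow_eq_pow_iff {i j : ℕ} : x ^ i = x ^ j ↔ i % p = j % p := by
  have hfin : IsOfFinOrder x := by
    rw [← orderOf_pos_iff, h.orderOf_x]; exact h.prime.pos
  rw [hfin.pow_eq_pow_iff_modEq, h.orderOf_x]; rfl

theorem pow_eq_one_iff {i : ℕ} : x ^ i = 1 ↔ p ∣ i := by
  rw [← orderOf_dvd_iff_pow_eq_one, h.orderOf_x]

theorem mem_zpowers_iff_pow {g : G} : g ∈ Subgroup.zpowers x ↔ ∃ i < p, x ^ i = g := by
  classical
  have hfin : IsOfFinOrder x := by
    rw [← orderOf_pos_iff, h.orderOf_x]; exact h.prime.pos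
  rw [hfin.mem_zpowers_iff_mem_range_orderOf (y := g), h.orderOf_x]
  simp

theorem orderOf_pow {i : ℕ} (hi : ¬ p ∣ i) : orderOf (x ^ i) = p := by
  rw [orderOf_pow' x (by rintro rfl; exact hi (dvd_zero p)), h.orderOf_x,
    Nat.Coprime.gcd_eq_one ((h.prime.coprime_iff_not_dvd).2 hi), Nat.div_one]

theorem exists_pow_eq_self {i : ℕ} (hi : ¬ p ∣ i) : ∃ j, (x ^ i) ^ j = x := by
  obtain ⟨j, -, hj⟩ := Nat.exists_mul_mod_eq_one_of_coprime
    ((h.prime.coprime_iff_not_dvd.2 hi).symm) h.prime.one_lt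
  refine ⟨j, ?_⟩
  rw [← pow_mul]
  conv_rhs => rw [← pow_one x]
  exact h.pow_eq_pow_iff.2 (by rw [hj, Nat.one_mod_eq_one.2 h.prime.ne_one])

theorem commute_of_commute_pow {i : ℕ} (hi : ¬ p ∣ i) {g : G} (hg : Commute g (x ^ i)) :
    Commute g x := by
  obtain ⟨j, hj⟩ := h.exists_pow_eq_self hi
  rw [← hj]; exact hg.pow_right j

variable [Finite G]

theorem factorization_eq_one : (Nat.card G).factorization p = 1 := by
  have h1 : p ∣ Nat.card G := h.orderOf_x ▸ orderOf_dvd_natCard x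
  have h2 : 0 < (Nat.card G).factorization p :=
    h.prime.factorization_pos_of_dvd Nat.card_pos.ne' h1
  have h3 : (Nat.card G).factorization p < 2 := by
    by_contra h3
    exact h.not_sq ((pow_dvd_pow p (not_lt.1 h3)).trans (Nat.ordProj_dvd _ _))
  omega

theorem card_zpowers : Nat.card (Subgroup.zpowers x) = p := by
  rw [Nat.card_zpowers, h.orderOf_x]

theorem not_dvd_index_zpowers : ¬ p ∣ (Subgroup.zpowers x).index := by
  intro hdvd
  refine h.not_sq ?_
  rw [← Subgroup.card_mul_index (Subgroup.zpowers x), h.card_zpowers, sq]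
  exact mul_dvd_mul_left p hdvd

theorem exists_regPart : ∃ Q : Subgroup G, ∀ g : G, g ∈ Q ↔ g ∈ cent x ∧ ¬ p ∣ orderOf g := by
  haveI := Fact.mk h.prime
  have hle : Subgroup.zpowers x ≤ cent x := Subgroup.zpowers_le.2 self_mem_cent
  haveI hnormal : ((Subgroup.zpowers x).subgroupOf (cent x)).Normal := by
    refine ⟨fun n hn c => ?_⟩
    rw [Subgroup.mem_subgroupOf] at hn ⊢
    obtain ⟨i, -, hi⟩ := h.mem_zpowers_iff_pow.1 hn
    have hc : Commute (c : G) (n : G) := hi ▸ (mem_cent_iff.1 c.2).pow_right i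
    show (c : G) * n * (c : G)⁻¹ ∈ Subgroup.zpowers x
    rw [hc.eq, mul_inv_cancel_right]
    exact hn
  have hcard : Nat.card ((Subgroup.zpowers x).subgroupOf (cent x)) = p :=
    (Nat.card_congr (Subgroup.subgroupOfEquivOfLe hle).toEquiv).trans h.card_zpowers
  have hidx : ¬ p ∣ ((Subgroup.zpowers x).subgroupOf (cent x)).index := fun hd =>
    h.not_dvd_index_zpowers (hd.trans
      (Dvd.intro _ (Subgroup.relIndex_mul_index hle)))
  obtain ⟨Q, hQ⟩ := Subgroup.exists_right_complement'_of_coprime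
    (N := (Subgroup.zpowers x).subgroupOf (cent x))
    (by rw [hcard]; exact (h.prime.coprime_iff_not_dvd).2 hidx)
  have hQcard : ¬ p ∣ Nat.card Q := by rw [← hQ.symm.index_eq_card]; exact hidx
  refine ⟨Q.map (cent x).subtype, fun g => ⟨?_, ?_⟩⟩
  · rintro ⟨q, hq, rfl⟩
    refine ⟨q.2, fun hd => hQcard (hd.trans ?_)⟩
    rw [Subgroup.coe_subtype, Subgroup.orderOf_coe]
    exact Subgroup.orderOf_dvd_natCard Q hq
  · rintro ⟨hgc, hgo⟩
    obtain ⟨⟨⟨a, ha⟩, ⟨b, hb⟩⟩, hab⟩ := hQ.2 ⟨g, hgc⟩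
    simp only at hab
    refine ⟨⟨g, hgc⟩, ?_, rfl⟩
    obtain ⟨i, -, hi⟩ := h.mem_zpowers_iff_pow.1 (Subgroup.mem_subgroupOf.1 ha)
    have hcomm : Commute (a : G) (b : G) := hi ▸ ((mem_cent_iff.1 b.2).pow_right i).symm
    have hg : g ^ Nat.card Q = (a : G) ^ Nat.card Q := by
      rw [show g = (a : G) * (b : G) from (congrArg Subtype.val hab).symm, hcomm.mul_pow,
        show (b : G) ^ Nat.card Q = 1 from by
          rw [← Subgroup.coe_pow]
          exact congrArg (fun z : cent x => (z : G))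
            (congrArg Subtype.val (pow_card_eq_one' (x := (⟨b, hb⟩ : Q)))), mul_one]
    have h1 : (a : G) ^ (Nat.card Q * orderOf g) = 1 := by
      rw [pow_mul, ← hg, ← pow_mul, mul_comm, pow_mul, pow_orderOf_eq_one, one_pow]
    rw [← hi, ← pow_mul, h.pow_eq_one_iff] at h1
    have ha1 : a = 1 := Subtype.ext (by
      rw [← hi]
      refine h.pow_eq_one_iff.2 ?_
      rcases h.prime.dvd_mul.1 h1 with h2 | h2
      · exact h2
      · rcases h.prime.dvd_mul.1 h2 with h3 | h3
        · exact absurd h3 hQcard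
        · exact absurd h3 hgo)
    rw [← hab, ha1, one_mul]
    exact hb

theorem mem_regPart_iff {g : G} : g ∈ regPart p x ↔ g ∈ cent x ∧ ¬ p ∣ orderOf g := by
  obtain ⟨Q, hQ⟩ := h.exists_regPart
  have : regPart p x = Q := le_antisymm ((Subgroup.closure_le _).2 fun a ha => (hQ a).2 ha)
    (fun a ha => Subgroup.subset_closure ((hQ a).1 ha))
  rw [this]; exact hQ g

theorem regPart_le : regPart p x ≤ cent x := fun _ hg => (h.mem_regPart_iff.1 hg).1

theorem commute_regPart (v : regPart p x) : Commute (v : G) x :=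
  mem_cent_iff.1 (h.regPart_le v.2)

theorem not_dvd_card_regPart : ¬ p ∣ Nat.card (regPart p x) := fun hd => by
  haveI := Fact.mk h.prime
  obtain ⟨v, hv⟩ := exists_prime_orderOf_dvd_card' p hd
  refine (h.mem_regPart_iff.1 v.2).2 ?_
  rw [Subgroup.orderOf_coe, hv]

theorem isPPart_pow_mul (i : ℕ) (v : regPart p x) :
    Cfsg.IsPPart p (x ^ i * (v : G)) (x ^ i) := by
  refine ⟨v, rfl, (h.commute_regPart v).symm.pow_left i, ?_, (h.mem_regPart_iff.1 v.2).2⟩
  obtain ⟨k, -, hk⟩ := (Nat.dvd_prime_pow h.prime).1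
    (show orderOf (x ^ i) ∣ p ^ 1 by rw [pow_one, ← h.orderOf_x]; exact orderOf_pow_dvd i)
  exact ⟨k, hk⟩

theorem exists_decomp {c : G} (hc : c ∈ cent x) :
    ∃ i < p, ∃ v : regPart p x, x ^ i * (v : G) = c := by
  haveI := Fact.mk h.prime
  obtain ⟨y, hy⟩ := Blocks.exists_isPPart h.prime c
  obtain ⟨z, hyz, hcomm, ⟨k, hk⟩, hz⟩ := id hy
  have hyc : y ∈ cent x := Subgroup.zpowers_le.2 hc (Blocks.IsPPart.mem_zpowers h.prime hy)
  have hzc : z ∈ cent x := by
    have : z = y⁻¹ * c := by rw [← hyz, inv_mul_cancel_left]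
    rw [this]; exact mul_mem (inv_mem hyc) hc
  suffices hyP : y ∈ Subgroup.zpowers x by
    obtain ⟨i, hi, rfl⟩ := h.mem_zpowers_iff_pow.1 hyP
    exact ⟨i, hi, ⟨z, h.mem_regPart_iff.2 ⟨hzc, hz⟩⟩, hyz⟩
  have hQ : IsPGroup p (Subgroup.zpowers x ⊔ Subgroup.zpowers y : Subgroup G) := by
    refine IsPGroup.to_sup_of_normal_right' (IsPGroup.of_card (n := 1) (by
      rw [pow_one, h.card_zpowers])) (IsPGroup.of_card (n := k) (by rw [Nat.card_zpowers, hk])) ?_
    refine Subgroup.zpowers_le.2 (Subgroup.mem_normalizer_iff.2 fun g => ?_)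
    have hxy : Commute x y := (mem_cent_iff.1 hyc).symm
    constructor
    · intro hg
      obtain ⟨j, rfl⟩ := Subgroup.mem_zpowers_iff.1 hg
      rw [(hxy.zpow_right j).eq, mul_inv_cancel_right]
      exact Subgroup.zpow_mem _ (Subgroup.mem_zpowers y) j
    · intro hg
      obtain ⟨j, hj⟩ := Subgroup.mem_zpowers_iff.1 hg
      have : g = y ^ j := by
        rw [show g = x⁻¹ * (x * g * x⁻¹) * x by group, ← hj, mul_assoc,
          ← (hxy.zpow_right j).eq, inv_mul_cancel_left]
      rw [this]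
      exact Subgroup.zpow_mem _ (Subgroup.mem_zpowers y) j
  obtain ⟨m, hm⟩ := IsPGroup.iff_card.1 hQ
  have hm1 : m ≤ 1 := by
    by_contra hm1
    refine h.not_sq ?_
    have hd := Subgroup.card_subgroup_dvd_card (Subgroup.zpowers x ⊔ Subgroup.zpowers y)
    rw [hm] at hd
    exact (pow_dvd_pow p (by omega)).trans hd
  have heq : Subgroup.zpowers x = Subgroup.zpowers x ⊔ Subgroup.zpowers y := by
    refine Subgroup.eq_of_le_of_card_ge le_sup_left ?_
    rw [hm, h.card_zpowers]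
    calc p ^ m ≤ p ^ 1 := Nat.pow_le_pow_right h.prime.pos hm1
      _ = p := pow_one p
  rw [heq]
  exact Subgroup.mem_sup_right (Subgroup.mem_zpowers y)

theorem decomp_unique {i j : ℕ} {v w : regPart p x} (he : x ^ i * (v : G) = x ^ j * (w : G)) :
    i % p = j % p ∧ v = w := by
  have h1 : x ^ i = x ^ j :=
    Blocks.IsPPart.unique h.prime (h.isPPart_pow_mul i v) (he ▸ h.isPPart_pow_mul j w)
  rw [h1] at he
  exact ⟨h.pow_eq_pow_iff.1 h1, Subtype.ext (mul_left_cancel he)⟩

/-- Normalizing elements move `x` to a power. -/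
theorem mem_norm_iff {g : G} : g ∈ norm₁ x ↔ ∃ i, ¬ p ∣ i ∧ g * x * g⁻¹ = x ^ i := by
  constructor
  · intro hg
    obtain ⟨i, -, hi⟩ := h.mem_zpowers_iff_pow.1
      ((Subgroup.mem_normalizer_iff.1 hg x).1 (Subgroup.mem_zpowers x))
    refine ⟨i, fun hd => h.ne_one ?_, hi.symm⟩
    rw [h.pow_eq_one_iff.2 hd] at hi
    exact conj_eq_one_iff.1 hi.symm
  · rintro ⟨i, hi, hgi⟩
    obtain ⟨j, hj⟩ := h.exists_pow_eq_self hi
    refine Subgroup.mem_normalizer_iff.2 fun y => ⟨fun hy => ?_, fun hy => ?_⟩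
    · obtain ⟨m, -, rfl⟩ := h.mem_zpowers_iff_pow.1 hy
      rw [← conj_pow, hgi, ← pow_mul]
      exact pow_mem (Subgroup.mem_zpowers x) _
    · obtain ⟨m, -, hm⟩ := h.mem_zpowers_iff_pow.1 hy
      have h1 : g * x ^ j * g⁻¹ = x := by rw [← conj_pow, hgi, hj]
      have h2 : y = (x ^ j) ^ m := by
        have h3 : g * (x ^ j) ^ m * g⁻¹ = x ^ m := by rw [← conj_pow, h1]
        rw [hm] at h3
        exact (mul_left_cancel (mul_right_cancel h3)).symm
      rw [h2]
      exact pow_mem (pow_mem (Subgroup.mem_zpowers x) _) _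

/-- The exponent by which a normalizing element acts on `x`. -/
theorem exists_expHom : ∃ k : norm₁ x →* (ZMod p)ˣ,
    (∀ (n : norm₁ x), (n : G) * x * (n : G)⁻¹ = x ^ ((k n : ZMod p)).val) ∧
      ∀ n : norm₁ x, k n = 1 ↔ (n : G) ∈ cent x := by
  haveI := Fact.mk h.prime
  choose i hi hix using fun n : norm₁ x => h.mem_norm_iff.1 n.2
  have hu : ∀ n, IsUnit ((i n : ZMod p)) := fun n => by
    rw [isUnit_iff_ne_zero, Ne, ZMod.natCast_eq_zero_iff]
    exact hi n
  have hval : ∀ (a : ℕ), x ^ ((a : ZMod p)).val = x ^ a := fun a => by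
    rw [h.pow_eq_pow_iff, ZMod.val_natCast, Nat.mod_mod]
  have heq : ∀ a b : ℕ, x ^ a = x ^ b → (a : ZMod p) = (b : ZMod p) := fun a b hab => by
    rw [ZMod.natCast_eq_natCast_iff']
    exact h.pow_eq_pow_iff.1 hab
  let k : norm₁ x →* (ZMod p)ˣ :=
    { toFun := fun n => (hu n).unit
      map_one' := Units.ext (by
        show ((i 1 : ℕ) : ZMod p) = 1
        rw [← Nat.cast_one]
        exact heq _ _ (by rw [← hix]; simp))
      map_mul' := fun a b => Units.ext (by
        show ((i (a * b) : ℕ) : ZMod p) = (i a : ZMod p) * (i b : ZMod p)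
        rw [← Nat.cast_mul]
        refine heq _ _ ?_
        rw [← hix, pow_mul, ← hix a, conj_pow, ← hix b, Subgroup.coe_mul]
        group) }
  refine ⟨k, fun n => ?_, fun n => ?_⟩
  · show _ = x ^ ((i n : ZMod p)).val
    rw [hval, hix]
  · rw [Units.ext_iff, mem_cent_iff, Units.val_one]
    show ((i n : ℕ) : ZMod p) = 1 ↔ _
    constructor
    · intro h1
      have h2 := congrArg (fun z : ZMod p => x ^ z.val) h1
      simp only [hval, ZMod.val_one, pow_one] at h2
      rw [← hix, mul_inv_eq_iff_eq_mul] at h2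
      exact h2
    · intro h1
      rw [← Nat.cast_one]
      refine heq _ _ ?_
      rw [← hix, h1.eq, mul_inv_cancel_right, pow_one]

theorem regPart_conj {n : G} (hn : n ∈ norm₁ x) {v : G} (hv : v ∈ regPart p x) :
    n * v * n⁻¹ ∈ regPart p x := by
  obtain ⟨hvc, hvo⟩ := h.mem_regPart_iff.1 hv
  refine h.mem_regPart_iff.2 ⟨?_, ?_⟩
  · obtain ⟨i, hi, hix⟩ := h.mem_norm_iff.1 hn
    refine mem_cent_iff.2 (h.commute_of_commute_pow hi ?_)
    rw [← hix]
    exact SemiconjBy.conj_iff.2 (mem_cent_iff.1 hvc)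
  · rwa [show orderOf (n * v * n⁻¹) = orderOf v from
      (orderOf_injective (MulAut.conj n).toMonoidHom (MulAut.conj n).injective v)]

/-- Conjugation of the singular elements of the centralizer is controlled by the normalizer. -/
theorem conj_singular {i j : ℕ} (hi : ¬ p ∣ i) {v w : regPart p x} {g : G}
    (hg : g * (x ^ i * (v : G)) * g⁻¹ = x ^ j * (w : G)) :
    g ∈ norm₁ x ∧ g * x ^ i * g⁻¹ = x ^ j ∧ g * (v : G) * g⁻¹ = (w : G) := by
  have h1 : g * x ^ i * g⁻¹ = x ^ j := Blocks.IsPPart.unique h.prime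
    (Blocks.IsPPart.conj (h.isPPart_pow_mul i v) g) (hg ▸ h.isPPart_pow_mul j w)
  have h2 : g * (v : G) * g⁻¹ = (w : G) := by
    have h3 : g * (x ^ i * (v : G)) * g⁻¹ = (g * x ^ i * g⁻¹) * (g * (v : G) * g⁻¹) := by group
    rw [h3, h1] at hg
    exact mul_left_cancel hg
  refine ⟨?_, h1, h2⟩
  obtain ⟨m, hm⟩ := h.exists_pow_eq_self hi
  refine h.mem_norm_iff.2 ⟨j * m, fun hd => h.ne_one ?_, ?_⟩
  · have h4 : g * x * g⁻¹ = x ^ (j * m) := by
      rw [pow_mul, ← h1, conj_pow, hm]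
    rw [h.pow_eq_one_iff.2 hd] at h4
    exact conj_eq_one_iff.1 h4
  · rw [pow_mul, ← h1, conj_pow, hm]

/-- Fusion of the regular part is controlled by the normalizer. -/
theorem exists_norm_conj {v w : regPart p x} {g : G} (hg : g * (v : G) * g⁻¹ = (w : G)) :
    ∃ n ∈ norm₁ x, n * (v : G) * n⁻¹ = (w : G) := by
  haveI := Fact.mk h.prime
  set W := Subgroup.centralizer ({(w : G)} : Set G)
  have hx1 : x ∈ W := Subgroup.mem_centralizer_singleton_iff.2 (h.commute_regPart w).symm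
  have hx2 : g * x * g⁻¹ ∈ W := by
    refine Subgroup.mem_centralizer_singleton_iff.2 ?_
    rw [← hg]
    exact SemiconjBy.conj_iff.2 (h.commute_regPart v).symm
  have hsyl : ∀ y : W, orderOf (y : G) = p →
      Nat.card (Subgroup.zpowers y) = p ^ (Nat.card W).factorization p := by
    intro y hy
    rw [Nat.card_zpowers, ← Subgroup.orderOf_coe, hy]
    have h1 : (Nat.card W).factorization p ≤ 1 := by
      rw [← h.factorization_eq_one]
      exact (Nat.factorization_le_iff_dvd Nat.card_pos.ne' Nat.card_pos.ne').2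
        (Subgroup.card_subgroup_dvd_card W) p
    have h2 : 0 < (Nat.card W).factorization p :=
      h.prime.factorization_pos_of_dvd Nat.card_pos.ne'
        (hy ▸ (Subgroup.orderOf_coe y).symm ▸ orderOf_dvd_natCard y)
    rw [show (Nat.card W).factorization p = 1 by omega, pow_one]
  have ho : orderOf (g * x * g⁻¹) = p := by
    rw [show g * x * g⁻¹ = MulAut.conj g x from rfl]
    exact (orderOf_injective (MulAut.conj g).toMonoidHom (MulAut.conj g).injective x).trans
      h.orderOf_x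
  let P₁ : Sylow p W := Sylow.ofCard _ (hsyl ⟨x, hx1⟩ h.orderOf_x)
  let P₂ : Sylow p W := Sylow.ofCard _ (hsyl ⟨_, hx2⟩ ho)
  obtain ⟨c, hc⟩ := MulAction.exists_smul_eq W P₂ P₁
  have hmem : c * ⟨_, hx2⟩ * c⁻¹ ∈ (P₁ : Subgroup W) := by
    rw [← hc]
    show MulAut.conj c ⟨_, hx2⟩ ∈
      MulAut.conj c • ((P₂ : Subgroup W))
    exact Subgroup.smul_mem_pointwise_smul _ _ _ (Subgroup.mem_zpowers _)
  refine ⟨(c : G) * g, h.mem_norm_iff.2 ?_, ?_⟩
  · obtain ⟨z, hz⟩ := Subgroup.mem_zpowers_iff.1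
      (show c * ⟨_, hx2⟩ * c⁻¹ ∈ Subgroup.zpowers (⟨x, hx1⟩ : W) from hmem)
    have hmem' : ((c : G) * g) * x * ((c : G) * g)⁻¹ ∈ Subgroup.zpowers x := by
      refine ⟨z, ?_⟩
      have := congrArg Subtype.val hz
      simp only [SubgroupClass.coe_zpow, Subgroup.coe_mul, InvMemClass.coe_inv] at this
      show x ^ z = _
      rw [this]; group
    obtain ⟨i, -, hi⟩ := h.mem_zpowers_iff_pow.1 hmem'
    refine ⟨i, fun hd => h.ne_one ?_, hi.symm⟩
    rw [h.pow_eq_one_iff.2 hd] at hi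
    exact conj_eq_one_iff.1 hi.symm
  · have hcw : Commute (c : G) (w : G) := Subgroup.mem_centralizer_singleton_iff.1 c.2
    calc (c : G) * g * (v : G) * ((c : G) * g)⁻¹ = (c : G) * (g * (v : G) * g⁻¹) * (c : G)⁻¹ := by
          group
      _ = _ := by rw [hg, hcw.eq, mul_inv_cancel_right]

end HypOne

end CfsgLib.DefectOne
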