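import Cfsg.Agent.Lib.DefectOne.Principal

/-!
# The block induced from a block of the centralizer
-/

set_option autoImplicit false

namespace CfsgLib.DefectOne

open Cfsg
open scoped ComplexConjugate Classical

universe u

variable {G : Type u} [Group G] [Finite G] {p : ℕ} [Fact p.Prime] {x : G}

namespace HypOne

variable (h : HypOne p x)

include h

theorem eq_comp_projV_of_ker {θ : IrrCharacter (cent x)}
    (hker : ∀ c : cent x, (c : G) ∈ Subgroup.zpowers x →
      (θ : cent x → ℂ) c = (θ : cent x → ℂ) 1) (c : cent x) :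
    (θ : cent x → ℂ) c = (h.resV θ : regPart p x → ℂ) (h.projV c) := by
  have hspec := h.expOf_spec c
  set i := h.expOf c
  set v := h.regOf c
  have hpv : h.projV c = v := h.projV_eq hspec
  set z : cent x := ⟨x ^ i, pow_mem_cent i⟩
  have hz : z ∈ Subgroup.center (cent x) := by
    refine Subgroup.mem_center_iff.2 fun g => Subtype.ext ?_
    exact ((mem_cent_iff.1 g.2).pow_right i).eq
  have hc : c = h.inclV v * z := by
    refine Subtype.ext ?_
    rw [Subgroup.coe_mul, coe_inclV, show ((z : cent x) : G) = x ^ i from rfl,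
      ((h.commute_regPart v).pow_right i).eq, hspec]
  have h1 := CfsgLib.CharOver.apply_mul_central θ.2 hz (h.inclV v)
  rw [hker z (pow_mem (Subgroup.mem_zpowers x) i)] at h1
  rw [hpv, h.resV_apply, hc]
  exact mul_right_cancel₀ (CharTools.irr_apply_one_ne_zero θ) h1

/-- A block of the centralizer with the kernel containing `x` induces the block of its restriction. -/
theorem exists_bset_of_induced {K : Subgroup G} (hK : K = cent x) {M : Ideal AlgInt}
    (hM : IsPModular p M) {b : Set (IrrCharacter K)} {B : Set (IrrCharacter G)}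
    (hind : IsInducedBlock M K b B) {θ : IrrCharacter K} (hθ : θ ∈ b)
    (hker : ∀ c : K, (c : G) ∈ Subgroup.zpowers x → (θ : K → ℂ) c = (θ : K → ℂ) 1) :
    ∃ φ : IrrCharacter (regPart p x), B = ↑(h.bset φ) ∧
      charDegree (θ : K → ℂ) = charDegree (φ : regPart p x → ℂ) ∧
      ∀ g : G, g ∈ norm₁ x → (g ∈ stab h φ ↔
        ∀ c c' : K, (c' : G) = g * c * g⁻¹ → (θ : K → ℂ) c' = (θ : K → ℂ) c) := by
  subst hK
  haveI := hM.2.1
  refine ⟨h.resV θ, ?_, ?_, fun g hg => ⟨?_, ?_⟩⟩
  · obtain ⟨χ, hχ⟩ := CfsgLib.Blocks.IsPBlock.nonempty hind.2.1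
    rw [CfsgLib.Blocks.IsPBlock.eq_blockOf hind.2.1 hχ]
    refine h.blockOf_eq_bset hM (h.mem_bset_of_linked hM fun g hg => ?_)
    have h1 := hind.2.2 θ hθ χ hχ g
    rwa [h.inducedCentralChar_eq_indV θ hg] at h1
  · have h1 : (h.resV θ : regPart p x → ℂ) 1 = (θ : cent x → ℂ) 1 := by
      rw [h.resV_apply, map_one]
    rw [← CharTools.irr_degree_cast, ← CharTools.irr_degree_cast] at h1
    exact_mod_cast h1.symm
  · rintro ⟨hg', he⟩ c c' hc'
    rw [h.eq_comp_projV_of_ker hker c, h.eq_comp_projV_of_ker hker c']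
    have hp : h.projV c' = conjEquiv h hg' (h.projV c) := by
      refine h.projV_eq (i := ((kHom h ⟨g, hg'⟩ : ZMod p) * (h.expOf c : ZMod p)).val) ?_
      rw [hc', h.projV_eq (h.expOf_spec c), ← h.conj_pow_val, h.pow_val_cast]
      show g * x ^ h.expOf c * g⁻¹ * (g * (h.regOf c : G) * g⁻¹) = g * (c : G) * g⁻¹
      rw [← h.expOf_spec c]
      group
    rw [hp]
    exact congrFun (congrArg Subtype.val he) (h.projV c)
  · intro hall
    refine ⟨hg, Subtype.ext (funext fun v => ?_)⟩
    exact hall (h.inclV v) (h.inclV (conjEquiv h hg v)) rfl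

end HypOne

end CfsgLib.DefectOne
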