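import Cfsg.Agent.Lib.DefectOne.PairDim
import Mathlib.LinearAlgebra.Dimension.Localization

/-!
# Sums over a section of an indecomposable lattice

For a lattice with local endomorphism ring the sum of the section coefficients at a character of the
regular part is `0` or `± (p - 1)`.
-/

set_option autoImplicit false

namespace CfsgLib.DefectOne

open Cfsg
open scoped ComplexConjugate

universe u

variable {G : Type u} [Group G]

/-- The coefficient of `φ` in the function `v ↦ f (x ^ i * v)` on the regular part. -/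
noncomputable def secCoef (p : ℕ) (x : G) (f : G → ℂ) (φ : IrrCharacter (regPart p x)) (i : ℕ) :
    ℂ :=
  (Nat.card (regPart p x) : ℂ)⁻¹ *
    ∑ᶠ v : regPart p x, f (x ^ i * (v : G)) * conj ((φ : regPart p x → ℂ) v)

variable {p : ℕ} [Fact p.Prime] [Finite G] {x : G} (hx : HypOne p x)
variable {n : Type} [Fintype n] [DecidableEq n] (ρ : G →* Matrix n n (WR p))

attribute [local irreducible] redEnd

include hx

theorem rho_pow_p : ρ x ^ p = 1 := by rw [← map_pow, hx.pow_p, map_one]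

omit hx in
theorem geom_rho : geom p (ρ x) = ∑ i ∈ Finset.range p, ρ (x ^ i) := by simp [geom, map_pow]

theorem exists_conj_pow {g : G} (hg : g ∈ norm₁ x) :
    ∃ k, ¬ p ∣ k ∧ ∀ j, ρ g * ρ x ^ j = ρ x ^ (k * j) * ρ g := by
  obtain ⟨k, hk, hkx⟩ := hx.mem_norm_iff.1 hg
  refine ⟨k, hk, fun j => ?_⟩
  rw [← map_pow, ← map_pow, ← map_mul, ← map_mul, pow_mul, ← hkx, conj_pow, inv_mul_cancel_right]

theorem commute_geom_norm {g : G} (hg : g ∈ norm₁ x) : Commute (ρ g) (geom p (ρ x)) := by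
  obtain ⟨k, hk, hkx⟩ := exists_conj_pow hx ρ hg
  show ρ g * geom p (ρ x) = geom p (ρ x) * ρ g
  rw [geom, Finset.mul_sum, Finset.sum_mul]
  simp only [hkx]
  have hmod : ∀ i, ρ x ^ (k * i) = ρ x ^ ((k * i) % p) := fun i => by
    rw [← map_pow, ← map_pow]
    exact congrArg ρ (hx.pow_eq_pow_iff.2 (Nat.mod_mod _ _).symm)
  simp only [hmod]
  have hp := hx.prime
  refine Finset.sum_bij (fun i _ => (k * i) % p) (fun i _ => Finset.mem_range.2 (Nat.mod_lt _ hp.pos))
    (fun a ha b hb hab => ?_) (fun b hb => ?_) (fun i _ => rfl)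
  · have h1 : a ≡ b [MOD p] := Nat.ModEq.cancel_left_of_coprime
      ((hp.coprime_iff_not_dvd.2 hk)) hab
    rwa [Nat.ModEq, Nat.mod_eq_of_lt (Finset.mem_range.1 ha),
      Nat.mod_eq_of_lt (Finset.mem_range.1 hb)] at h1
  · obtain ⟨m, -, hm⟩ := Nat.exists_mul_mod_eq_one_of_coprime
      ((hp.coprime_iff_not_dvd.2 hk).symm) hp.one_lt
    refine ⟨m * b % p, Finset.mem_range.2 (Nat.mod_lt _ hp.pos), ?_⟩
    show k * (m * b % p) % p = b
    rw [Nat.mul_mod, Nat.mod_mod, ← Nat.mul_mod, ← mul_assoc, Nat.mul_mod, hm, one_mul, Nat.mod_mod,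
      Nat.mod_eq_of_lt (Finset.mem_range.1 hb)]

theorem commute_idemMat_stab {φ : IrrCharacter (regPart p x)} {g : G} (hg : g ∈ stab hx φ) :
    Commute (ρ g) (idemMat hx ρ φ) := by
  obtain ⟨hg', h⟩ := hg
  have h1 := mul_idemMat hx ρ hg' φ
  rwa [h] at h1

variable (φ : IrrCharacter (regPart p x))

omit hx in
theorem mulVec_fixed {E X : Matrix n n (WR p)} {u : n → WR p} (hu : u ∈ fixed E X) (i : ℕ) :
    (X ^ i).mulVec u = u := by
  have h : (X - 1).mulVecLin u = 0 := hu.2
  have h' : X.mulVec u = u := by simpa [Matrix.sub_mulVec, sub_eq_zero] using h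
  induction i with
  | zero => simp
  | succ i ih => rw [pow_succ, ← Matrix.mulVec_mulVec, h', ih]

omit hx in
theorem redEnd_idem_of_mem {E : Matrix n n (WR p)} (hE : E * E = E) {u : n → WR p}
    (hu : u ∈ rangeE E) : redEnd E (red (res p) u) = red (res p) u := by
  rw [redEnd_red, (mem_rangeE hE).1 hu]

theorem rho_pow_mem_rangeE (j : ℕ) {u : n → WR p} (hu : u ∈ rangeE (idemMat hx ρ φ)) :
    (∑ i ∈ Finset.range j, ρ x ^ i).mulVec u ∈ rangeE (idemMat hx ρ φ) :=
  mulVec_mem_rangeE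
    (Commute.sum_left _ _ _ fun i _ => (commute_idemMat_self hx ρ φ).symm.pow_left i) hu

theorem pairHyp₀ : PairHyp hx ρ φ (B₀ (res p) p (idemMat hx ρ φ) (ρ x))
    (K₀ (res p) (idemMat hx ρ φ) (ρ x)) where
  le := B₀_le (res p) (idemMat_idem hx ρ φ) (commute_idemMat_self hx ρ φ) (rho_pow_p hx ρ)
  idem_fix := by
    rintro _ ⟨u, hu, rfl⟩
    exact redEnd_idem_of_mem (idemMat_idem hx ρ φ) hu.1
  stable := fun A hA hAx => by
    refine ⟨?_, ?_⟩
    · rintro _ ⟨u, hu, rfl⟩
      rw [redEnd_red]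
      refine ⟨_, ⟨mulVec_mem_rangeE hA hu.1, ?_⟩, rfl⟩
      show (ρ x - 1).mulVec (A.mulVec u) = 0
      have h0 : (ρ x - 1).mulVec u = 0 := hu.2
      rw [Matrix.mulVec_mulVec, ← (hAx.sub_right (Commute.one_right A)).eq, ← Matrix.mulVec_mulVec,
        h0, Matrix.mulVec_zero]
    · rintro _ ⟨_, ⟨u, hu, rfl⟩, rfl⟩
      rw [redEnd_red]
      refine ⟨_, ⟨A.mulVec u, mulVec_mem_rangeE hA hu, ?_⟩, rfl⟩
      show (geom p (ρ x)).mulVec (A.mulVec u) = A.mulVec ((geom p (ρ x)).mulVec u)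
      rw [Matrix.mulVec_mulVec, Matrix.mulVec_mulVec, (commute_geom hAx).eq]
  stab_stable := fun g hg => by
    refine ⟨?_, ?_⟩
    · rintro _ ⟨u, hu, rfl⟩
      rw [redEnd_red]
      refine ⟨_, ⟨mulVec_mem_rangeE (commute_idemMat_stab hx ρ hg) hu.1, ?_⟩, rfl⟩
      show (ρ x - 1).mulVec ((ρ g).mulVec u) = 0
      obtain ⟨l, hl, hlx⟩ := exists_conj_pow hx ρ (inv_mem hg.1)
      have h2 : ρ x * ρ g = ρ g * ρ x ^ l := by
        have h3 := congrArg (fun M => ρ g * M * ρ g) (hlx 1)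
        simp only [pow_one, mul_one] at h3
        rw [← mul_assoc, ← map_mul, mul_inv_cancel, map_one, one_mul] at h3
        rw [h3, mul_assoc, mul_assoc, ← map_mul, inv_mul_cancel, map_one, mul_one]
      rw [Matrix.sub_mulVec, Matrix.mulVec_mulVec, h2, ← Matrix.mulVec_mulVec, mulVec_fixed hu,
        Matrix.one_mulVec, sub_self]
    · rintro _ ⟨_, ⟨u, hu, rfl⟩, rfl⟩
      rw [redEnd_red]
      refine ⟨_, ⟨(ρ g).mulVec u, mulVec_mem_rangeE (commute_idemMat_stab hx ρ hg) hu, ?_⟩, rfl⟩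
      show (geom p (ρ x)).mulVec ((ρ g).mulVec u) = (ρ g).mulVec ((geom p (ρ x)).mulVec u)
      rw [Matrix.mulVec_mulVec, Matrix.mulVec_mulVec, (commute_geom_norm hx ρ hg.1).eq]
  x_trivial := by
    rintro _ ⟨u, hu, rfl⟩
    have h1 := mulVec_fixed hu 1
    rw [pow_one] at h1
    rw [redEnd_red, h1, sub_self]
    exact Submodule.zero_mem _
  lift := by
    rintro _ ⟨v, hv, rfl⟩ ξ hξ
    obtain ⟨q, hq, hqw⟩ := exists_lift₀ (res p) (dvd_of_res_eq_zero p) (natCast_p_ne_zero p)
      (idemMat_idem hx ρ φ) (commute_idemMat_self hx ρ φ) (rho_pow_p hx ρ) hv ξ hξ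
    refine ⟨q, hq, ?_⟩
    rintro _ ⟨w, hw, rfl⟩
    rw [redEnd_red, hqw w hw, sub_self]
    exact Submodule.zero_mem _
  norm_mem := by
    rintro A _ ⟨u, hu, rfl⟩
    have hinv : ∀ i, (ρ (x ^ i)⁻¹).mulVec u = u := fun i => by
      have h1 : (ρ (x ^ i)).mulVec u = u := by rw [map_pow]; exact mulVec_fixed hu i
      conv_lhs => rw [← h1]
      rw [Matrix.mulVec_mulVec, ← map_mul, inv_mul_cancel, map_one, Matrix.one_mulVec]
    rw [redEnd_red]
    refine ⟨_, ⟨(idemMat hx ρ φ).mulVec (A.mulVec u), ⟨A.mulVec u, rfl⟩, ?_⟩, rfl⟩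
    show (geom p (ρ x)).mulVec ((idemMat hx ρ φ).mulVec (A.mulVec u)) = _
    rw [Matrix.mulVec_mulVec, ← (commute_geom (commute_idemMat_self hx ρ φ)).eq,
      ← Matrix.mulVec_mulVec, ← Matrix.mulVec_mulVec (M := idemMat hx ρ φ), geom_rho,
      Matrix.sum_mulVec, Matrix.sum_mulVec]
    congr 1
    refine Finset.sum_congr rfl fun i _ => ?_
    rw [← Matrix.mulVec_mulVec, hinv, ← Matrix.mulVec_mulVec]

theorem pairHyp₁ : PairHyp hx ρ φ (B₁ (res p) (idemMat hx ρ φ) (ρ x))
    (K₁ (res p) p (idemMat hx ρ φ) (ρ x)) where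
  le := B₁_le (res p) (idemMat_idem hx ρ φ) (commute_idemMat_self hx ρ φ) (rho_pow_p hx ρ)
  idem_fix := by
    rintro _ ⟨u, hu, rfl⟩
    exact redEnd_idem_of_mem (idemMat_idem hx ρ φ) hu.1
  stable := fun A hA hAx => by
    refine ⟨?_, ?_⟩
    · rintro _ ⟨u, hu, rfl⟩
      rw [redEnd_red]
      refine ⟨_, ⟨mulVec_mem_rangeE hA hu.1, ?_⟩, rfl⟩
      show (geom p (ρ x)).mulVec (A.mulVec u) = 0
      have h0 : (geom p (ρ x)).mulVec u = 0 := hu.2
      rw [Matrix.mulVec_mulVec, ← (commute_geom hAx).eq, ← Matrix.mulVec_mulVec, h0,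
        Matrix.mulVec_zero]
    · rintro _ ⟨_, ⟨u, hu, rfl⟩, rfl⟩
      rw [redEnd_red]
      refine ⟨_, ⟨A.mulVec u, mulVec_mem_rangeE hA hu, ?_⟩, rfl⟩
      show (ρ x - 1).mulVec (A.mulVec u) = A.mulVec ((ρ x - 1).mulVec u)
      rw [Matrix.mulVec_mulVec, Matrix.mulVec_mulVec, (hAx.sub_right (Commute.one_right A)).eq]
  stab_stable := fun g hg => by
    refine ⟨?_, ?_⟩
    · rintro _ ⟨u, hu, rfl⟩
      rw [redEnd_red]
      refine ⟨_, ⟨mulVec_mem_rangeE (commute_idemMat_stab hx ρ hg) hu.1, ?_⟩, rfl⟩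
      show (geom p (ρ x)).mulVec ((ρ g).mulVec u) = 0
      have h0 : (geom p (ρ x)).mulVec u = 0 := hu.2
      rw [Matrix.mulVec_mulVec, ← (commute_geom_norm hx ρ hg.1).eq, ← Matrix.mulVec_mulVec, h0,
        Matrix.mulVec_zero]
    · rintro _ ⟨_, ⟨u, hu, rfl⟩, rfl⟩
      rw [redEnd_red]
      obtain ⟨k, hk, hkx⟩ := exists_conj_pow hx ρ hg.1
      refine ⟨_, ⟨(∑ i ∈ Finset.range k, ρ x ^ i).mulVec ((ρ g).mulVec u),
        rho_pow_mem_rangeE hx ρ φ k (mulVec_mem_rangeE (commute_idemMat_stab hx ρ hg) hu), ?_⟩, rfl⟩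
      show (ρ x - 1).mulVec _ = (ρ g).mulVec ((ρ x - 1).mulVec u)
      have h1 := hkx 1
      rw [mul_one, pow_one] at h1
      rw [Matrix.mulVec_mulVec, mul_geom_sum, Matrix.mulVec_mulVec, Matrix.mulVec_mulVec,
        sub_mul, mul_sub, h1, one_mul, mul_one]
  x_trivial := by
    rintro _ ⟨u, hu, rfl⟩
    refine ⟨(ρ x - 1).mulVec u, ⟨u, hu.1, rfl⟩, ?_⟩
    rw [redEnd_red, Matrix.sub_mulVec, Matrix.one_mulVec, map_sub]
  lift := by
    rintro _ ⟨v, hv, rfl⟩ ξ hξ
    obtain ⟨q, hq, hqw⟩ := exists_lift₁ (res p) (res_natCast_p p) (dvd_of_res_eq_zero p)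
      (natCast_p_ne_zero p) (idemMat_idem hx ρ φ) (commute_idemMat_self hx ρ φ) (rho_pow_p hx ρ)
      hv ξ hξ
    refine ⟨q, hq, ?_⟩
    rintro _ ⟨w, hw, rfl⟩
    rw [redEnd_red]
    exact hqw w hw
  norm_mem := by
    rintro A _ ⟨u, hu, rfl⟩
    rw [redEnd_red]
    set E := idemMat hx ρ φ with hE
    have hsum : ∑ i ∈ Finset.range p, (ρ (x ^ i)⁻¹).mulVec u = 0 := by
      have h0 : (geom p (ρ x)).mulVec u = 0 := hu.2
      rw [← h0, geom_rho, Matrix.sum_mulVec]
      have hp := hx.prime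
      have hinv : ∀ i < p, (x ^ i)⁻¹ = x ^ ((p - i) % p) := fun i hi => by
        refine inv_eq_of_mul_eq_one_right ?_
        rw [← pow_add, hx.pow_eq_one_iff, Nat.dvd_iff_mod_eq_zero, Nat.add_mod, Nat.mod_mod,
          ← Nat.add_mod, show i + (p - i) = p by omega, Nat.mod_self]
      refine Finset.sum_nbij' (fun i => (p - i) % p) (fun i => (p - i) % p) ?_ ?_ ?_ ?_ ?_
      · exact fun i _ => Finset.mem_range.2 (Nat.mod_lt _ hp.pos)
      · exact fun i _ => Finset.mem_range.2 (Nat.mod_lt _ hp.pos)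
      · intro i hi
        have hi' : i < p := Finset.mem_range.1 hi
        rcases Nat.eq_zero_or_pos i with rfl | h
        · simp
        · show (p - (p - i) % p) % p = i
          rw [Nat.mod_eq_of_lt (show p - i < p by omega), show p - (p - i) = i by omega,
            Nat.mod_eq_of_lt hi']
      · intro i hi
        have hi' : i < p := Finset.mem_range.1 hi
        rcases Nat.eq_zero_or_pos i with rfl | h
        · simp
        · show (p - (p - i) % p) % p = i
          rw [Nat.mod_eq_of_lt (show p - i < p by omega), show p - (p - i) = i by omega,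
            Nat.mod_eq_of_lt hi']
      · intro i hi
        rw [hinv i (Finset.mem_range.1 hi)]
    have heq : (E * ∑ i ∈ Finset.range p, ρ (x ^ i) * A * ρ (x ^ i)⁻¹).mulVec u =
        ∑ i ∈ Finset.range p,
          (ρ x ^ i - 1).mulVec (E.mulVec (A.mulVec ((ρ (x ^ i)⁻¹).mulVec u))) := by
      have hz : ∑ i ∈ Finset.range p, E.mulVec (A.mulVec ((ρ (x ^ i)⁻¹).mulVec u)) = 0 := by
        rw [← Matrix.mulVec_sum, ← Matrix.mulVec_sum, hsum, Matrix.mulVec_zero, Matrix.mulVec_zero]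
      simp only [Matrix.sub_mulVec, Matrix.one_mulVec, Finset.sum_sub_distrib, hz, sub_zero]
      rw [Finset.mul_sum, Matrix.sum_mulVec]
      refine Finset.sum_congr rfl fun i _ => ?_
      simp only [Matrix.mulVec_mulVec]
      rw [← mul_assoc, ← mul_assoc, map_pow, ((commute_idemMat_self hx ρ φ).pow_right i).eq]
      simp only [mul_assoc]
      rfl
    rw [heq, map_sum]
    refine Submodule.sum_mem _ fun i _ => ?_
    refine ⟨_, ⟨(∑ j ∈ Finset.range i, ρ x ^ j).mulVec
      (E.mulVec (A.mulVec ((ρ (x ^ i)⁻¹).mulVec u))), rho_pow_mem_rangeE hx ρ φ i ⟨_, rfl⟩, ?_⟩, rfl⟩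
    show (ρ x - 1).mulVec _ = _
    rw [Matrix.mulVec_mulVec, mul_geom_sum]

/-- The trace of the idempotent times a power of `x`. -/
theorem emb_trace (i : ℕ) :
    emb p (ρ (x ^ i) * idemMat hx ρ φ).trace =
      (φ : regPart p x → ℂ) 1 * secCoef p x (fun g => emb p (ρ g).trace) φ i := by
  haveI := Fintype.ofFinite (regPart p x)
  rw [idemMat_eq, Finset.mul_sum, Matrix.trace_sum, map_sum, secCoef, finsum_eq_sum_of_fintype,
    Finset.mul_sum, Finset.mul_sum]
  refine Finset.sum_congr rfl fun v _ => ?_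
  rw [mul_smul_comm, ← map_mul, Matrix.trace_smul, smul_eq_mul, map_mul, emb_coefR, coefC]
  ring

omit hx in
theorem emb_trace_natCast (m : ℕ) : emb p (m : WR p) = (m : ℂ) := map_natCast _ _

/-- The sum of the section coefficients of an indecomposable lattice. -/
theorem sum_secCoef_mem
    (hlocal : ∀ s : Matrix n n (WR p), (∀ g, Commute (ρ g) s) →
      IsUnit ((res p).mapMatrix s) ∨ IsNilpotent ((res p).mapMatrix s)) :
    let D := ∑ i ∈ Finset.Ico 1 p, secCoef p x (fun g => emb p (ρ g).trace) φ i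
    D = 0 ∨ D = ((p - 1 : ℕ) : ℂ) ∨ D = -((p - 1 : ℕ) : ℂ) := by
  intro D
  have hp := hx.prime
  set E := idemMat hx ρ φ with hE
  set X := ρ x
  have hEE : E * E = E := idemMat_idem hx ρ φ
  have hEX : Commute E X := commute_idemMat_self hx ρ φ
  have hX : X ^ p = 1 := rho_pow_p hx ρ
  have hp0 := natCast_p_ne_zero p
  have hker := dvd_of_res_eq_zero p
  have hr0 : Module.finrank (kbar p) (K₀ (res p) E X) = Module.finrank (WR p) (fixed E X) :=
    finrank_map_red (res p) hker hp0 _ (fixed_pure hEE hp0)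
  have hr1 : Module.finrank (kbar p) (K₁ (res p) p E X) = Module.finrank (WR p) (normKer p E X) :=
    finrank_map_red (res p) hker hp0 _ (normKer_pure hEE hp0)
  -- the range of the norm on `U`
  set A := geom p X * E with hA
  have hgX : geom p X * X = geom p X := by
    have := geom_mul_sub_one hX
    rwa [mul_sub, mul_one, sub_eq_zero] at this
  have hgg : geom p X * geom p X = (p : WR p) • geom p X := by
    have h1 : ∀ i : ℕ, geom p X * X ^ i = geom p X := fun i => by
      induction i with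
      | zero => simp
      | succ i ih => rw [pow_succ, ← mul_assoc, ih, hgX]
    conv_lhs => arg 2; rw [geom]
    rw [Finset.mul_sum, Finset.sum_congr rfl fun i _ => h1 i, Finset.sum_const, Finset.card_range,
      Nat.cast_smul_eq_nsmul]
  have hAA : A * A = (p : WR p) • A := by
    calc geom p X * E * (geom p X * E) = geom p X * (E * geom p X) * E := by simp only [mul_assoc]
      _ = geom p X * geom p X * (E * E) := by
          rw [(commute_geom hEX).eq]; simp only [mul_assoc]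
      _ = (p : WR p) • (geom p X * E) := by rw [hgg, hEE, smul_mul_assoc]
  have hrange : A.mulVecLin.range ≤ fixed E X := by
    rintro _ ⟨u, rfl⟩
    refine ⟨⟨(geom p X).mulVec u, ?_⟩, ?_⟩
    · show E.mulVec ((geom p X).mulVec u) = A.mulVec u
      rw [Matrix.mulVec_mulVec, hA, (commute_geom hEX).eq]
    · show (X - 1).mulVec (A.mulVec u) = 0
      rw [Matrix.mulVec_mulVec, hA, ← mul_assoc, sub_one_mul_geom hX, zero_mul, Matrix.zero_mulVec]
  have hrA : Module.finrank (WR p) A.mulVecLin.range = Module.finrank (WR p) (fixed E X) := by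
    refine le_antisymm (Submodule.finrank_mono hrange) ?_
    let L : fixed E X →ₗ[WR p] A.mulVecLin.range :=
      A.mulVecLin.rangeRestrict.comp (fixed E X).subtype
    refine LinearMap.finrank_le_finrank_of_injective (f := L) ?_
    intro a b hab
    have h := congrArg Subtype.val hab
    have h2 : ∀ c : fixed E X, A.mulVec (c : n → WR p) = (p : WR p) • (c : n → WR p) := fun c => by
      rw [hA, ← Matrix.mulVec_mulVec, (mem_rangeE hEE).1 c.2.1, geom_fixed c.2]
    exact Subtype.ext (natCast_smul_cancel hp0 (by rw [← h2, ← h2]; exact h))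
  have hrE : Module.finrank (WR p) (rangeE E) =
      Module.finrank (WR p) A.mulVecLin.range + Module.finrank (WR p) (normKer p E X) := by
    rw [← Submodule.finrank_quotient_add_finrank
        (LinearMap.ker ((geom p X).mulVecLin.domRestrict (rangeE E))),
      (LinearMap.quotKerEquivRange _).finrank_eq]
    congr 1
    · rw [LinearMap.range_domRestrict]
      refine congrArg (fun N : Submodule (WR p) (n → WR p) => Module.finrank (WR p) N) ?_
      rw [rangeE, ← LinearMap.range_comp, hA, Matrix.mulVecLin_mul]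
    · rw [LinearMap.ker_domRestrict]
      exact LinearEquiv.finrank_eq
        ((LinearEquiv.ofEq _ _ (by rw [normKer, Submodule.comap_inf, Submodule.comap_subtype_self,
          top_inf_eq])).trans (Submodule.comapSubtypeEquivOfLe inf_le_left))
  -- traces
  have htE : emb p E.trace =
      (φ : regPart p x → ℂ) 1 * secCoef p x (fun g => emb p (ρ g).trace) φ 0 := by
    rw [← emb_trace hx ρ φ 0, pow_zero, map_one, one_mul]
  have htA : emb p A.trace = (φ : regPart p x → ℂ) 1 *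
      ∑ i ∈ Finset.range p, secCoef p x (fun g => emb p (ρ g).trace) φ i := by
    rw [hA, geom_rho, Finset.sum_mul, Matrix.trace_sum, map_sum, Finset.mul_sum]
    exact Finset.sum_congr rfl fun i _ => emb_trace hx ρ φ i
  rw [trace_eq_mul_finrank A _ hAA, map_mul, emb_trace_natCast, emb_trace_natCast, hrA] at htA
  rw [trace_eq_mul_finrank E 1 (by rw [hEE, one_smul]), one_mul, emb_trace_natCast,
    show E.mulVecLin.range = rangeE E from rfl, hrE, hrA] at htE
  obtain ⟨c, hc1, hc2⟩ := euler_formula (res p) hker hp0 hEE hEX hX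
  have h0 := (pairHyp₀ hx ρ φ).finrank_eq hlocal
  have h1 := (pairHyp₁ hx ρ φ).finrank_eq hlocal
  have hs0 := finrank_subq_add (pairHyp₀ hx ρ φ).le
  have hs1 := finrank_subq_add (pairHyp₁ hx ρ φ).le
  rw [← hE] at h0 h1 hs0 hs1
  set r0 := Module.finrank (WR p) (fixed E X)
  set r1 := Module.finrank (WR p) (normKer p E X)
  set d0 := Module.finrank (kbar p) (Subq (B₀ (res p) p E X) (K₀ (res p) E X))
  set d1 := Module.finrank (kbar p) (Subq (B₁ (res p) E X) (K₁ (res p) p E X))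
  have hs0' : d0 + Module.finrank (kbar p) (B₀ (res p) p E X) =
      Module.finrank (kbar p) (K₀ (res p) E X) := hs0
  have hs1' : d1 + Module.finrank (kbar p) (B₁ (res p) E X) =
      Module.finrank (kbar p) (K₁ (res p) p E X) := hs1
  change d0 = 0 ∨ d0 = _ at h0
  change d1 = 0 ∨ d1 = _ at h1
  clear hs0 hs1
  have hZ : (r0 : ℤ) - c = (d0 : ℤ) - d1 := by omega
  have hsplit : ∑ i ∈ Finset.range p, secCoef p x (fun g => emb p (ρ g).trace) φ i =
      secCoef p x (fun g => emb p (ρ g).trace) φ 0 + D := by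
    rw [Finset.range_eq_Ico, ← Finset.sum_Ico_consecutive _ (Nat.zero_le 1) hp.one_le]
    simp [D]
  rw [hsplit, mul_add, ← htE] at htA
  have hr1c : (r1 : ℂ) = ((p - 1 : ℕ) : ℂ) * c := by rw [← hr1, hc1, Nat.cast_mul]
  have hD : (φ : regPart p x → ℂ) 1 * D = ((p - 1 : ℕ) : ℂ) * (((d0 : ℤ) - d1 : ℤ) : ℂ) := by
    rw [← hZ]
    push_cast at htA ⊢
    rw [Nat.cast_sub hp.one_le] at hr1c ⊢
    push_cast at hr1c ⊢
    linear_combination -htA - hr1c
  have hne : (φ : regPart p x → ℂ) 1 ≠ 0 := CharTools.irr_apply_one_ne_zero φ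
  have hdeg := CharTools.irr_degree_cast φ
  rcases h0 with h0 | h0 <;> rcases h1 with h1 | h1 <;> rw [h0, h1] at hD
  · exact Or.inl (by simpa [hne] using hD)
  · refine Or.inr (Or.inr (mul_left_cancel₀ hne (hD.trans ?_)))
    push_cast
    rw [hdeg]; ring
  · refine Or.inr (Or.inl (mul_left_cancel₀ hne (hD.trans ?_)))
    push_cast
    rw [hdeg]; ring
  · exact Or.inl (by simpa [hne] using hD)

end CfsgLib.DefectOne
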