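import Cfsg.Agent.Lib.DefectOne.Action
import Cfsg.Agent.Lib.DefectOne.Average
import Cfsg.Agent.Lib.DefectOne.Subquot

/-!
# The subquotients of an indecomposable lattice have dimension `0` or `φ(1)`
-/

set_option autoImplicit false

namespace CfsgLib.DefectOne

open Cfsg

universe u

variable {p : ℕ} [Fact p.Prime]

section Red

variable {n : Type} [Fintype n] [DecidableEq n]

/-- Reduction of matrices, as a ring homomorphism. -/
noncomputable def redHom : Matrix n n (WR p) →+* Module.End (kbar p) (n → kbar p) where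
  toFun := redEnd
  map_one' := redEnd_one
  map_mul' := redEnd_mul
  map_zero' := by simp [redEnd]
  map_add' A A' := by
    show Matrix.toLinAlgEquiv' ((res p).mapMatrix (A + A')) = _
    rw [map_add, map_add]
    rfl

theorem redHom_apply (A : Matrix n n (WR p)) : redHom A = redEnd A := rfl

end Red

attribute [local irreducible] redEnd

variable {G : Type u} [Group G] [Finite G] {x : G} (hx : HypOne p x)
variable {n : Type} [Fintype n] [DecidableEq n] (ρ : G →* Matrix n n (WR p))

theorem idemMat_idem (φ : IrrCharacter (regPart p x)) :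
    idemMat hx ρ φ * idemMat hx ρ φ = idemMat hx ρ φ := by
  classical
  rw [idemMat_mul, if_pos rfl]

theorem commute_idemMat (φ : IrrCharacter (regPart p x)) {A : Matrix n n (WR p)}
    (hA : ∀ v : regPart p x, Commute A (ρ (v : G))) : Commute A (idemMat hx ρ φ) := by
  haveI := Fintype.ofFinite (regPart p x)
  rw [idemMat_eq]
  exact Commute.sum_right _ _ _ fun w _ => (hA w).smul_right _

theorem commute_idemMat_self (φ : IrrCharacter (regPart p x)) :
    Commute (idemMat hx ρ φ) (ρ x) :=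
  (commute_idemMat hx ρ φ fun v => by
    show ρ x * ρ (v : G) = ρ (v : G) * ρ x
    rw [← map_mul, ← map_mul, (hx.commute_regPart v).eq]).symm

theorem idemMat_mul_eq_zero {φ : IrrCharacter (regPart p x)} {g : G} (hg : g ∈ norm₁ x)
    (hne : g ∉ stab hx φ) : idemMat hx ρ φ * ρ g * idemMat hx ρ φ = 0 := by
  classical
  rw [← mul_idemMat hx ρ hg φ, mul_assoc, idemMat_mul, if_neg, mul_zero]
  exact fun h => hne ⟨hg, h.symm⟩

/-- The regular part inside the stabilizer. -/
def incStab (φ : IrrCharacter (regPart p x)) : regPart p x →* stab hx φ :=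
  Subgroup.inclusion (hx.regPart_le.trans (cent_le_stab hx φ))

/-- The common hypotheses on one of the two subquotients. -/
structure PairHyp (φ : IrrCharacter (regPart p x)) (B K : Submodule (kbar p) (n → kbar p)) :
    Prop where
  le : B ≤ K
  idem_fix : ∀ y ∈ K, redEnd (idemMat hx ρ φ) y = y
  stable : ∀ A, Commute A (idemMat hx ρ φ) → Commute A (ρ x) → redEnd A ∈ preserving B K
  stab_stable : ∀ g ∈ stab hx φ, redEnd (ρ g) ∈ preserving B K
  x_trivial : ∀ y ∈ K, redEnd (ρ x) y - y ∈ B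
  lift : ∀ v ∈ K, ∀ ξ : Module.Dual (kbar p) (n → kbar p), (∀ y ∈ B, ξ y = 0) →
    ∃ q, Commute q (ρ x) ∧ ∀ y ∈ K, redEnd q y - ξ y • v ∈ B
  norm_mem : ∀ A, ∀ y ∈ K, redEnd (idemMat hx ρ φ *
    ∑ i ∈ Finset.range p, ρ (x ^ i) * A * ρ (x ^ i)⁻¹) y ∈ B

variable {hx} {ρ} {φ : IrrCharacter (regPart p x)} {B K : Submodule (kbar p) (n → kbar p)}

/-- The action of the stabilizer on the subquotient. -/
noncomputable def PairHyp.act (hP : PairHyp hx ρ φ B K) :
    stab hx φ →* Module.End (kbar p) (Subq B K) :=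
  (subqMap B K).toMonoidHom.comp
    { toFun := fun t => ⟨redEnd (ρ (t : G)), hP.stab_stable t t.2⟩
      map_one' := Subtype.ext (by simp [redEnd_one])
      map_mul' := fun a b => Subtype.ext (by simp [redEnd_mul]) }

theorem PairHyp.act_mk (hP : PairHyp hx ρ φ B K) (t : stab hx φ) (y : K) :
    hP.act t (Submodule.Quotient.mk y) =
      Submodule.Quotient.mk ⟨redEnd (ρ (t : G)) y, (hP.stab_stable t t.2).1 y y.2⟩ := rfl

/-- A lift of an endomorphism of the subquotient. -/
theorem PairHyp.exists_lift (hP : PairHyp hx ρ φ B K) (q : Module.End (kbar p) (Subq B K)) :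
    ∃ (A : Matrix n n (WR p)) (hA : redEnd A ∈ preserving B K), Commute A (ρ x) ∧
      idemMat hx ρ φ * A = A ∧ A * idemMat hx ρ φ = A ∧
      subqMap B K ⟨redEnd A, hA⟩ = q := by
  classical
  obtain ⟨f, hf⟩ := exists_subqMap_eq hP.le q
  obtain ⟨m, v, ξ, hv, hξ, hsum⟩ :=
    exists_rankOne_sum hP.le (f : Module.End (kbar p) (n → kbar p)) f.2.1 f.2.2
  choose ql hqlx hql using fun l => hP.lift (v l) (hv l) (ξ l) (hξ l)
  set E := idemMat hx ρ φ with hE
  have hEx : Commute E (ρ x) := commute_idemMat_self hx ρ φ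
  have hEE : E * E = E := idemMat_idem hx ρ φ
  set A := E * (∑ l, ql l) * E with hA
  have hAx : Commute A (ρ x) :=
    (hEx.mul_left (Commute.sum_left _ _ _ fun l _ => hqlx l)).mul_left hEx
  have hEA : E * A = A := by rw [hA, ← mul_assoc, ← mul_assoc, hEE]
  have hAE : A * E = A := by rw [hA, mul_assoc, hEE]
  refine ⟨A, hP.stable A (show A * E = E * A by rw [hEA, hAE]) hAx, hAx, hEA, hAE, ?_⟩
  rw [← hf]
  refine Submodule.linearMap_qext _ (LinearMap.ext fun y => subq_mk_eq.2 ?_)
  show redEnd A (y : n → kbar p) - (f : Module.End (kbar p) (n → kbar p)) y ∈ B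
  have h1 : redEnd (∑ l, ql l) (y : n → kbar p) -
      (f : Module.End (kbar p) (n → kbar p)) y ∈ B := by
    have h2 : ∑ l, (redEnd (ql l) (y : n → kbar p) - ξ l y • v l) ∈ B :=
      Submodule.sum_mem _ fun l _ => hql l y y.2
    rw [Finset.sum_sub_distrib] at h2
    rw [redEnd_sum, LinearMap.sum_apply]
    have h3 := B.sub_mem h2 (hsum y y.2)
    convert h3 using 1
    abel
  have h4 : redEnd A (y : n → kbar p) - (f : Module.End (kbar p) (n → kbar p)) y =
      redEnd E (redEnd (∑ l, ql l) (y : n → kbar p) -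
        (f : Module.End (kbar p) (n → kbar p)) y) := by
    rw [map_sub, hP.idem_fix _ (f.2.1 y y.2), hA, redEnd_mul, redEnd_mul, Module.End.mul_apply,
      Module.End.mul_apply, hP.idem_fix _ y.2]
  rw [h4, hP.idem_fix _ (hP.le h1)]
  exact h1

/-- An endomorphism of the subquotient commuting with the stabilizer is invertible or nilpotent. -/
theorem PairHyp.isUnit_or_isNilpotent (hP : PairHyp hx ρ φ B K)
    (hlocal : ∀ s : Matrix n n (WR p), (∀ g, Commute (ρ g) s) →
      IsUnit ((res p).mapMatrix s) ∨ IsNilpotent ((res p).mapMatrix s))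
    (q : Module.End (kbar p) (Subq B K)) (hq : ∀ t, Commute q (hP.act t)) :
    IsUnit q ∨ IsNilpotent q := by
  classical
  obtain ⟨A, hA, hAx, hEA, hAE, hAq⟩ := hP.exists_lift q
  set E := idemMat hx ρ φ with hE
  have hfix : ∀ s : Matrix n n (WR p), (∀ g, Commute (ρ g) s) → ∀ y ∈ K,
      redHom (E * s) y = redHom s y := fun s hs y hy => by
    rw [map_mul, Module.End.mul_apply, redHom_apply, redHom_apply]
    exact hP.idem_fix _ ((hP.stable s (commute_idemMat hx ρ φ fun v => (hs _).symm)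
      (hs x).symm).1 y hy)
  have hT : ∀ t ∈ stab hx φ, ∀ y ∈ K,
      redHom (E * (ρ t * A * ρ t⁻¹)) y - redHom A y ∈ B := by
    intro t ht y hy
    have h3 : redHom (E * (ρ t * A * ρ t⁻¹)) y = redEnd (ρ t) (redEnd A (redEnd (ρ t⁻¹) y)) := by
      simp only [redHom_apply, redEnd_mul, Module.End.mul_apply]
      exact hP.idem_fix _ ((hP.stab_stable t ht).1 _ (hA.1 _ ((hP.stab_stable t⁻¹ (inv_mem ht)).1 y hy)))
    rw [h3, redHom_apply]
    have h1 : hP.act ⟨t, ht⟩ * q * hP.act ⟨t, ht⟩⁻¹ = q := by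
      rw [← (hq ⟨t, ht⟩).eq, mul_assoc, ← map_mul, mul_inv_cancel, map_one, mul_one]
    rw [← hAq] at h1
    exact subq_mk_eq.1 (LinearMap.congr_fun h1 (Submodule.Quotient.mk ⟨y, hy⟩))
  obtain ⟨s, m, hm, hscomm, hs⟩ := exists_average hx (stab hx φ)
    (cent_le_stab hx φ self_mem_cent) (fun g hg => hg.1) redHom ρ E A (B := B) (K := K) hAx
    (fun v hv hv' => by
      rw [← hEA, ← mul_assoc, idemMat_mul_eq_zero hx ρ hv hv', zero_mul])
    (fun A' y hy => hP.norm_mem A' y hy) hfix hT
  have hsP : redEnd s ∈ preserving B K :=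
    hP.stable s (commute_idemMat hx ρ φ fun v => (hscomm _).symm) (hscomm x).symm
  have hmk : (m : kbar p) ≠ 0 := fun h => hm ((CharP.cast_eq_zero_iff (kbar p) p m).1 h)
  have hsq : subqMap B K ⟨redEnd s, hsP⟩ = (m : kbar p) • q := by
    rw [← hAq]
    exact Submodule.linearMap_qext _ (LinearMap.ext fun y => subq_mk_eq.2 (hs y y.2))
  have hloc : IsUnit (redEnd s) ∨ IsNilpotent (redEnd s) := by
    rcases hlocal s hscomm with h | h
    · exact Or.inl (by unfold redEnd; exact h.map Matrix.toLinAlgEquiv')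
    · exact Or.inr (by unfold redEnd; exact h.map Matrix.toLinAlgEquiv')
  rcases isUnit_or_isNilpotent_subqMap ⟨redEnd s, hsP⟩ hloc with h | h
  · left
    rw [hsq] at h
    have h2 := ((IsUnit.mk0 (m : kbar p)⁻¹ (inv_ne_zero hmk)).map
      (algebraMap (kbar p) (Module.End (kbar p) (Subq B K)))).mul h
    rwa [← Algebra.smul_def, inv_smul_smul₀ hmk] at h2
  · right
    rw [hsq] at h
    have := h.smul ((m : kbar p)⁻¹)
    rwa [inv_smul_smul₀ hmk] at this

theorem PairHyp.act_x (hP : PairHyp hx ρ φ B K) (i : ℕ) (h : x ^ i ∈ stab hx φ) :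
    hP.act ⟨x ^ i, h⟩ = 1 := by
  have h0 : ∀ h0, hP.act ⟨x, h0⟩ = 1 := fun h0 => Submodule.linearMap_qext _ (LinearMap.ext fun y =>
    subq_mk_eq.2 (hP.x_trivial y y.2))
  have : (⟨x ^ i, h⟩ : stab hx φ) = ⟨x, cent_le_stab hx φ self_mem_cent⟩ ^ i := Subtype.ext rfl
  rw [this, map_pow, h0, one_pow]

theorem PairHyp.act_cent (hP : PairHyp hx ρ φ B K) (t : stab hx φ) (ht : (t : G) ∈ cent x) :
    ∃ v : regPart p x, hP.act t = hP.act (incStab hx φ v) := by
  obtain ⟨i, -, v, hiv⟩ := hx.exists_decomp ht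
  refine ⟨v, ?_⟩
  have h1 : t = ⟨x ^ i, cent_le_stab hx φ (pow_mem_cent i)⟩ * incStab hx φ v :=
    Subtype.ext hiv.symm
  rw [h1, map_mul, hP.act_x, one_mul]

/-- The idempotent acts as the identity on the subquotient. -/
theorem PairHyp.idem_act (hP : PairHyp hx ρ φ B K) [Fintype (regPart p x)] (y : Subq B K) :
    (∑ v : regPart p x, res p (coefR hx.not_dvd_card_regPart φ v) •
      hP.act (incStab hx φ v) y) = y := by
  obtain ⟨⟨w, hw⟩, rfl⟩ := Submodule.Quotient.mk_surjective _ y
  have h2 : ∀ v : regPart p x, res p (coefR hx.not_dvd_card_regPart φ v) •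
      hP.act (incStab hx φ v) (Submodule.Quotient.mk ⟨w, hw⟩) =
      (B.comap K.subtype).mkQ (res p (coefR hx.not_dvd_card_regPart φ v) •
        ⟨redEnd (ρ (v : G)) w, (hP.stab_stable _ (incStab hx φ v).2).1 w hw⟩) := fun v => by
    rw [map_smul]; rfl
  rw [Finset.sum_congr rfl fun v _ => h2 v, ← map_sum]
  refine congrArg (B.comap K.subtype).mkQ (Subtype.ext ?_)
  simp only [AddSubmonoidClass.coe_finsetSum, SetLike.val_smul]
  calc ∑ v : regPart p x, res p (coefR hx.not_dvd_card_regPart φ v) • redEnd (ρ (v : G)) w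
      = redEnd (idemMat hx ρ φ) w := by
        rw [idemMat_eq, redEnd_sum, LinearMap.sum_apply]
        exact Finset.sum_congr rfl fun v _ => by rw [redEnd_smul, LinearMap.smul_apply]
    _ = w := hP.idem_fix w hw

end CfsgLib.DefectOne
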