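import Cfsg.Agent.Lib.DefectOne.Pair
import Cfsg.Agent.Lib.DefectOne.RepAlg

/-!
# The dimension of a subquotient: `0` or `φ(1)`
-/

set_option autoImplicit false

namespace CfsgLib.DefectOne

open Cfsg

universe u

section Abstract

variable {k W : Type*} [Field k] [IsAlgClosed k] [AddCommGroup W] [Module k W]
  [FiniteDimensional k W] {V T : Type*} [Group V] [Finite V] [NeZero (Nat.card V : k)] [Group T]

/-- A module over `ε` with an action of an overgroup generated by the image of the group and one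
element, and without equivariant idempotents, has dimension `0` or the root of that of the part
of `ε`. -/
theorem finrank_sq_of_local [Fintype V] {ε : MonoidAlgebra k V} (hε : IsPrimitiveCentral ε)
    (Φ : T →* Module.End k W) (i : V →* T) (c : V → k)
    (hc : ∀ v, ε.coeff v = c v) (hεid : ∀ y : W, ∑ v, c v • Φ (i v) y = y)
    (n₀ : T) (σ : V ≃* V) (hσ : ∀ v, n₀ * i v = i (σ v) * n₀) {e : ℕ} (he : (e : k) ≠ 0)
    (w₀ : V) (hw₀ : Φ (n₀ ^ e) = Φ (i w₀))
    (hgen : ∀ t : T, ∃ (a : ℕ) (v : V), Φ t = Φ n₀ ^ a * Φ (i v))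
    (hloc : ∀ q : Module.End k W, (∀ t, Commute q (Φ t)) → IsUnit q ∨ IsNilpotent q) :
    Module.finrank k W = 0 ∨
      Module.finrank k W ^ 2 = Module.finrank k (LinearMap.mulRight k ε).range := by
  rcases subsingleton_or_nontrivial W with hsub | hnt
  · exact Or.inl Module.finrank_zero_of_subsingleton
  right
  letI inst : Module (MonoidAlgebra k V) W :=
    Module.compHom W (MonoidAlgebra.lift k (Module.End k W) V (Φ.comp i)).toRingHom
  have hsmul : ∀ (a : MonoidAlgebra k V) (y : W), a • y =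
      MonoidAlgebra.lift k (Module.End k W) V (Φ.comp i) a y := fun a y => rfl
  haveI : IsScalarTower k (MonoidAlgebra k V) W :=
    ⟨fun r a y => by rw [hsmul, hsmul, map_smul]; rfl⟩
  have hof : ∀ (v : V) (y : W), MonoidAlgebra.of k V v • y = Φ (i v) y := fun v y => by
    rw [hsmul, MonoidAlgebra.lift_of]; rfl
  have hεid' : ∀ y : W, ε • y = y := fun y => by
    classical
    have h1 : ε = ∑ v : V, c v • MonoidAlgebra.of k V v :=
      MonoidAlgebra.ext (Finsupp.ext fun v => by
        simp [hc, MonoidAlgebra.of_apply, Finsupp.single_apply])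
    rw [h1, Finset.sum_smul]
    simp only [smul_assoc, hof, hεid]
  let Φe : W ≃ₗ[k] W :=
    { Φ n₀ with
      invFun := Φ n₀⁻¹
      left_inv := fun y => by
        show Φ n₀⁻¹ (Φ n₀ y) = y
        rw [← Module.End.mul_apply, ← map_mul, inv_mul_cancel, map_one, Module.End.one_apply]
      right_inv := fun y => by
        show Φ n₀ (Φ n₀⁻¹ y) = y
        rw [← Module.End.mul_apply, ← map_mul, mul_inv_cancel, map_one, Module.End.one_apply] }
  haveI := isSimple_of_semilinear (k := k) (V := V) (M := W) hε hεid'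
    (MonoidAlgebra.domCongr k k σ) Φe
    (fun a y => by
      induction a using MonoidAlgebra.induction_on with
      | of v =>
        rw [hof]
        have h1 : MonoidAlgebra.domCongr k k σ (MonoidAlgebra.of k V v) =
            MonoidAlgebra.of k V (σ v) := by simp [MonoidAlgebra.of_apply]
        rw [h1, hof]
        show Φ n₀ (Φ (i v) y) = Φ (i (σ v)) (Φ n₀ y)
        rw [← Module.End.mul_apply, ← Module.End.mul_apply, ← map_mul, ← map_mul, hσ]
      | add f g hf hg => rw [add_smul, map_add, hf, hg, map_add, add_smul]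
      | smul r f hf => rw [smul_assoc, map_smul, hf, map_smul, smul_assoc])
    he (MonoidAlgebra.of k V w₀)
    (fun y => by
      have hpow : ((Φe : Module.End k W) ^ e) = Φ (n₀ ^ e) := by rw [map_pow]
      rw [hpow, hw₀, hof])
    (fun q hqA hqΦ => hloc q fun t => by
      obtain ⟨a, v, hv⟩ := hgen t
      rw [hv]
      refine Commute.mul_right (Commute.pow_right (LinearMap.ext fun y => hqΦ y) a)
        (LinearMap.ext fun y => ?_)
      show q (Φ (i v) y) = Φ (i v) (q y)
      rw [← hof, ← hof]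
      exact hqA _ y)
  exact finrank_sq_of_simple (k := k) hε hεid'

end Abstract

variable {p : ℕ} [Fact p.Prime] {G : Type u} [Group G] [Finite G] {x : G} {hx : HypOne p x}
variable {n : Type} [Fintype n] [DecidableEq n] {ρ : G →* Matrix n n (WR p)}
variable {φ : IrrCharacter (regPart p x)} {B K : Submodule (kbar p) (n → kbar p)}

theorem PairHyp.finrank_eq (hP : PairHyp hx ρ φ B K)
    (hlocal : ∀ s : Matrix n n (WR p), (∀ g, Commute (ρ g) s) →
      IsUnit ((res p).mapMatrix s) ∨ IsNilpotent ((res p).mapMatrix s)) :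
    Module.finrank (kbar p) (Subq B K) = 0 ∨
      Module.finrank (kbar p) (Subq B K) = charDegree (φ : regPart p x → ℂ) := by
  classical
  haveI := Fintype.ofFinite (regPart p x)
  haveI : NeZero (Nat.card (regPart p x) : kbar p) :=
    ⟨fun h => hx.not_dvd_card_regPart ((CharP.cast_eq_zero_iff (kbar p) p _).1 h)⟩
  obtain ⟨kx, hkx, hkx1⟩ := hx.exists_expHom
  let kT : stab hx φ →* (ZMod p)ˣ :=
    kx.comp (Subgroup.inclusion (fun g hg => hg.1 : stab hx φ ≤ norm₁ x))
  obtain ⟨⟨z, hzmem⟩, hz⟩ := IsCyclic.exists_generator (α := kT.range)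
  obtain ⟨n₀, hn₀⟩ := MonoidHom.mem_range.1 hzmem
  have hker : ∀ t : stab hx φ, kT t = 1 ↔ (t : G) ∈ cent x := fun t => hkx1 _
  have hgen : ∀ t : stab hx φ, ∃ (a : ℕ) (v : regPart p x),
      hP.act t = hP.act n₀ ^ a * hP.act (incStab hx φ v) := by
    intro t
    obtain ⟨a, ha⟩ := Submonoid.mem_powers_iff _ _ |>.1
      (mem_powers_iff_mem_zpowers.2 (hz ⟨kT t, MonoidHom.mem_range.2 ⟨t, rfl⟩⟩))
    have hc : (((n₀ ^ a)⁻¹ * t : stab hx φ) : G) ∈ cent x := (hker _).1 (by
      have hb : kT t = z ^ a := (congrArg Subtype.val ha).symm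
      rw [map_mul, map_inv, map_pow, hn₀, hb, inv_mul_cancel])
    obtain ⟨v, hv⟩ := hP.act_cent _ hc
    refine ⟨a, v, ?_⟩
    rw [← hv, ← map_pow, ← map_mul, mul_inv_cancel_left]
  have he0 : (orderOf z : kbar p) ≠ 0 := by
    intro h0
    have h1 : p ∣ orderOf z := (CharP.cast_eq_zero_iff (kbar p) p _).1 h0
    have h2 : orderOf z ∣ p - 1 := by
      have := orderOf_dvd_natCard (G := (ZMod p)ˣ) z
      rwa [Nat.card_eq_fintype_card, ZMod.card_units] at this
    have := Nat.le_of_dvd (by have := hx.prime.two_le; omega) (h1.trans h2)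
    have := hx.prime.pos
    omega
  obtain ⟨w₀, hw₀⟩ := hP.act_cent (n₀ ^ orderOf z)
    ((hker _).1 (by rw [map_pow, hn₀, pow_orderOf_eq_one]))
  rcases finrank_sq_of_local (isPrimitiveCentral_idemK hx.not_dvd_card_regPart φ) hP.act
    (incStab hx φ) (fun v => res p (coefR hx.not_dvd_card_regPart φ v))
    (fun v => coeff_idemK _ _ _) hP.idem_act n₀ (conjEquiv hx n₀.2.1)
    (fun v => Subtype.ext (by
      show (n₀ : G) * (v : G) = (n₀ : G) * (v : G) * (n₀ : G)⁻¹ * (n₀ : G)
      group))
    he0 w₀ hw₀ hgen (hP.isUnit_or_isNilpotent hlocal) with h | h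
  · exact Or.inl h
  · rw [finrank_range_idemK] at h
    exact Or.inr (Nat.pow_left_injective (by norm_num) h)

end CfsgLib.DefectOne
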