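import Cfsg.Agent.Lib.DefectOne.Consequences
import Mathlib.GroupTheory.Sylow

/-!
# The principal block at a prime dividing the order once
-/

set_option autoImplicit false

namespace CfsgLib.DefectOne

open Cfsg
open scoped ComplexConjugate Classical

universe u

variable {G : Type u} [Group G] [Finite G] {p : ℕ} [Fact p.Prime] {x : G}

theorem exists_hypOne_of_sylow (P : Sylow p G) (hP : Nat.card P = p) :
    ∃ x : G, HypOne p x ∧ (P : Subgroup G) = Subgroup.zpowers x ∧
      Subgroup.centralizer ((P : Subgroup G) : Set G) = cent x := by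
  have hp : p.Prime := Fact.out
  have hd : p ∣ Nat.card (P : Subgroup G) := by rw [show Nat.card (P : Subgroup G) = p from hP]
  obtain ⟨y, hy⟩ := exists_prime_orderOf_dvd_card' (G := (P : Subgroup G)) p hd
  have hxo : orderOf (y : G) = p := by rw [Subgroup.orderOf_coe, hy]
  have hsq : ¬ p ^ 2 ∣ Nat.card G := by
    intro h2
    have h3 := P.card_eq_multiplicity
    rw [hP] at h3
    have h4 : (Nat.card G).factorization p = 1 :=
      (Nat.pow_right_injective hp.two_le (h3.symm.trans (pow_one p).symm))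
    have := (hp.pow_dvd_iff_le_factorization Nat.card_pos.ne').1 h2
    omega
  have heq : (P : Subgroup G) = Subgroup.zpowers (y : G) :=
    (Subgroup.eq_of_le_of_card_ge (Subgroup.zpowers_le.2 y.2)
      (by rw [Nat.card_zpowers, hxo]; exact hP.le)).symm
  refine ⟨y, ⟨hp, hxo, hsq⟩, heq, ?_⟩
  have h1 := congrArg (fun K : Subgroup G => Subgroup.centralizer (K : Set G)) heq
  refine h1.trans ?_
  show Subgroup.centralizer (Subgroup.zpowers (y : G) : Set G) = _
  rw [Subgroup.zpowers_eq_closure, Subgroup.centralizer_closure]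

namespace HypOne

variable (h : HypOne p x)

include h

theorem stab_principal : stab h CfsgLib.Char.principalIrr = norm₁ x :=
  le_antisymm (h.stab_le_norm _) fun _ hg => ⟨hg, Subtype.ext (funext fun _ => rfl)⟩

theorem card_expGroup_principal :
    Nat.card (h.expGroup CfsgLib.Char.principalIrr) = (cent x).relIndex (norm₁ x) := by
  rw [h.card_expGroup, h.stab_principal]

theorem orbitN_principal : h.orbitN CfsgLib.Char.principalIrr = {CfsgLib.Char.principalIrr} := by
  ext ψ
  rw [h.mem_orbitN_iff, Finset.mem_singleton]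
  constructor
  · rintro ⟨n, hn, rfl⟩
    exact Subtype.ext (funext fun v => rfl)
  · rintro rfl
    exact ⟨1, one_mem _, h.conjChar_one _⟩

theorem principalIrr_mem_bset :
    (CfsgLib.Char.principalIrr : IrrCharacter G) ∈
      h.bset (CfsgLib.Char.principalIrr : IrrCharacter (regPart p x)) := by
  haveI := Fintype.ofFinite (regPart p x)
  by_contra hn
  have h0 := (h.dd_eq_zero_iff _ _).1 (h.not_mem_bset_iff.1 hn) 1
  rw [sec, secCoef, finsum_eq_sum_of_fintype] at h0
  simp [CfsgLib.Char.principalIrr_apply, Nat.card_eq_fintype_card] at h0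

theorem principalBlock_eq {M : Ideal AlgInt} (hM : IsPModular p M) :
    principalBlock M G = ↑(h.bset (CfsgLib.Char.principalIrr : IrrCharacter (regPart p x))) :=
  h.blockOf_eq_bset hM h.principalIrr_mem_bset

theorem charDegree_principalIrr :
    charDegree ((CfsgLib.Char.principalIrr : IrrCharacter (regPart p x)) : regPart p x → ℂ) = 1 :=
  CharTools.charDegree_principal

variable {Y : Finset (IrrCharacter G)} {δ : ℤ} {m : IrrCharacter G → ℤ}

theorem Shape.principal_degree_X (sh : h.Shape CfsgLib.Char.principalIrr Y δ m)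
    {χ : IrrCharacter G} (hχ : χ ∈ h.bset CfsgLib.Char.principalIrr \ Y) :
    (charDegree (χ : G → ℂ) : ℤ) ≡ -m χ [ZMOD p] := by
  have h1 := Shape.degree_X h sh hχ
  rwa [h.orbitN_principal, Finset.card_singleton, h.charDegree_principalIrr, one_mul, Nat.cast_one,
    mul_one] at h1

theorem Shape.principal_degree_Y (sh : h.Shape CfsgLib.Char.principalIrr Y δ m)
    {θ : IrrCharacter G} (hθ : θ ∈ Y) :
    (charDegree (θ : G → ℂ) : ℤ) ≡ δ * ((cent x).relIndex (norm₁ x) : ℤ) [ZMOD p] := by
  have h1 := Shape.degree_Y h sh hθ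
  rwa [h.charDegree_principalIrr, mul_one] at h1

theorem Shape.principal_singular (sh : h.Shape CfsgLib.Char.principalIrr Y δ m)
    {χ : IrrCharacter G} (hχ : χ ∈ h.bset CfsgLib.Char.principalIrr \ Y) {i : ℕ} (hi : ¬ p ∣ i)
    (v : regPart p x) : (χ : G → ℂ) (x ^ i * (v : G)) = -(m χ : ℂ) := by
  have hi' : (i : ZMod p) ≠ 0 := fun e => hi ((ZMod.natCast_eq_zero_iff _ _).1 e)
  rw [h.apply_pow_mul, Finset.sum_eq_single CfsgLib.Char.principalIrr]
  · rw [h.secCoef_eq_sec,
      show (i : ZMod p) = ((Units.mk0 _ hi' : (ZMod p)ˣ) : ZMod p) from rfl,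
      Shape.sec_X h sh hχ, CfsgLib.Char.principalIrr_apply, mul_one]
  · intro ψ _ hne
    have hnb : χ ∉ h.bset ψ := fun hm => hne (by
      have := h.mem_orbitN_of_mem_bset (Finset.mem_sdiff.1 hχ).1 hm
      rwa [h.orbitN_principal, Finset.mem_singleton] at this)
    rw [h.secCoef_eq_sec,
      show (i : ZMod p) = ((Units.mk0 _ hi' : (ZMod p)ˣ) : ZMod p) from rfl,
      (h.dd_eq_zero_iff ψ χ).1 (h.not_mem_bset_iff.1 hnb), zero_mul]
  · exact fun hn => absurd (Finset.mem_univ _) hn

end HypOne

end CfsgLib.DefectOne
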