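import Cfsg.Agent.Lib.DefectOne.Column
import Cfsg.Agent.Lib.DefectOne.Master
import Cfsg.Agent.Lib.DefectOne.BlockLink
import Mathlib.RingTheory.IntegralDomain
import Mathlib.Data.Int.ModEq

/-!
# The characters attached to a character of the regular part: shape of the columns
-/

set_option autoImplicit false

namespace CfsgLib.DefectOne

open Cfsg
open scoped ComplexConjugate Classical

universe u

variable {G : Type u} [Group G] [Finite G] {p : ℕ} [Fact p.Prime] {x : G}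

/-- An integer function with two values differing by one, when the sum of the squared differences
is the least positive one, takes one of them only once. -/
theorem exists_single_of_var {ι : Type*} [DecidableEq ι] (Y : Finset ι) (f : ι → ℤ)
    (h2 : 2 ≤ Y.card)
    (hdiff : ∀ a ∈ Y, ∀ b ∈ Y, (f a - f b) ^ 2 ≤ 2)
    (hvar : (Y.card : ℤ) * ∑ a ∈ Y, f a ^ 2 - (∑ a ∈ Y, f a) ^ 2 = (Y.card : ℤ) - 1) :
    ∃ (α δ : ℤ) (θ : ι), θ ∈ Y ∧ (δ = 1 ∨ δ = -1) ∧
      ∀ a ∈ Y, f a = α + (if a = θ then δ else 0) := by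
  obtain ⟨a₀, ha₀, hmin⟩ := Y.exists_min_image f (Finset.card_pos.1 (by omega))
  set a := f a₀
  have hval : ∀ b ∈ Y, f b = a ∨ f b = a + 1 := fun b hb => by
    have h1 := hmin b hb
    have h3 := hdiff b hb a₀ ha₀
    have h4 : f b - a < 2 := by nlinarith
    omega
  set T := Y.filter fun b => f b = a + 1
  have hsum : ∀ b ∈ Y, f b = a + (if b ∈ T then 1 else 0) := fun b hb => by
    rcases hval b hb with e | e
    · rw [if_neg (fun hT => by have := (Finset.mem_filter.1 hT).2; omega), e, add_zero]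
    · rw [if_pos (Finset.mem_filter.2 ⟨hb, e⟩), e]
  have hT : T ⊆ Y := Finset.filter_subset _ _
  have hcount : ∑ b ∈ Y, (if b ∈ T then (1 : ℤ) else 0) = T.card := by
    rw [Finset.sum_boole, Finset.filter_mem_eq_inter, Finset.inter_eq_right.2 hT]
  have hs1 : ∑ b ∈ Y, f b = (Y.card : ℤ) * a + T.card := by
    rw [Finset.sum_congr rfl hsum, Finset.sum_add_distrib, hcount, Finset.sum_const, nsmul_eq_mul]
  have hs2 : ∑ b ∈ Y, f b ^ 2 = (Y.card : ℤ) * a ^ 2 + (2 * a + 1) * T.card := by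
    rw [Finset.sum_congr rfl (g := fun b => a ^ 2 + (2 * a + 1) * (if b ∈ T then (1 : ℤ) else 0))
      fun b hb => ?_, Finset.sum_add_distrib, ← Finset.mul_sum, hcount, Finset.sum_const,
      nsmul_eq_mul]
    rw [hsum b hb]
    split_ifs <;> ring
  rw [hs1, hs2] at hvar
  have hprod : ((T.card : ℤ) - 1) * ((T.card : ℤ) - ((Y.card : ℤ) - 1)) = 0 := by
    linear_combination -hvar
  rcases mul_eq_zero.1 hprod with e | e
  · obtain ⟨θ, hθ⟩ := Finset.card_eq_one.1 (show T.card = 1 by omega)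
    refine ⟨a, 1, θ, hT (by simp [hθ]), Or.inl rfl, fun b hb => ?_⟩
    rw [hsum b hb]
    simp [hθ]
  · have hc : (Y \ T).card = 1 := by rw [Finset.card_sdiff_of_subset hT]; omega
    obtain ⟨θ, hθ⟩ := Finset.card_eq_one.1 hc
    have hθm : θ ∈ Y \ T := by simp [hθ]
    refine ⟨a + 1, -1, θ, (Finset.mem_sdiff.1 hθm).1, Or.inr rfl, fun b hb => ?_⟩
    rw [hsum b hb]
    by_cases hbT : b ∈ T
    · have hne : b ≠ θ := fun e' => (Finset.mem_sdiff.1 hθm).2 (e' ▸ hbT)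
      rw [if_pos hbT, if_neg hne, add_zero]
    · have heq : b = θ := by
        simpa [hθ] using (Finset.mem_sdiff.2 ⟨hb, hbT⟩ : b ∈ Y \ T)
      rw [if_neg hbT, if_pos heq]
      ring

namespace HypOne

variable (h : HypOne p x)

include h

/-- The characters with a nonzero column at `φ`. -/
noncomputable def bset (φ : IrrCharacter (regPart p x)) : Finset (IrrCharacter G) :=
  Finset.univ.filter fun χ => ∃ j, h.dd φ χ j ≠ 0

theorem mem_bset_iff {φ : IrrCharacter (regPart p x)} {χ : IrrCharacter G} :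
    χ ∈ h.bset φ ↔ ∃ j, h.dd φ χ j ≠ 0 := by simp [bset]

theorem not_mem_bset_iff {φ : IrrCharacter (regPart p x)} {χ : IrrCharacter G} :
    χ ∉ h.bset φ ↔ ∀ j, h.dd φ χ j = 0 := by simp [bset]

theorem exists_sec_ne_zero {φ : IrrCharacter (regPart p x)} {χ : IrrCharacter G}
    (hχ : χ ∈ h.bset φ) : ∃ r : (ZMod p)ˣ, sec p x φ χ r ≠ 0 := by
  by_contra hno
  push Not at hno
  obtain ⟨j, hj⟩ := h.mem_bset_iff.1 hχ
  exact hj ((h.dd_eq_zero_iff φ χ).2 hno j)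

theorem not_dvd_of_mem_bset {φ : IrrCharacter (regPart p x)} {χ : IrrCharacter G}
    (hχ : χ ∈ h.bset φ) : ¬ p ∣ charDegree (χ : G → ℂ) := fun hd => by
  obtain ⟨r, hr⟩ := h.exists_sec_ne_zero hχ
  exact hr (h.secCoef_eq_zero_of_dvd hd φ (h.not_dvd_val r))

theorem linked_of_mem_bset {M : Ideal AlgInt} (hM : IsPModular p M)
    {φ : IrrCharacter (regPart p x)} {χ : IrrCharacter G} (hχ : χ ∈ h.bset φ) :
    Linked M p x φ χ := by
  obtain ⟨r, hr⟩ := h.exists_sec_ne_zero hχ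
  exact h.linked_of_secCoef_ne_zero hM (h.not_dvd_val r) hr

theorem mem_bset_conjChar_iff (n : norm₁ x) {φ : IrrCharacter (regPart p x)}
    {χ : IrrCharacter G} : χ ∈ h.bset (conjChar h n.2 φ) ↔ χ ∈ h.bset φ := by
  simp only [h.mem_bset_iff, h.dd_conjChar n]
  exact ⟨fun ⟨j, hj⟩ => ⟨_, hj⟩, fun ⟨j, hj⟩ => ⟨j * kHom h n, by
    rwa [mul_inv_cancel_right]⟩⟩

theorem mem_orbitN_of_mem_bset {φ ψ : IrrCharacter (regPart p x)} {χ : IrrCharacter G}
    (hφ : χ ∈ h.bset φ) (hψ : χ ∈ h.bset ψ) : ψ ∈ h.orbitN φ := by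
  obtain ⟨M, hM⟩ := CfsgLib.Char.exists_pModular h.prime
  exact h.mem_orbitN_iff.2
    (h.exists_conjChar_of_linked hM (h.linked_of_mem_bset hM hφ) (h.linked_of_mem_bset hM hψ))

theorem bset_eq_of_mem_orbitN {φ ψ : IrrCharacter (regPart p x)} (hψ : ψ ∈ h.orbitN φ) :
    h.bset ψ = h.bset φ := by
  obtain ⟨n, hn, rfl⟩ := h.mem_orbitN_iff.1 hψ
  ext χ
  exact h.mem_bset_conjChar_iff ⟨n, hn⟩

theorem sum_dd_conjChar (n : norm₁ x) (φ : IrrCharacter (regPart p x)) (χ : IrrCharacter G) :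
    ∑ j, h.dd (conjChar h n.2 φ) χ j = ∑ j, h.dd φ χ j := by
  simp only [h.dd_conjChar n]
  exact Equiv.sum_comp (Equiv.mulRight ((kHom h n)⁻¹)) fun j => h.dd φ χ j

theorem degree_modEq_sum (χ : IrrCharacter G) :
    (charDegree (χ : G → ℂ) : ℤ) ≡ ∑ ψ : IrrCharacter (regPart p x),
      (∑ j, h.dd ψ χ j) * (charDegree (ψ : regPart p x → ℂ) : ℤ) [ZMOD p] := by
  have h1 := h.apply_pow_mul χ 0 1
  simp only [pow_zero, one_mul, OneMemClass.coe_one, h.secCoef_eq_sec, Nat.cast_zero, h.sec_zero,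
    ← CharTools.irr_degree_cast] at h1
  have h2 : (charDegree (χ : G → ℂ) : ℤ) = ∑ ψ : IrrCharacter (regPart p x),
      ((p : ℤ) * h.cn ψ χ 0 + ∑ j, h.dd ψ χ j) * (charDegree (ψ : regPart p x → ℂ) : ℤ) := by
    refine Int.cast_injective (α := ℂ) ?_
    push_cast at h1 ⊢
    exact h1
  rw [h2, Int.modEq_iff_dvd, ← Finset.sum_sub_distrib]
  refine Finset.dvd_sum fun ψ _ => ⟨-((h.cn ψ χ 0 : ℤ) * charDegree (ψ : regPart p x → ℂ)), ?_⟩
  ring

theorem charDegree_of_mem_orbitN {φ ψ : IrrCharacter (regPart p x)} (hψ : ψ ∈ h.orbitN φ) :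
    charDegree (ψ : regPart p x → ℂ) = charDegree (φ : regPart p x → ℂ) := by
  obtain ⟨n, hn, rfl⟩ := h.mem_orbitN_iff.1 hψ
  have h1 : (conjChar h hn φ : regPart p x → ℂ) 1 = (φ : regPart p x → ℂ) 1 := by
    show (φ : regPart p x → ℂ) (conjEquiv h hn 1) = _
    rw [map_one]
  rw [← CharTools.irr_degree_cast, ← CharTools.irr_degree_cast] at h1
  exact_mod_cast h1

/-- The degree of a member of `bset φ` modulo `p`. -/
theorem degree_modEq {φ : IrrCharacter (regPart p x)} {χ : IrrCharacter G}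
    (hχ : χ ∈ h.bset φ) :
    (charDegree (χ : G → ℂ) : ℤ) ≡
      ((h.orbitN φ).card : ℤ) * charDegree (φ : regPart p x → ℂ) * ∑ j, h.dd φ χ j [ZMOD p] := by
  refine (h.degree_modEq_sum χ).trans (congrArg (fun a : ℤ => a % (p : ℤ)) ?_)
  rw [← Finset.sum_subset (Finset.subset_univ (h.orbitN φ)) fun ψ _ hψ => ?_,
    Finset.sum_congr rfl (g := fun _ =>
      (∑ j, h.dd φ χ j) * (charDegree (φ : regPart p x → ℂ) : ℤ)) fun ψ hψ => ?_,
    Finset.sum_const, nsmul_eq_mul]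
  · ring
  · rw [h.charDegree_of_mem_orbitN hψ]
    obtain ⟨n, hn, rfl⟩ := h.mem_orbitN_iff.1 hψ
    rw [h.sum_dd_conjChar ⟨n, hn⟩]
  · have h0 : χ ∉ h.bset ψ := fun hm => hψ (h.mem_orbitN_of_mem_bset hχ hm)
    rw [Finset.sum_eq_zero fun j _ => h.not_mem_bset_iff.1 h0 j, zero_mul]

theorem exists_bset_of_not_dvd {χ : IrrCharacter G} (hd : ¬ p ∣ charDegree (χ : G → ℂ)) :
    ∃ φ, χ ∈ h.bset φ := by
  by_contra hno
  push Not at hno
  refine hd ?_
  have h1 := h.degree_modEq_sum χ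
  simp only [h.not_mem_bset_iff.1 (hno _), Finset.sum_const_zero, zero_mul] at h1
  exact Int.natCast_dvd_natCast.1 (Int.modEq_zero_iff_dvd.1 h1)

/-- Members of `bset φ` with equal columns which agree on regular elements are equal. -/
theorem eq_of_dd_eq {φ : IrrCharacter (regPart p x)} {χ χ' : IrrCharacter G}
    (hχ : χ ∈ h.bset φ) (hχ' : χ' ∈ h.bset φ) (he : ∀ j, h.dd φ χ j = h.dd φ χ' j)
    (hreg : ∀ g, ¬ p ∣ orderOf g → (χ : G → ℂ) g = (χ' : G → ℂ) g) : χ = χ' := by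
  refine Subtype.ext (funext fun g => ?_)
  by_cases hg : p ∣ orderOf g
  swap
  · exact hreg g hg
  obtain ⟨c, i, v, hi, -, hc⟩ := h.exists_conj_singular hg
  rw [← CfsgLib.Char.IsIrrCharacter.isClassFunction χ.2 g c,
    ← CfsgLib.Char.IsIrrCharacter.isClassFunction χ'.2 g c, hc, h.apply_pow_mul, h.apply_pow_mul]
  refine Finset.sum_congr rfl fun ψ _ => congrArg (· * _) ?_
  have hi' : (i : ZMod p) ≠ 0 := fun e => hi ((ZMod.natCast_eq_zero_iff _ _).1 e)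
  rw [h.secCoef_eq_sec, h.secCoef_eq_sec,
    show (i : ZMod p) = ((Units.mk0 _ hi' : (ZMod p)ˣ) : ZMod p) from rfl, h.sec_eq_sum,
    h.sec_eq_sum]
  refine Finset.sum_congr rfl fun j _ => ?_
  suffices hdd : h.dd ψ χ j = h.dd ψ χ' j by rw [hdd]
  by_cases hψ : ψ ∈ h.orbitN φ
  · obtain ⟨n, hn, rfl⟩ := h.mem_orbitN_iff.1 hψ
    rw [h.dd_conjChar ⟨n, hn⟩, h.dd_conjChar ⟨n, hn⟩, he]
  · rw [h.not_mem_bset_iff.1 (fun hm => hψ (h.mem_orbitN_of_mem_bset hχ hm)) j,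
      h.not_mem_bset_iff.1 (fun hm => hψ (h.mem_orbitN_of_mem_bset hχ' hm)) j]

theorem smul_mem_bset {φ : IrrCharacter (regPart p x)} {χ : IrrCharacter G}
    (u : PConjugate.exponents p G) (hχ : χ ∈ h.bset φ) : u • χ ∈ h.bset φ := by
  obtain ⟨k, hk⟩ := h.exists_unit_of_exponent u
  obtain ⟨j, hj⟩ := h.mem_bset_iff.1 hχ
  refine h.mem_bset_iff.2 ⟨j * k, ?_⟩
  rwa [h.dd_smul u hk, mul_inv_cancel_right]

theorem sum_sq (φ : IrrCharacter (regPart p x)) (j : (ZMod p)ˣ) :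
    ∑ χ : IrrCharacter G, h.dd φ χ j ^ 2 = 1 + (Nat.card (h.expGroup φ) : ℤ) := by
  simp only [sq, h.sum_dd_mul, mul_inv_cancel, one_mem, if_true]

theorem sum_sub_sq (φ : IrrCharacter (regPart p x)) (j j' : (ZMod p)ˣ) :
    ∑ χ : IrrCharacter G, (h.dd φ χ j - h.dd φ χ j') ^ 2 =
      if j * j'⁻¹ ∈ h.expGroup φ then 0 else 2 := by
  simp only [sub_sq, Finset.sum_add_distrib, Finset.sum_sub_distrib, h.sum_sq, mul_assoc,
    ← Finset.mul_sum, h.sum_dd_mul]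
  split_ifs <;> ring

/-- The exponent attached to a unit modulo `p`. -/
noncomputable def actU (s : (ZMod p)ˣ) : PConjugate.exponents p G :=
  (h.exists_exponent_eq s).choose

theorem dd_actU (s : (ZMod p)ˣ) (φ : IrrCharacter (regPart p x)) (χ : IrrCharacter G)
    (j : (ZMod p)ˣ) : h.dd φ (h.actU s • χ) j = h.dd φ χ (j * s⁻¹) :=
  h.dd_smul _ (h.exists_exponent_eq s).choose_spec φ χ j

theorem smul_eq_actU {φ : IrrCharacter (regPart p x)} {χ : IrrCharacter G}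
    (hχ : χ ∈ h.bset φ) (u : PConjugate.exponents p G) :
    ∃ s, u • χ = h.actU s • χ := by
  obtain ⟨k, hk⟩ := h.exists_unit_of_exponent u
  refine ⟨k, h.eq_of_dd_eq (h.smul_mem_bset u hχ) (h.smul_mem_bset _ hχ) (fun j => ?_) fun g hg => ?_⟩
  · rw [h.dd_smul u hk, h.dd_actU]
  · rw [h.smul_regular u χ hg, h.smul_regular _ χ hg]

theorem smul_eq_self_of_const {φ : IrrCharacter (regPart p x)} {χ : IrrCharacter G}
    (hχ : χ ∈ h.bset φ) (hc : ∀ j, h.dd φ χ j = h.dd φ χ 1) (u : PConjugate.exponents p G) :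
    u • χ = χ := by
  obtain ⟨k, hk⟩ := h.exists_unit_of_exponent u
  refine h.eq_of_dd_eq (h.smul_mem_bset u hχ) hχ (fun j => ?_) fun g hg => h.smul_regular u χ hg
  rw [h.dd_smul u hk, hc, hc j]

/-- A lattice bounds the total of a column on a class of `p`-conjugate characters. -/
theorem lattice_bound (φ : IrrCharacter (regPart p x)) {χ : IrrCharacter G} {S : ℤ}
    (hS : ∀ ψ ∈ MulAction.orbit (PConjugate.exponents p G) χ, ∑ j, h.dd φ ψ j = S) :
    ∃ μ : ℤ, 1 ≤ μ ∧ (μ * S = 0 ∨ μ * S = ((p - 1 : ℕ) : ℤ) ∨ μ * S = -((p - 1 : ℕ) : ℤ)) := by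
  haveI := Fintype.ofFinite (regPart p x)
  obtain ⟨d, ρ, m, hm, hsupp, hval, hlocal⟩ := h.exists_lattice χ
  refine ⟨∑ ψ, (m ψ : ℤ), ?_, ?_⟩
  · have h1 : (m χ : ℤ) ≤ ∑ ψ, (m ψ : ℤ) :=
      Finset.single_le_sum (fun ψ _ => Int.natCast_nonneg _) (Finset.mem_univ χ)
    omega
  have hD : ∑ i ∈ Finset.Ico 1 p, secCoef p x (fun g => emb p (ρ g).trace) φ i =
      -(((∑ ψ, (m ψ : ℤ)) * S : ℤ) : ℂ) := by
    have h1 : ∀ i, secCoef p x (fun g => emb p (ρ g).trace) φ i =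
        ∑ ψ : IrrCharacter G, (m ψ : ℂ) * sec p x φ ψ (i : ZMod p) := fun i => by
      simp only [← h.secCoef_eq_sec, secCoef, finsum_eq_sum_of_fintype, hval, Finset.sum_mul,
        Finset.mul_sum]
      rw [Finset.sum_comm]
      refine Finset.sum_congr rfl fun ψ _ => Finset.sum_congr rfl fun v _ => ?_
      ring
    simp only [h1]
    rw [Finset.sum_comm, Finset.sum_mul, Int.cast_sum, ← Finset.sum_neg_distrib]
    refine Finset.sum_congr rfl fun ψ _ => ?_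
    rw [← Finset.mul_sum]
    by_cases hψ : m ψ = 0
    · simp [hψ]
    have h2 : ∑ i ∈ Finset.Ico 1 p, sec p x φ ψ (i : ZMod p) =
        ∑ r : (ZMod p)ˣ, sec p x φ ψ r := by
      refine (Finset.sum_bij (fun (r : (ZMod p)ˣ) _ => (r : ZMod p).val) (fun r _ => ?_)
        (fun r _ r' _ e => Units.ext (ZMod.val_injective p e)) (fun i hi => ?_) fun r _ => ?_).symm
      · exact Finset.mem_Ico.2 ⟨Nat.pos_of_ne_zero fun e =>
          r.ne_zero ((ZMod.val_eq_zero _).1 e), ZMod.val_lt _⟩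
      · obtain ⟨hi1, hi2⟩ := Finset.mem_Ico.1 hi
        have hne : (i : ZMod p) ≠ 0 := fun e => by
          have := Nat.le_of_dvd hi1 ((ZMod.natCast_eq_zero_iff _ _).1 e)
          omega
        exact ⟨Units.mk0 _ hne, Finset.mem_univ _, by
          show (i : ZMod p).val = i
          exact ZMod.val_natCast_of_lt hi2⟩
      · rw [ZMod.natCast_zmod_val]
    rw [h2, h.sum_sec_eq, hS ψ (hsupp ψ hψ)]
    push_cast
    ring
  rcases sum_secCoef_mem h ρ φ hlocal with e | e | e <;> rw [hD] at e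
  · exact Or.inl (by exact_mod_cast neg_eq_zero.1 e)
  · refine Or.inr (Or.inr ?_)
    rw [neg_eq_iff_eq_neg] at e
    exact_mod_cast e
  · refine Or.inr (Or.inl ?_)
    rw [neg_inj] at e
    exact_mod_cast e

/-- The shape of `bset φ`. -/
structure Shape (φ : IrrCharacter (regPart p x)) (Y : Finset (IrrCharacter G)) (δ : ℤ)
    (m : IrrCharacter G → ℤ) : Prop where
  subset : Y ⊆ h.bset φ
  card_Y : Y.card = (h.expGroup φ).index
  card_X : (h.bset φ \ Y).card = Nat.card (h.expGroup φ)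
  orbit : ∀ θ ∈ Y, ∀ ψ, ψ ∈ Y ↔ ∃ u : PConjugate.exponents p G, u • θ = ψ
  fixed : ∀ χ ∈ h.bset φ \ Y, ∀ u : PConjugate.exponents p G, u • χ = χ
  δ_sign : δ = 1 ∨ δ = -1
  m_sign : ∀ χ ∈ h.bset φ \ Y, m χ = 1 ∨ m χ = -1
  dd_X : ∀ χ ∈ h.bset φ \ Y, ∀ j, h.dd φ χ j = m χ
  sum_Y : ∀ θ ∈ Y, ∑ j, h.dd φ θ j = (Nat.card (h.expGroup φ) : ℤ) * δ
  single : ∃ θ₀ ∈ Y, ∀ θ ∈ Y, h.dd φ θ 1 = if θ = θ₀ then δ else 0

theorem abs_eq_one_of_const {φ : IrrCharacter (regPart p x)} {χ : IrrCharacter G}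
    (hχ : χ ∈ h.bset φ) (hc : ∀ j, h.dd φ χ j = h.dd φ χ 1) :
    h.dd φ χ 1 = 1 ∨ h.dd φ χ 1 = -1 := by
  set m := h.dd φ χ 1
  have hm0 : m ≠ 0 := by
    obtain ⟨j, hj⟩ := h.mem_bset_iff.1 hχ
    rwa [hc] at hj
  have hS : ∀ ψ ∈ MulAction.orbit (PConjugate.exponents p G) χ,
      ∑ j, h.dd φ ψ j = ((p - 1 : ℕ) : ℤ) * m := by
    rintro _ ⟨u, rfl⟩
    show ∑ j, h.dd φ (u • χ) j = _
    rw [h.smul_eq_self_of_const hχ hc u, Finset.sum_congr rfl fun j _ => hc j, Finset.sum_const,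
      Finset.card_univ, ZMod.card_units, nsmul_eq_mul]
  obtain ⟨μ, hμ, hb⟩ := h.lattice_bound φ hS
  have hp1 : (0 : ℤ) < ((p - 1 : ℕ) : ℤ) := by
    have := h.prime.two_le
    omega
  rcases hb with e | e | e
  · exact absurd ((mul_eq_zero.1 e).resolve_left (by omega))
      (mul_ne_zero hp1.ne' hm0)
  · have : μ * m = 1 := mul_left_cancel₀ hp1.ne' (by linear_combination e)
    rcases Int.eq_one_or_neg_one_of_mul_eq_one' this with ⟨-, h2⟩ | ⟨-, h2⟩
    · exact Or.inl h2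
    · exact Or.inr h2
  · have : μ * (-m) = 1 := mul_left_cancel₀ hp1.ne' (by linear_combination -e)
    rcases Int.eq_one_or_neg_one_of_mul_eq_one' this with ⟨-, h2⟩ | ⟨-, h2⟩
    · exact Or.inr (by omega)
    · exact Or.inl (by omega)

theorem sum_bset {φ : IrrCharacter (regPart p x)} {F : IrrCharacter G → ℤ}
    (hF : ∀ χ, χ ∉ h.bset φ → F χ = 0) : ∑ χ : IrrCharacter G, F χ = ∑ χ ∈ h.bset φ, F χ :=
  (Finset.sum_subset (Finset.subset_univ _) fun χ _ hχ => hF χ hχ).symm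

/-- All columns constant: the case of index one. -/
theorem exists_shape_of_index_one {φ : IrrCharacter (regPart p x)}
    (ht : (h.expGroup φ).index = 1) : ∃ Y δ m, h.Shape φ Y δ m := by
  have hH := h.expGroup_eq_top_of_index_one ht
  have hc : ∀ χ j, h.dd φ χ j = h.dd φ χ 1 := fun χ j => by
    have h1 := h.sum_sub_sq φ j 1
    rw [if_pos (hH _)] at h1
    have h2 := (Finset.sum_eq_zero_iff_of_nonneg fun χ _ => sq_nonneg _).1 h1 χ (Finset.mem_univ χ)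
    exact sub_eq_zero.1 (pow_eq_zero_iff two_ne_zero |>.1 h2)
  have habs : ∀ χ ∈ h.bset φ, h.dd φ χ 1 = 1 ∨ h.dd φ χ 1 = -1 :=
    fun χ hχ => h.abs_eq_one_of_const hχ (hc χ)
  have hcard : (h.bset φ).card = Nat.card (h.expGroup φ) + 1 := by
    have h1 := h.sum_sq φ 1
    rw [h.sum_bset (φ := φ) fun χ hχ => by rw [h.not_mem_bset_iff.1 hχ]; rfl,
      Finset.sum_congr rfl (g := fun _ => (1 : ℤ)) fun χ hχ => by
        rcases habs χ hχ with e | e <;> rw [e] <;> rfl,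
      Finset.sum_const, nsmul_eq_mul, mul_one] at h1
    omega
  obtain ⟨θ, hθ⟩ := Finset.card_pos.1 (show 0 < (h.bset φ).card by omega)
  refine ⟨{θ}, h.dd φ θ 1, fun χ => h.dd φ χ 1, ?_⟩
  refine ⟨Finset.singleton_subset_iff.2 hθ, by rw [Finset.card_singleton, ht], ?_, ?_, ?_,
    habs θ hθ, fun χ hχ => habs χ (Finset.mem_sdiff.1 hχ).1, fun χ _ j => hc χ j, ?_,
    ⟨θ, Finset.mem_singleton_self θ, fun ψ hψ => by
      rw [if_pos (Finset.mem_singleton.1 hψ), Finset.mem_singleton.1 hψ]⟩⟩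
  · rw [Finset.card_sdiff_of_subset (Finset.singleton_subset_iff.2 hθ), Finset.card_singleton,
      hcard, Nat.add_sub_cancel]
  · intro θ' hθ' ψ
    rw [Finset.mem_singleton] at hθ' ⊢
    subst hθ'
    constructor
    · rintro rfl
      exact ⟨1, one_smul _ _⟩
    · rintro ⟨u, rfl⟩
      exact h.smul_eq_self_of_const hθ (hc θ') u
  · exact fun χ hχ => h.smul_eq_self_of_const (Finset.mem_sdiff.1 hχ).1 (hc χ)
  · intro θ' hθ'
    rw [Finset.mem_singleton.1 hθ', Finset.sum_congr rfl fun j _ => hc θ j, Finset.sum_const,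
      Finset.card_univ, nsmul_eq_mul]
    congr 2
    rw [← h.card_mul_index_expGroup φ |>.trans (ZMod.card_units p).symm, ht, mul_one]

theorem exists_dd_ne_mul_of_ne {φ : IrrCharacter (regPart p x)} {χ : IrrCharacter G}
    {g : (ZMod p)ˣ} (hg : ∀ s, s ∈ Subgroup.zpowers g)
    (hne : ∃ j, h.dd φ χ j ≠ h.dd φ χ 1) : ∃ j, h.dd φ χ j ≠ h.dd φ χ (j * g) := by
  by_contra hno
  push Not at hno
  obtain ⟨j, hj⟩ := hne
  refine hj ?_
  obtain ⟨n, rfl⟩ := mem_powers_iff_mem_zpowers.2 (hg j)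
  clear hj
  induction n with
  | zero => simp
  | succ n ih => rw [← ih]; simp only [pow_succ]; exact (hno _).symm

/-- The shape in general. -/
theorem exists_shape (φ : IrrCharacter (regPart p x)) : ∃ Y δ m, h.Shape φ Y δ m := by
  set H := h.expGroup φ with hH
  set e := Nat.card H with he
  set t := H.index with htdef
  by_cases ht : t = 1
  · exact h.exists_shape_of_index_one ht
  have het : e * t = p - 1 := h.card_mul_index_expGroup φ
  have hp2 := h.prime.two_le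
  have he0 : 0 < e := Nat.card_pos
  have ht2 : 2 ≤ t := by
    rcases Nat.eq_zero_or_pos t with e0 | e0
    · rw [e0, mul_zero] at het; omega
    · omega
  obtain ⟨g, hg⟩ := IsCyclic.exists_generator (α := (ZMod p)ˣ)
  have hgH : g ∉ H := fun hm => ht (Subgroup.index_eq_one.2
    (eq_top_iff.2 fun s _ => (Subgroup.zpowers_le.2 hm) (hg s)))
  -- the two moved characters
  set f : IrrCharacter G → ℤ := fun χ => h.dd φ χ 1 with hf
  set D : IrrCharacter G → ℤ := fun χ => h.dd φ χ 1 - h.dd φ χ g with hD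
  have hDsq : ∑ χ, D χ ^ 2 = 2 := by
    have := h.sum_sub_sq φ 1 g
    rwa [one_mul, if_neg (fun hm => hgH ((Subgroup.inv_mem_iff H).1 hm))] at this
  set S := Finset.univ.filter fun χ : IrrCharacter G => D χ ≠ 0 with hS
  have hSsum : ∑ χ ∈ S, D χ ^ 2 = 2 := by
    rw [← hDsq]
    exact Finset.sum_subset (Finset.subset_univ S) fun χ _ hχ => by
      have : D χ = 0 := by simpa [hS] using hχ
      rw [this]; rfl
  have hScard : S.card ≤ 2 := by
    have h1 : (S.card : ℤ) ≤ 2 := by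
      rw [← hSsum, show (S.card : ℤ) = ∑ χ ∈ S, (1 : ℤ) by simp]
      refine Finset.sum_le_sum fun χ hχ => ?_
      have h0 : D χ ≠ 0 := (Finset.mem_filter.1 hχ).2
      have := sq_pos_of_ne_zero h0
      omega
    exact_mod_cast h1
  have hSne : S.Nonempty := Finset.nonempty_of_sum_ne_zero (s := S) (f := fun χ => D χ ^ 2)
    (by rw [hSsum]; norm_num)
  have hSb : ∀ χ ∈ S, χ ∈ h.bset φ := fun χ hχ => by
    by_contra hb
    refine (Finset.mem_filter.1 hχ).2 ?_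
    show h.dd φ χ 1 - h.dd φ χ g = 0
    rw [h.not_mem_bset_iff.1 hb, h.not_mem_bset_iff.1 hb, sub_zero]
  -- classes
  set Ω : IrrCharacter G → Finset (IrrCharacter G) := fun χ =>
    Finset.univ.filter fun ψ => ∃ u : PConjugate.exponents p G, u • χ = ψ with hΩ
  have hΩmem : ∀ χ ψ, ψ ∈ Ω χ ↔ ∃ u : PConjugate.exponents p G, u • χ = ψ := fun χ ψ => by
    simp [hΩ]
  have hmove : ∀ χ ψ, (u : PConjugate.exponents p G) → ψ ∈ Ω χ → u • ψ ∈ Ω χ := by
    intro χ ψ u hψ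
    obtain ⟨w, rfl⟩ := (hΩmem χ ψ).1 hψ
    exact (hΩmem χ _).2 ⟨u * w, mul_smul u w χ⟩
  have hΩeq : ∀ χ ψ, ψ ∈ Ω χ → Ω ψ = Ω χ := by
    intro χ ψ hψ
    obtain ⟨w, rfl⟩ := (hΩmem χ ψ).1 hψ
    ext ρ
    simp only [hΩmem]
    exact ⟨fun ⟨u, hu⟩ => ⟨u * w, by rw [mul_smul, hu]⟩,
      fun ⟨u, hu⟩ => ⟨u * w⁻¹, by rw [mul_smul, inv_smul_smul, hu]⟩⟩
  have hsum0 : ∀ χ, ∑ ρ ∈ Ω χ, D ρ = 0 := by
    intro χ
    have h1 : ∑ ρ ∈ Ω χ, h.dd φ ρ g = ∑ ρ ∈ Ω χ, h.dd φ ρ 1 := by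
      refine Finset.sum_nbij' (fun ρ => (h.actU g)⁻¹ • ρ) (fun ρ => h.actU g • ρ)
        (fun ρ hρ => hmove χ ρ _ hρ) (fun ρ hρ => hmove χ ρ _ hρ)
        (fun ρ _ => smul_inv_smul _ _) (fun ρ _ => inv_smul_smul _ _) fun ρ _ => ?_
      conv_lhs => rw [← smul_inv_smul (h.actU g) ρ, h.dd_actU, mul_inv_cancel]
    simp only [hD, Finset.sum_sub_distrib, h1, sub_self]
  have hsub : ∀ χ, (∃ ρ ∈ Ω χ, ρ ∈ S) → S ⊆ Ω χ := by
    rintro χ ⟨ρ, hρΩ, hρS⟩
    obtain ⟨ρ', hρ', hρne, hρD⟩ : ∃ ρ' ∈ Ω χ, ρ' ≠ ρ ∧ D ρ' ≠ 0 := by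
      by_contra hno
      push Not at hno
      refine (Finset.mem_filter.1 hρS).2 ?_
      rw [← hsum0 χ, Finset.sum_eq_single ρ hno (fun hn => absurd hρΩ hn)]
    have hρ'S : ρ' ∈ S := Finset.mem_filter.2 ⟨Finset.mem_univ _, hρD⟩
    have heq : ({ρ, ρ'} : Finset (IrrCharacter G)) = S := Finset.eq_of_subset_of_card_le
      (Finset.insert_subset hρS (Finset.singleton_subset_iff.2 hρ'S))
      (by rw [Finset.card_pair hρne.symm]; exact hScard)
    rw [← heq]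
    exact Finset.insert_subset hρΩ (Finset.singleton_subset_iff.2 hρ')
  obtain ⟨θ₁, hθ₁⟩ := hSne
  set Y := Ω θ₁ with hY
  have hθ₁Y : θ₁ ∈ Y := (hΩmem θ₁ θ₁).2 ⟨1, one_smul _ _⟩
  have hθ₁b := hSb θ₁ hθ₁
  have hYb : ∀ ρ ∈ Y, ρ ∈ h.bset φ := fun ρ hρ => by
    obtain ⟨u, rfl⟩ := (hΩmem θ₁ ρ).1 hρ
    exact h.smul_mem_bset u hθ₁b
  have hconst : ∀ χ ∈ h.bset φ, χ ∉ Y → ∀ j, h.dd φ χ j = h.dd φ χ 1 := by
    intro χ hχ hχY
    by_contra hne
    push Not at hne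
    obtain ⟨j, hj⟩ := h.exists_dd_ne_mul_of_ne hg hne
    have hmem : h.actU j⁻¹ • χ ∈ S := Finset.mem_filter.2 ⟨Finset.mem_univ _, by
      show h.dd φ (h.actU j⁻¹ • χ) 1 - h.dd φ (h.actU j⁻¹ • χ) g ≠ 0
      rw [h.dd_actU, h.dd_actU, inv_inv, one_mul, mul_comm g, sub_ne_zero]
      exact hj⟩
    have h1 : θ₁ ∈ Ω χ := hsub χ ⟨_, (hΩmem χ _).2 ⟨_, rfl⟩, hmem⟩ hθ₁
    exact hχY (by rw [hY, hΩeq χ θ₁ h1]; exact (hΩmem χ χ).2 ⟨1, one_smul _ _⟩)
  -- stabilizers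
  have hstab : ∀ θ ∈ Y, ∀ s, h.actU s • θ = θ ↔ s ∈ H := by
    intro θ hθ s
    constructor
    · intro hfix
      by_contra hs
      have h1 := h.sum_sub_sq φ 1 s⁻¹
      rw [one_mul, inv_inv, if_neg hs] at h1
      refine (two_ne_zero : (2 : ℤ) ≠ 0) (h1.symm.trans (Finset.sum_eq_zero fun χ _ => ?_))
      suffices hh : h.dd φ χ 1 = h.dd φ χ s⁻¹ by rw [hh]; simp
      by_cases hχ : χ ∈ h.bset φ
      swap
      · rw [h.not_mem_bset_iff.1 hχ, h.not_mem_bset_iff.1 hχ]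
      by_cases hχY : χ ∈ Y
      · obtain ⟨u, hu⟩ := (hΩmem θ χ).1 (by rw [hΩeq θ₁ θ hθ]; exact hχY)
        have : h.actU s • χ = χ := by rw [← hu, smul_comm, hfix]
        conv_lhs => rw [← this, h.dd_actU, one_mul]
      · exact (hconst χ hχ hχY s⁻¹).symm
    · intro hs
      refine h.eq_of_dd_eq (h.smul_mem_bset _ (hYb θ hθ)) (hYb θ hθ) (fun j => ?_)
        fun g' hg' => h.smul_regular _ θ hg'
      rw [h.dd_actU]
      have h1 := h.sum_sub_sq φ j (j * s⁻¹)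
      rw [mul_inv_rev, inv_inv, mul_comm s, mul_inv_cancel_left, if_pos hs] at h1
      have h2 := (Finset.sum_eq_zero_iff_of_nonneg fun χ _ => sq_nonneg _).1 h1 θ
        (Finset.mem_univ θ)
      exact (sub_eq_zero.1 (pow_eq_zero_iff two_ne_zero |>.1 h2)).symm
  have hfib : ∀ θ ∈ Y, ∀ F : IrrCharacter G → ℤ,
      ∑ s : (ZMod p)ˣ, F (h.actU s • θ) = (e : ℤ) * ∑ ρ ∈ Y, F ρ := by
    intro θ hθ F
    rw [← Finset.sum_fiberwise_of_maps_to (t := Y) (g := fun s => h.actU s • θ)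
      (fun s _ => hmove θ₁ θ _ hθ) fun s => F (h.actU s • θ), Finset.mul_sum]
    refine Finset.sum_congr rfl fun ρ hρ => ?_
    rw [Finset.sum_congr rfl (g := fun _ => F ρ) fun s hs => by rw [(Finset.mem_filter.1 hs).2],
      Finset.sum_const, nsmul_eq_mul]
    congr 1
    obtain ⟨u, hu⟩ := (hΩmem θ ρ).1 (by rw [hΩeq θ₁ θ hθ]; exact hρ)
    obtain ⟨s₀, hs₀⟩ := h.smul_eq_actU (hYb θ hθ) u
    rw [hs₀] at hu
    rw [he, Nat.card_eq_fintype_card (α := H), Fintype.card_subtype]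
    norm_cast
    refine Finset.card_nbij' (fun s => s * s₀⁻¹) (fun s => s * s₀) ?_ ?_
      (fun s _ => inv_mul_cancel_right s s₀) (fun s _ => mul_inv_cancel_right s s₀)
    · intro s hs
      refine Finset.mem_filter.2 ⟨Finset.mem_univ _, (hstab θ hθ _).1 ?_⟩
      have hs' : h.actU s • θ = ρ := (Finset.mem_filter.1 hs).2
      refine h.eq_of_dd_eq (h.smul_mem_bset _ (hYb θ hθ)) (hYb θ hθ) (fun j => ?_)
        fun g' hg' => h.smul_regular _ θ hg'
      rw [h.dd_actU, mul_inv_rev, inv_inv]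
      have h1 := congrArg (fun c => h.dd φ c (j * s₀)) (hs'.trans hu.symm)
      simp only [h.dd_actU, mul_inv_cancel_right] at h1
      rwa [mul_assoc] at h1
    · intro s hs
      refine Finset.mem_filter.2 ⟨Finset.mem_univ _, ?_⟩
      have hs' := (hstab θ hθ s).2 (Finset.mem_filter.1 hs).2
      rw [← hu]
      refine h.eq_of_dd_eq (h.smul_mem_bset _ (hYb θ hθ)) (h.smul_mem_bset _ (hYb θ hθ))
        (fun j => ?_) fun g' hg' => by rw [h.smul_regular _ θ hg', h.smul_regular _ θ hg']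
      rw [h.dd_actU, h.dd_actU]
      conv_rhs => rw [← hs', h.dd_actU]
      congr 1
      group
  have hYcard : Y.card = t := by
    have h1 := hfib θ₁ hθ₁Y fun _ => 1
    rw [Finset.sum_const, Finset.sum_const, Finset.card_univ, ZMod.card_units, nsmul_eq_mul,
      nsmul_eq_mul, mul_one, mul_one, ← het] at h1
    have h2 : e * t = e * Y.card := by exact_mod_cast h1
    exact (Nat.eq_of_mul_eq_mul_left he0 h2).symm
  have hcolsum : ∀ θ ∈ Y, ∑ j, h.dd φ θ j = (e : ℤ) * ∑ ρ ∈ Y, f ρ := by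
    intro θ hθ
    rw [← hfib θ hθ f]
    refine Fintype.sum_equiv (Equiv.inv _) _ _ fun j => ?_
    simp only [hf, Equiv.inv_apply, h.dd_actU, inv_inv, one_mul]
  -- the squared differences
  have hpair : ∀ ρ ∈ Y, ∀ ρ' ∈ Y, (f ρ - f ρ') ^ 2 ≤ 2 := by
    intro ρ hρ ρ' hρ'
    obtain ⟨u, hu⟩ := (hΩmem ρ ρ').1 (by rw [hΩeq θ₁ ρ hρ]; exact hρ')
    obtain ⟨s, hs⟩ := h.smul_eq_actU (hYb ρ hρ) u
    rw [← hu, hs]
    simp only [hf, h.dd_actU, one_mul]
    have h1 := h.sum_sub_sq φ 1 s⁻¹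
    have h2 : (h.dd φ ρ 1 - h.dd φ ρ s⁻¹) ^ 2 ≤
        ∑ χ : IrrCharacter G, (h.dd φ χ 1 - h.dd φ χ s⁻¹) ^ 2 :=
      Finset.single_le_sum (f := fun χ : IrrCharacter G => (h.dd φ χ 1 - h.dd φ χ s⁻¹) ^ 2)
        (fun χ _ => sq_nonneg _) (Finset.mem_univ ρ)
    rw [h1] at h2
    split_ifs at h2 <;> omega
  have hvar : (Y.card : ℤ) * ∑ a ∈ Y, f a ^ 2 - (∑ a ∈ Y, f a) ^ 2 = (Y.card : ℤ) - 1 := by
    have hR : ∑ ρ ∈ Y, ∑ ρ' ∈ Y, (f ρ - f ρ') ^ 2 =
        2 * ((Y.card : ℤ) * ∑ a ∈ Y, f a ^ 2 - (∑ a ∈ Y, f a) ^ 2) := by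
      simp only [sub_sq, Finset.sum_add_distrib, Finset.sum_sub_distrib, Finset.sum_const,
        nsmul_eq_mul, ← Finset.mul_sum, ← Finset.sum_mul]
      ring
    have hL : (e : ℤ) * ∑ ρ ∈ Y, ∑ ρ' ∈ Y, (f ρ - f ρ') ^ 2 =
        2 * ((e : ℤ) * ((t : ℤ) - 1)) := by
      rw [Finset.mul_sum,
        Finset.sum_congr rfl fun ρ hρ => (hfib ρ hρ fun ρ' => (f ρ - f ρ') ^ 2).symm,
        Finset.sum_comm,
        Finset.sum_congr rfl (g := fun s => if s ∈ H then (0 : ℤ) else 2) fun s _ => ?_,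
        Finset.sum_ite, Finset.sum_const_zero, zero_add, Finset.sum_const, nsmul_eq_mul]
      · have h1 : (Finset.univ.filter fun s => s ∈ H).card = e := by
          rw [he, Nat.card_eq_fintype_card, Fintype.card_subtype]
        have h2 := Finset.card_filter_add_card_filter_not (s := (Finset.univ : Finset (ZMod p)ˣ))
          (fun s => s ∈ H)
        rw [h1, Finset.card_univ, ZMod.card_units, ← het] at h2
        have h3 : ((Finset.univ.filter fun s => s ∉ H).card : ℤ) = (e : ℤ) * t - e := by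
          have : (((e + (Finset.univ.filter fun s => s ∉ H).card : ℕ)) : ℤ) = ((e * t : ℕ) : ℤ) :=
            congrArg _ h2
          push_cast at this
          linarith
        rw [h3]
        ring
      · have h1 := h.sum_sub_sq φ 1 s⁻¹
        rw [one_mul, inv_inv] at h1
        rw [← h1, ← Finset.sum_subset (Finset.subset_univ Y) fun χ _ hχY => ?_]
        · simp only [hf, h.dd_actU, one_mul]
        · by_cases hχ : χ ∈ h.bset φ
          · rw [hconst χ hχ hχY s⁻¹, sub_self]; rfl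
          · rw [h.not_mem_bset_iff.1 hχ, h.not_mem_bset_iff.1 hχ, sub_zero]; rfl
    rw [hR, mul_left_comm] at hL
    have he' : (e : ℤ) ≠ 0 := Int.natCast_ne_zero.2 he0.ne'
    rw [hYcard] at hL ⊢
    exact mul_left_cancel₀ he' (mul_left_cancel₀ two_ne_zero hL)
  obtain ⟨α, δ, θ₀, hθ₀, hδ, hval⟩ := exists_single_of_var Y f (by omega) hpair hvar
  have hfsum : ∑ ρ ∈ Y, f ρ = (t : ℤ) * α + δ := by
    rw [Finset.sum_congr rfl hval, Finset.sum_add_distrib, Finset.sum_const, nsmul_eq_mul, hYcard,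
      Finset.sum_ite_eq', if_pos hθ₀]
  -- the lattice
  obtain ⟨δ', θ₀', hθ₀', hδ', hval'⟩ : ∃ (δ' : ℤ) (θ₀' : IrrCharacter G), θ₀' ∈ Y ∧
      (δ' = 1 ∨ δ' = -1) ∧ ∀ ρ ∈ Y, f ρ = if ρ = θ₀' then δ' else 0 := by
    obtain ⟨μ, hμ, hb⟩ := h.lattice_bound φ (χ := θ₁) (S := (e : ℤ) * ((t : ℤ) * α + δ))
      fun ψ hψ => by
        obtain ⟨u, hu⟩ := hψ
        rw [hcolsum ψ ((hΩmem θ₁ ψ).2 ⟨u, hu⟩), hfsum]
    have hpe : (((p - 1 : ℕ)) : ℤ) = (e : ℤ) * t := by rw [← het]; push_cast; rfl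
    have he' : (e : ℤ) ≠ 0 := Int.natCast_ne_zero.2 he0.ne'
    rw [hpe] at hb
    set σ := (t : ℤ) * α + δ
    have hσ : σ ≠ 0 := by
      intro h0
      have h1 : (t : ℤ) ∣ 1 := by
        rcases hδ with e1 | e1
        · exact ⟨-α, by simp only [σ, e1] at h0; linarith⟩
        · exact ⟨α, by simp only [σ, e1] at h0; linarith⟩
      have := Int.le_of_dvd one_pos h1
      omega
    have hdvd : σ ∣ (t : ℤ) := by
      rcases hb with e1 | e1 | e1
      · exact absurd ((mul_eq_zero.1 e1).resolve_left (by omega)) (mul_ne_zero he' hσ)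
      · exact ⟨μ, mul_left_cancel₀ he' (by linear_combination -e1)⟩
      · exact ⟨-μ, mul_left_cancel₀ he' (by linear_combination e1)⟩
    have hσ1 : σ = 1 ∨ σ = -1 := by
      have h1 : σ ∣ δ := by
        have := dvd_sub (dvd_refl σ) (dvd_mul_of_dvd_left hdvd α)
        simpa [σ] using this
      rcases hδ with e1 | e1 <;> rw [e1] at h1
      · exact Int.isUnit_iff.1 (isUnit_of_dvd_one h1)
      · exact Int.isUnit_iff.1 (isUnit_of_dvd_one (dvd_neg.1 h1))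
    rcases eq_or_ne α 0 with e1 | e1
    · exact ⟨δ, θ₀, hθ₀, hδ, fun ρ hρ => by rw [hval ρ hρ, e1, zero_add]⟩
    · have ht' : t = 2 ∧ α = -δ := by
        have htz : (2 : ℤ) ≤ (t : ℤ) := by exact_mod_cast ht2
        simp only [σ] at hσ1
        rcases lt_or_gt_of_ne e1 with h1 | h1
        · have h2 : (t : ℤ) * α ≤ 2 * α := mul_le_mul_of_nonpos_right htz h1.le
          have h4 : α = -1 := by omega
          rw [h4] at hσ1
          constructor <;> omega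
        · have h2 : 2 * α ≤ (t : ℤ) * α := mul_le_mul_of_nonneg_right htz h1.le
          have h4 : α = 1 := by omega
          rw [h4] at hσ1
          constructor <;> omega
      have hc2 : (Y.erase θ₀).card = 1 := by rw [Finset.card_erase_of_mem hθ₀]; omega
      obtain ⟨θ', hθ'⟩ := Finset.card_eq_one.1 hc2
      have hθ'm : θ' ∈ Y.erase θ₀ := by simp [hθ']
      refine ⟨-δ, θ', (Finset.mem_erase.1 hθ'm).2, by omega, fun ρ hρ => ?_⟩
      rw [hval ρ hρ, ht'.2]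
      by_cases hρ0 : ρ = θ₀
      · rw [if_pos hρ0, if_neg (fun e2 => (Finset.mem_erase.1 hθ'm).1 (e2.symm.trans hρ0))]
        ring
      · have : ρ = θ' := by
          simpa [hθ'] using (Finset.mem_erase.2 ⟨hρ0, hρ⟩ : ρ ∈ Y.erase θ₀)
        rw [if_neg hρ0, if_pos this]
        ring
  have hfsum' : ∑ ρ ∈ Y, f ρ = δ' := by
    rw [Finset.sum_congr rfl hval', Finset.sum_ite_eq', if_pos hθ₀']
  have hX : ∀ χ ∈ h.bset φ \ Y, ∀ j, h.dd φ χ j = h.dd φ χ 1 := fun χ hχ =>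
    hconst χ (Finset.mem_sdiff.1 hχ).1 (Finset.mem_sdiff.1 hχ).2
  have hXm : ∀ χ ∈ h.bset φ \ Y, f χ = 1 ∨ f χ = -1 := fun χ hχ =>
    h.abs_eq_one_of_const (Finset.mem_sdiff.1 hχ).1 (hX χ hχ)
  refine ⟨Y, δ', f, fun ρ hρ => hYb ρ hρ, hYcard, ?_, ?_, ?_, hδ', hXm, hX, ?_,
    ⟨θ₀', hθ₀', hval'⟩⟩
  · have h1 := h.sum_sq φ 1
    have hsX : ∑ χ ∈ h.bset φ \ Y, h.dd φ χ 1 ^ 2 = ((h.bset φ \ Y).card : ℤ) := by
      rw [show ((h.bset φ \ Y).card : ℤ) = ∑ χ ∈ h.bset φ \ Y, (1 : ℤ) by simp]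
      refine Finset.sum_congr rfl fun χ hχ => ?_
      rcases hXm χ hχ with e1 | e1 <;> simp only [hf] at e1 <;> rw [e1] <;> rfl
    have hsY : ∑ ρ ∈ Y, h.dd φ ρ 1 ^ 2 = 1 := by
      rw [Finset.sum_eq_single θ₀' (fun ρ hρ hne => ?_) (fun hn => absurd hθ₀' hn)]
      · have := hval' θ₀' hθ₀'
        simp only [hf, if_true] at this
        rw [this]
        rcases hδ' with e1 | e1 <;> rw [e1] <;> rfl
      · have := hval' ρ hρ
        simp only [hf, if_neg hne] at this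
        rw [this]; rfl
    rw [h.sum_bset (φ := φ) fun χ hχ => by rw [h.not_mem_bset_iff.1 hχ]; rfl,
      ← Finset.sum_sdiff (fun ρ hρ => hYb ρ hρ : Y ⊆ h.bset φ), hsX, hsY] at h1
    have : ((h.bset φ \ Y).card : ℤ) = (e : ℤ) := by linarith
    exact_mod_cast this
  · intro θ hθ ψ
    rw [hY, ← hΩeq θ₁ θ hθ]
    exact hΩmem θ ψ
  · intro χ hχ
    exact h.smul_eq_self_of_const (Finset.mem_sdiff.1 hχ).1 (hX χ hχ)
  · intro θ hθ
    rw [hcolsum θ hθ, hfsum']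

end HypOne

end CfsgLib.DefectOne
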