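import Mathlib.RingTheory.WittVector.Complete
import Mathlib.RingTheory.WittVector.DiscreteValuationRing
import Mathlib.FieldTheory.IsAlgClosed.Classification
import Mathlib.FieldTheory.IsAlgClosed.AlgebraicClosure
import Mathlib.Analysis.Complex.Cardinality
import Mathlib.Analysis.Complex.Polynomial.Basic
import Mathlib.RingTheory.RootsOfUnity.Complex
import Mathlib.RingTheory.RootsOfUnity.AlgebraicallyClosed

/-!
# The Witt vectors of the algebraic closure of the prime field, embedded in the complex numbers
-/

set_option autoImplicit false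

namespace CfsgLib.DefectOne

open Cardinal

variable (p : ℕ) [Fact p.Prime]

/-- The algebraically closed residue field. -/
abbrev kbar : Type := AlgebraicClosure (ZMod p)

/-- The unramified coefficient ring. -/
abbrev WR : Type := WittVector p (kbar p)

theorem mk_kbar : #(kbar p) = ℵ₀ := by
  refine le_antisymm ?_ (aleph0_le_mk _)
  refine (Algebra.IsAlgebraic.cardinalMk_le_max (ZMod p) (kbar p)).trans ?_
  exact max_le (mk_le_aleph0) le_rfl

theorem mk_WR : #(WR p) = 𝔠 := by
  have h : #(WR p) = #(ℕ → kbar p) := Cardinal.mk_congr
    { toFun := fun x n => x.coeff n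
      invFun := WittVector.mk p
      left_inv := fun x => by ext n; simp
      right_inv := fun f => funext fun n => by simp }
  rw [h, ← Cardinal.power_def, mk_kbar, Cardinal.mk_nat, Cardinal.aleph0_power_aleph0]

instance charZero_WR : CharZero (WR p) := by
  refine charZero_of_inj_zero fun n hn => ?_
  induction n using Nat.strong_induction_on with
  | _ n ih =>
    rcases Nat.eq_zero_or_pos n with h | h
    · exact h
    · have h0 : (n : kbar p) = 0 := by
        have := congrArg (WittVector.constantCoeff (p := p) (R := kbar p)) hn
        simpa using this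
      obtain ⟨m, rfl⟩ := (CharP.cast_eq_zero_iff (kbar p) p n).1 h0
      push_cast at hn
      have hm : (m : WR p) = 0 := WittVector.eq_zero_of_p_mul_eq_zero _ (by rw [mul_comm]; exact hn)
      rcases Nat.eq_zero_or_pos m with h' | h'
      · rw [h', mul_zero]
      · have := ih m (lt_mul_of_one_lt_left h' (Fact.out : p.Prime).one_lt) hm
        omega

/-- The fraction field of the coefficient ring, algebraically closed. -/
abbrev WKbar : Type := AlgebraicClosure (FractionRing (WR p))

theorem mk_WKbar : #(WKbar p) = 𝔠 := by
  refine le_antisymm ?_ ?_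
  · refine (Algebra.IsAlgebraic.cardinalMk_le_max (FractionRing (WR p)) (WKbar p)).trans
      (max_le ?_ aleph0_le_continuum)
    have hsurj : Function.Surjective (fun q : WR p × WR p =>
        algebraMap (WR p) (FractionRing (WR p)) q.1 / algebraMap (WR p) (FractionRing (WR p)) q.2) :=
      fun z => by
        obtain ⟨a, b, -, hab⟩ := IsFractionRing.div_surjective (A := WR p) z
        exact ⟨(a, b), hab⟩
    refine (Cardinal.mk_le_of_surjective hsurj).trans ?_
    rw [Cardinal.mk_prod, Cardinal.lift_id, mk_WR, continuum_mul_self]
  · rw [← mk_WR p]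
    exact Cardinal.mk_le_of_injective ((FaithfulSMul.algebraMap_injective
      (FractionRing (WR p)) (WKbar p)).comp (IsFractionRing.injective (WR p) _))

theorem exists_wkbarEquiv : Nonempty (WKbar p ≃+* ℂ) := by
  refine IsAlgClosed.ringEquiv_of_equiv_of_charZero ?_ ?_
  · rw [mk_WKbar]; exact aleph0_lt_continuum
  · rw [← Cardinal.eq, mk_WKbar, Cardinal.mk_complex]

/-- The embedding of the coefficient ring in `ℂ`. -/
noncomputable def emb : WR p →+* ℂ :=
  ((exists_wkbarEquiv p).some.toRingHom.comp
    (algebraMap (FractionRing (WR p)) (WKbar p))).comp (algebraMap (WR p) (FractionRing (WR p)))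

theorem emb_injective : Function.Injective (emb p) :=
  (((exists_wkbarEquiv p).some.injective).comp
    (FaithfulSMul.algebraMap_injective (FractionRing (WR p)) (WKbar p))).comp
    (IsFractionRing.injective (WR p) _)

/-- Reduction to the residue field. -/
noncomputable def res : WR p →+* kbar p := WittVector.constantCoeff

theorem res_surjective : Function.Surjective (res p) := WittVector.constantCoeff_surjective p

theorem res_eq_zero {x : WR p} : res p x = 0 ↔ (p : WR p) ∣ x := by
  rw [← Ideal.mem_span_singleton, WittVector.mem_span_p_iff_coeff_zero_eq_zero]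
  rfl

theorem isUnit_of_res_ne_zero {x : WR p} (hx : res p x ≠ 0) : IsUnit x :=
  WittVector.isUnit_of_coeff_zero_ne_zero x hx

/-- Every root of unity of order prime to `p` lies in the image. -/
theorem mem_range_emb_of_pow {n : ℕ} (hn : ¬ p ∣ n) {z : ℂ} (hz : z ^ n = 1) :
    z ∈ (emb p).range := by
  have hn0 : n ≠ 0 := fun h => hn (h ▸ dvd_zero p)
  haveI : NeZero (n : kbar p) := ⟨fun h => hn ((CharP.cast_eq_zero_iff (kbar p) p n).1 h)⟩
  haveI : NeZero n := ⟨hn0⟩
  obtain ⟨ζ, hζ⟩ := HasEnoughRootsOfUnity.exists_primitiveRoot (kbar p) n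
  have h1 : IsPrimitiveRoot (WittVector.teichmuller p ζ) n := by
    refine hζ.map_of_injective (f := WittVector.teichmuller p) fun a b hab => ?_
    have := congrArg (fun w : WR p => w.coeff 0) hab
    simpa [WittVector.teichmuller_coeff_zero] using this
  have h2 : IsPrimitiveRoot (emb p (WittVector.teichmuller p ζ)) n :=
    h1.map_of_injective (emb_injective p)
  obtain ⟨i, -, hi⟩ := h2.eq_pow_of_pow_eq_one hz
  exact ⟨WittVector.teichmuller p ζ ^ i, by rw [map_pow, hi]⟩

end CfsgLib.DefectOne
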